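import Mathlib

/-!
# Almost simple groups in which the normalizers of two-prime subgroups are maximal: basics
-/

set_option autoImplicit false

namespace Cfsg.Lib.MaxNorm

open Subgroup

universe u

variable {Γ : Type u} [Group Γ] [Finite Γ]

/-- The order of `H` has at most two prime divisors. -/
def TwoPrimes {G : Type*} [Group G] (H : Subgroup G) : Prop :=
  ∃ p q : ℕ, p.Prime ∧ q.Prime ∧ ∀ r : ℕ, r.Prime → r ∣ Nat.card H → r = p ∨ r = q

theorem prime_eq_of_dvd_pGroup {p r : ℕ} [Fact p.Prime] {X : Subgroup Γ} (hX : IsPGroup p X) (hr : r.Prime)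
    (h : r ∣ Nat.card X) : r = p := by
  obtain ⟨k, hk⟩ := IsPGroup.iff_card.1 hX
  rw [hk] at h
  exact (Nat.prime_dvd_prime_iff_eq hr Fact.out).1 (hr.dvd_of_dvd_pow h)

theorem twoPrimes_of_pGroup {p : ℕ} [hp : Fact p.Prime] {X : Subgroup Γ} (hX : IsPGroup p X) : TwoPrimes X :=
  ⟨p, p, hp.out, hp.out, fun _ hr h => Or.inl (prime_eq_of_dvd_pGroup hX hr h)⟩

omit [Finite Γ] in
theorem isPGroup_zpowers {p k : ℕ} {y : Γ} (hy : orderOf y = p ^ k) : IsPGroup p (zpowers y) :=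
  IsPGroup.of_card (by rw [Nat.card_zpowers, hy])

theorem pow_card_eq_one {X : Subgroup Γ} {x : Γ} (hx : x ∈ X) : x ^ Nat.card X = 1 := by
  have h := pow_card_eq_one' (x := (⟨x, hx⟩ : X))
  exact congrArg Subtype.val h

/-- An element of a product with order prime to the top factor lies in the bottom one. -/
theorem mem_of_coprime {N V : Subgroup Γ} (hV : V ≤ normalizer (N : Set Γ)) {x : Γ} (hx : x ∈ N ⊔ V)
    (ho : (orderOf x).Coprime (Nat.card V)) : x ∈ N := by
  have hx' : x ∈ ((N ⊔ V : Subgroup Γ) : Set Γ) := hx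
  rw [coe_mul_of_right_le_normalizer_left N V hV] at hx'
  obtain ⟨n, hn, v, hv, rfl⟩ := Set.mem_mul.1 hx'
  have key : ∀ k : ℕ, (n * v) ^ k * (v ^ k)⁻¹ ∈ N := by
    intro k
    induction k with
    | zero => simp [N.one_mem]
    | succ k ih =>
      have h1 : (n * v) ^ (k + 1) * (v ^ (k + 1))⁻¹ =
          (n * v) ^ k * (v ^ k)⁻¹ * (v ^ k * n * (v ^ k)⁻¹) := by
        rw [pow_succ, pow_succ]; group
      rw [h1]
      exact N.mul_mem ih ((mem_normalizer_iff.1 (hV (V.pow_mem hv k)) n).1 hn)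
  have h1 : v ^ orderOf (n * v) ∈ N := by
    have h := key (orderOf (n * v))
    rw [pow_orderOf_eq_one, one_mul] at h
    exact inv_mem_iff.1 h
  obtain ⟨m, hm⟩ := exists_pow_eq_self_of_coprime
    (ho.coprime_dvd_right (orderOf_dvd_of_pow_eq_one (pow_card_eq_one hv)))
  exact N.mul_mem hn (hm ▸ N.pow_mem h1 m)

theorem dvd_card_sup {N V : Subgroup Γ} (hV : V ≤ normalizer (N : Set Γ)) {r : ℕ} (hr : r.Prime)
    (h : r ∣ Nat.card ↥(N ⊔ V)) : r ∣ Nat.card N ∨ r ∣ Nat.card V := by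
  haveI : Fact r.Prime := ⟨hr⟩
  by_contra hc
  push Not at hc
  obtain ⟨x, hx⟩ := exists_prime_orderOf_dvd_card' r h
  rw [← Subgroup.orderOf_coe] at hx
  have hco : (orderOf (x : Γ)).Coprime (Nat.card V) := by rw [hx]; exact hr.coprime_iff_not_dvd.2 hc.2
  have hN := mem_of_coprime hV x.2 hco
  exact hc.1 (hx ▸ Subgroup.orderOf_dvd_natCard N hN)

theorem twoPrimes_sup {p q : ℕ} [hp : Fact p.Prime] [hq : Fact q.Prime] {N V : Subgroup Γ} (hN : IsPGroup p N)
    (hV : IsPGroup q V) (hle : V ≤ normalizer (N : Set Γ)) : TwoPrimes (N ⊔ V) :=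
  ⟨p, q, hp.out, hq.out, fun _ hr h => (dvd_card_sup hle hr h).imp (prime_eq_of_dvd_pGroup hN hr)
    (prime_eq_of_dvd_pGroup hV hr)⟩

/-- The normal factor of a coprime product is characteristic. -/
theorem normalizer_sup_le {p q : ℕ} [Fact p.Prime] [Fact q.Prime] (hpq : p ≠ q) {N V : Subgroup Γ}
    (hN : IsPGroup p N) (hV : IsPGroup q V) (hle : V ≤ normalizer (N : Set Γ)) :
    normalizer ((N ⊔ V : Subgroup Γ) : Set Γ) ≤ normalizer (N : Set Γ) := by
  have key : ∀ g ∈ normalizer ((N ⊔ V : Subgroup Γ) : Set Γ), ∀ x ∈ N, g * x * g⁻¹ ∈ N := by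
    intro g hg x hx
    refine mem_of_coprime hle ((mem_normalizer_iff.1 hg x).1 (mem_sup_left hx)) ?_
    obtain ⟨a, ha⟩ := IsPGroup.iff_card.1 hN
    obtain ⟨b, hb⟩ := IsPGroup.iff_card.1 hV
    rw [(MulAut.conj g).orderOf_eq x |> fun h => (show orderOf (g * x * g⁻¹) = orderOf x from h), hb]
    refine Nat.Coprime.coprime_dvd_left (Subgroup.orderOf_dvd_natCard N hx) ?_
    rw [ha]
    exact ((Nat.coprime_primes Fact.out Fact.out).2 hpq).pow a b
  intro g hg
  rw [mem_normalizer_iff]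
  refine fun x => ⟨key g hg x, fun h => ?_⟩
  have h2 := key g⁻¹ (inv_mem hg) _ h
  simpa [mul_assoc] using h2

omit [Finite Γ] in
theorem centralizer_le_normalizer (X : Subgroup Γ) {V : Subgroup Γ} (h : ∀ x ∈ X, ∀ v ∈ V, x * v = v * x) :
    V ≤ normalizer (X : Set Γ) := fun v hv => by
  rw [mem_normalizer_iff]
  intro x
  constructor
  · intro hx
    rwa [← h x hx v hv, mul_inv_cancel_right]
  · intro hx
    have h1 := h _ hx v hv
    rw [inv_mul_cancel_right, mul_right_inj] at h1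
    rwa [← h1] at hx

/-- An almost simple group in which the normalizer of every nontrivial two-prime subgroup of the socle is
maximal. -/
structure Setting (L : Subgroup Γ) : Prop where
  normal : L.Normal
  simple : IsSimpleGroup ↥L
  notSolvable : ¬ Group.IsSolvable ↥L
  cent : centralizer (L : Set Γ) = ⊥
  coatom : ∀ X : Subgroup Γ, X ≤ L → X ≠ ⊥ → TwoPrimes X → IsCoatom (normalizer (X : Set Γ))
  solvable_twoPrimes : ∀ X : Subgroup Γ, TwoPrimes X → Group.IsSolvable ↥X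

namespace Setting

variable {L : Subgroup Γ} (hL : Setting L)
include hL

theorem eq_of_le {X Y : Subgroup Γ} (hX : X ≤ L) (hX1 : X ≠ ⊥) (hX2 : TwoPrimes X) (hY : Y ≤ L) (hY1 : Y ≠ ⊥)
    (hY2 : TwoPrimes Y) (h : normalizer (X : Set Γ) ≤ normalizer (Y : Set Γ)) :
    normalizer (X : Set Γ) = normalizer (Y : Set Γ) := by
  by_contra hne
  exact (hL.coatom Y hY hY1 hY2).ne_top ((hL.coatom X hX hX1 hX2).2 _ (lt_of_le_of_ne h hne))

/-- A subgroup of `L` normalized by `L` is trivial or `L`. -/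
theorem eq_of_le_normalizer {Y : Subgroup Γ} (hY : Y ≤ L) (hY1 : Y ≠ ⊥) (h : L ≤ normalizer (Y : Set Γ)) :
    Y = L := by
  haveI := hL.simple
  haveI hn : (Y.subgroupOf L).Normal := (normal_subgroupOf_iff_le_normalizer hY).2 h
  rcases hn.eq_bot_or_eq_top with e | e
  · exact absurd ((subgroupOf_eq_bot.1 e).eq_bot_of_le hY) hY1
  · exact le_antisymm hY (subgroupOf_eq_top.1 e)

theorem not_le_normalizer {X : Subgroup Γ} (hX : X ≤ L) (hX1 : X ≠ ⊥) (hX2 : TwoPrimes X) :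
    ¬ L ≤ normalizer (X : Set Γ) := fun h =>
  hL.notSolvable ((hL.eq_of_le_normalizer hX hX1 h) ▸ hL.solvable_twoPrimes X hX2)

theorem normalizer_eq_of_commute {p q : ℕ} [Fact p.Prime] [Fact q.Prime] (hpq : p ≠ q) {X Y : Subgroup Γ}
    (hX : IsPGroup p X) (hY : IsPGroup q Y) (hXL : X ≤ L) (hYL : Y ≤ L) (hX1 : X ≠ ⊥) (hY1 : Y ≠ ⊥)
    (hc : ∀ x ∈ X, ∀ y ∈ Y, x * y = y * x) :
    normalizer (X : Set Γ) = normalizer (Y : Set Γ) := by
  have hYX : Y ≤ normalizer (X : Set Γ) := centralizer_le_normalizer X hc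
  have hXY : X ≤ normalizer (Y : Set Γ) := centralizer_le_normalizer Y fun y hy x hx => (hc x hx y hy).symm
  have h1 : X ⊔ Y ≠ ⊥ := fun h => hX1 (le_bot_iff.1 (h ▸ le_sup_left))
  have h2 := twoPrimes_sup hX hY hYX
  have hle : X ⊔ Y ≤ L := sup_le hXL hYL
  have e1 := hL.eq_of_le hle h1 h2 hXL hX1 (twoPrimes_of_pGroup hX) (normalizer_sup_le hpq hX hY hYX)
  have e2 := hL.eq_of_le hle h1 h2 hYL hY1 (twoPrimes_of_pGroup hY) (by
    rw [sup_comm]; exact normalizer_sup_le hpq.symm hY hX hXY)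
  exact e1.symm.trans e2

/-- The normalizer in `L` of a two-prime subgroup is self-normalizing. -/
theorem self_normalizing {X : Subgroup Γ} (hX : X ≤ L) (hX1 : X ≠ ⊥) (hX2 : TwoPrimes X) :
    normalizer ((normalizer (X : Set Γ) ⊓ L : Subgroup Γ) : Set Γ) = normalizer (X : Set Γ) := by
  haveI := hL.normal
  set Y := normalizer (X : Set Γ) ⊓ L with hY
  have hle : normalizer (X : Set Γ) ≤ normalizer (Y : Set Γ) := fun g hg => by
    rw [mem_normalizer_iff]
    intro h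
    rw [hY, mem_inf, mem_inf]
    constructor
    · rintro ⟨a, b⟩
      exact ⟨mul_mem (mul_mem hg a) (inv_mem hg), hL.normal.conj_mem h b g⟩
    · rintro ⟨a, b⟩
      refine ⟨?_, ?_⟩
      · have := mul_mem (mul_mem (inv_mem hg) a) hg
        simpa [mul_assoc] using this
      · have := hL.normal.conj_mem _ b g⁻¹
        simpa [mul_assoc] using this
  by_contra hne
  have htop := (hL.coatom X hX hX1 hX2).2 _ (lt_of_le_of_ne hle (Ne.symm hne))
  have hXY : X ≤ Y := le_inf le_normalizer hX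
  have hY1 : Y ≠ ⊥ := fun h => hX1 (le_bot_iff.1 (h ▸ hXY))
  have := hL.eq_of_le_normalizer inf_le_right hY1 (by rw [htop]; exact le_top)
  exact hL.not_le_normalizer hX hX1 hX2 (this ▸ inf_le_left)

theorem mem_of_normalizes {X : Subgroup Γ} (hX : X ≤ L) (hX1 : X ≠ ⊥) (hX2 : TwoPrimes X) {g : Γ}
    (hg : ∀ h, h ∈ normalizer (X : Set Γ) ⊓ L ↔ g * h * g⁻¹ ∈ normalizer (X : Set Γ) ⊓ L) :
    g ∈ normalizer (X : Set Γ) := by
  rw [← hL.self_normalizing hX hX1 hX2]
  exact mem_normalizer_iff.2 hg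

end Setting

end Cfsg.Lib.MaxNorm
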