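import Mathlib

/-!
# Facts about `PSL(3, 4)` and dihedral 2-groups
-/

set_option autoImplicit false

namespace Cfsg.Lib.MaxNorm

open Matrix

section PSL

variable {F : Type*} [Field F]

local notation "SL3" => Matrix.SpecialLinearGroup (Fin 3) F
local notation "PSL3" => Matrix.ProjectiveSpecialLinearGroup (Fin 3) F

/-- A root element. -/
def rootM (b : F) : SL3 := ⟨!![1, 0, b; 0, 1, 0; 0, 0, 1], by simp [Matrix.det_fin_three]⟩

theorem rootM_eq (b : F) : (rootM b).1 = 1 + b • Matrix.single (0 : Fin 3) 2 (1 : F) := by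
  ext i j
  fin_cases i <;> fin_cases j <;> simp [rootM]

theorem commute_root (h2 : (2 : F) = 0) {b c : F} (hb : b ≠ 0) {g : PSL3}
    (h : g * QuotientGroup.mk (rootM b) = QuotientGroup.mk (rootM b) * g) :
    g * QuotientGroup.mk (rootM c) = QuotientGroup.mk (rootM c) * g := by
  obtain ⟨s, rfl⟩ := QuotientGroup.mk_surjective g
  rw [← QuotientGroup.mk_mul, ← QuotientGroup.mk_mul, QuotientGroup.eq] at h
  obtain ⟨r, -, hr⟩ := Matrix.SpecialLinearGroup.mem_center_iff.mp h
  have hm : (rootM b).1 * s.1 = r • (s.1 * (rootM b).1) := by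
    have h1 : ((rootM b) * s).1 = (s * rootM b).1 * ((s * rootM b)⁻¹ * (rootM b * s)).1 := by
      rw [← Matrix.SpecialLinearGroup.coe_mul, mul_inv_cancel_left]
    rw [← hr, Matrix.scalar_apply, ← Matrix.smul_one_eq_diagonal, Matrix.mul_smul, Matrix.mul_one] at h1
    simpa [Matrix.SpecialLinearGroup.coe_mul] using h1
  have hs : s.1 * (s⁻¹).1 = 1 := by
    rw [← Matrix.SpecialLinearGroup.coe_mul, mul_inv_cancel, Matrix.SpecialLinearGroup.coe_one]
  have hs' : (s⁻¹).1 * s.1 = 1 := by
    rw [← Matrix.SpecialLinearGroup.coe_mul, inv_mul_cancel, Matrix.SpecialLinearGroup.coe_one]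
  have ht := congrArg (fun M => Matrix.trace ((s⁻¹).1 * M)) hm
  simp only [Matrix.mul_smul, Matrix.trace_smul] at ht
  rw [Matrix.trace_mul_comm, Matrix.mul_assoc, hs, Matrix.mul_one, ← Matrix.mul_assoc, hs', Matrix.one_mul] at ht
  have htr : Matrix.trace (rootM b).1 = 1 := by
    simp [rootM, Matrix.trace_fin_three]
    linear_combination h2
  rw [htr, smul_eq_mul, mul_one] at ht
  rw [← ht, one_smul, rootM_eq, Matrix.add_mul, Matrix.mul_add, Matrix.one_mul, Matrix.mul_one, add_right_inj,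
    Matrix.smul_mul, Matrix.mul_smul] at hm
  have hE := smul_right_injective (M := Matrix (Fin 3) (Fin 3) F) hb hm
  rw [← QuotientGroup.mk_mul, ← QuotientGroup.mk_mul]
  refine congrArg _ (Subtype.ext ?_)
  rw [Matrix.SpecialLinearGroup.coe_mul, Matrix.SpecialLinearGroup.coe_mul, rootM_eq, Matrix.add_mul,
    Matrix.mul_add, Matrix.one_mul, Matrix.mul_one, Matrix.smul_mul, Matrix.mul_smul]
  exact congrArg (fun M => s.1 + c • M) hE.symm

/-- In `PSL(3, 4)` two different involutions have the same centralizer and are conjugate. -/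
theorem psl_three_four_pair [Fintype F] (hF : Fintype.card F = 4) :
    ∃ z d : PSL3, z * z = 1 ∧ z ≠ 1 ∧ d * z * d⁻¹ ≠ z ∧
      ∀ g : PSL3, g * z = z * g ↔ g * (d * z * d⁻¹) = d * z * d⁻¹ * g := by
  classical
  have h2 : (2 : F) = 0 := by
    have h4 : ((4 : ℕ) : F) = 0 := by rw [← hF]; exact Nat.cast_card_eq_zero F
    have : (2 : F) * 2 = 0 := by norm_num at h4 ⊢; exact h4
    exact mul_self_eq_zero.mp this
  haveI : Fact (Nat.Prime 3) := ⟨Nat.prime_three⟩
  obtain ⟨a, ha⟩ := exists_prime_orderOf_dvd_card' (G := Fˣ) 3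
    (by rw [Nat.card_eq_fintype_card, Fintype.card_units, hF])
  have ha1 : (a : F) ≠ 1 := fun h => by
    rw [show a = 1 from Units.ext h, orderOf_one] at ha
    omega
  let d : SL3 := ⟨!![(a : F), 0, 0; 0, ((a⁻¹ : Fˣ) : F), 0; 0, 0, 1], by simp [Matrix.det_fin_three]⟩
  have hconj : d * rootM 1 = rootM (a : F) * d := Subtype.ext (by
    show d.1 * (rootM 1).1 = (rootM (a : F)).1 * d.1
    ext i j; fin_cases i <;> fin_cases j <;> simp [d, rootM, Matrix.mul_apply, Fin.sum_univ_three])
  have hsq : rootM (1 : F) * rootM 1 = 1 := Subtype.ext (by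
    show (rootM (1 : F)).1 * (rootM (1 : F)).1 = 1
    ext i j; fin_cases i <;> fin_cases j <;> simp [rootM, Matrix.mul_apply, Fin.sum_univ_three]
    linear_combination h2)
  have hne : ∀ b c : F, (QuotientGroup.mk (rootM b) : PSL3) = QuotientGroup.mk (rootM c) → b = c := by
    intro b c h
    rw [QuotientGroup.eq] at h
    obtain ⟨r, -, hr⟩ := Matrix.SpecialLinearGroup.mem_center_iff.mp h
    have hm : (rootM c).1 = r • (rootM b).1 := by
      rw [show (rootM c).1 = (rootM b).1 * ((rootM b)⁻¹ * rootM c).1 by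
        rw [← Matrix.SpecialLinearGroup.coe_mul, mul_inv_cancel_left], ← hr, Matrix.scalar_apply,
        ← Matrix.smul_one_eq_diagonal, Matrix.mul_smul, Matrix.mul_one]
    have e0 := congrFun (congrFun hm 1) 1
    have e1 := congrFun (congrFun hm 0) 2
    simp [rootM] at e0 e1
    rw [← e0, one_mul] at e1
    exact e1.symm
  have hd : (QuotientGroup.mk d : PSL3) * QuotientGroup.mk (rootM 1) * (QuotientGroup.mk d)⁻¹ =
      QuotientGroup.mk (rootM (a : F)) := by
    rw [← QuotientGroup.mk_mul, hconj, QuotientGroup.mk_mul, mul_inv_cancel_right]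
  refine ⟨QuotientGroup.mk (rootM 1), QuotientGroup.mk d, ?_, ?_, ?_, ?_⟩
  · rw [← QuotientGroup.mk_mul, hsq, QuotientGroup.mk_one]
  · intro h
    refine one_ne_zero (α := F) (hne 1 0 (h.trans ?_))
    rw [show rootM (0 : F) = 1 from Subtype.ext (by ext i j; fin_cases i <;> fin_cases j <;> simp [rootM]),
      QuotientGroup.mk_one]
  · rw [hd]
    exact fun h => ha1 (hne _ _ h)
  · intro g
    rw [hd]
    exact ⟨commute_root h2 one_ne_zero, commute_root h2 a.ne_zero⟩

end PSL

section Dihedral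

/-- In a dihedral 2-group of order at least eight, a central involution, any other involution is either
moved by an element to its product with it, or commutes only with four elements. -/
theorem dihedral_four {k : ℕ} (hk : 2 ≤ k) {z x : DihedralGroup (2 ^ k)} (hz : ∀ w, w * z = z * w) (hz1 : z ≠ 1)
    (hx : x * x = 1) (hx1 : x ≠ 1) (hxz : x ≠ z) :
    (∀ w, w * x = x * w → w = 1 ∨ w = z ∨ w = x ∨ w = z * x) ∧ ∃ a, a * x * a⁻¹ = z * x := by
  obtain ⟨m, rfl⟩ : ∃ m, k = m + 2 := ⟨k - 2, by omega⟩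
  have hhalf : ∀ i : ZMod (2 ^ (m + 2)), i + i = 0 → i = 0 ∨ i = ((2 ^ (m + 1) : ℕ) : ZMod (2 ^ (m + 2))) := by
    intro i hi
    obtain ⟨n, rfl⟩ : ∃ n : ℕ, i = n := ⟨i.val, (ZMod.natCast_rightInverse i).symm⟩
    rw [← Nat.cast_add, ZMod.natCast_eq_zero_iff, ← two_mul, pow_succ' 2 (m + 1)] at hi
    obtain ⟨j, rfl⟩ := Nat.dvd_of_mul_dvd_mul_left two_pos hi
    rcases Nat.even_or_odd j with ⟨l, rfl⟩ | ⟨l, rfl⟩
    · left
      rw [ZMod.natCast_eq_zero_iff]
      exact ⟨l, by ring⟩
    · right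
      rw [ZMod.natCast_eq_natCast_iff']
      rw [show 2 ^ (m + 1) * (2 * l + 1) = 2 ^ (m + 1) + 2 ^ (m + 2) * l by ring, Nat.add_mul_mod_self_left]
  have hne : ((2 ^ (m + 1) : ℕ) : ZMod (2 ^ (m + 2))) ≠ 0 := by
    rw [Ne, ZMod.natCast_eq_zero_iff]
    intro h
    have := Nat.le_of_dvd (Nat.two_pow_pos _) h
    rw [pow_succ 2 (m + 1)] at this
    have := Nat.two_pow_pos (m + 1)
    omega
  have h1ne : (1 : ZMod (2 ^ (m + 2))) + 1 ≠ 0 := by
    rw [← Nat.cast_one, ← Nat.cast_add, Ne, ZMod.natCast_eq_zero_iff]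
    intro h
    have := Nat.le_of_dvd two_pos h
    have : 4 ≤ 2 ^ (m + 2) := le_trans (by norm_num) (Nat.pow_le_pow_right two_pos (show 2 ≤ m + 2 by omega))
    omega
  have hzr : z = DihedralGroup.r ((2 ^ (m + 1) : ℕ) : ZMod (2 ^ (m + 2))) := by
    cases z with
    | r i =>
      have h := hz (DihedralGroup.sr 0)
      simp only [DihedralGroup.r_mul_sr, DihedralGroup.sr_mul_r, DihedralGroup.sr.injEq] at h
      rcases hhalf i (by linear_combination h) with h' | h'
      · rw [h'] at hz1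
        exact absurd DihedralGroup.one_def.symm hz1
      · rw [h']
    | sr i =>
      have h := hz (DihedralGroup.r 1)
      simp only [DihedralGroup.r_mul_sr, DihedralGroup.sr_mul_r, DihedralGroup.sr.injEq] at h
      exact absurd (by linear_combination -h) h1ne
  subst hzr
  cases x with
  | r i =>
    rw [DihedralGroup.r_mul_r, DihedralGroup.one_def, DihedralGroup.r.injEq] at hx
    rcases hhalf i hx with h' | h'
    · exact absurd (by rw [h', DihedralGroup.one_def]) hx1
    · exact absurd (by rw [h']) hxz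
  | sr i =>
    have hneg : -((2 ^ (m + 1) : ℕ) : ZMod (2 ^ (m + 2))) = ((2 ^ (m + 1) : ℕ) : ZMod (2 ^ (m + 2))) := by
      rw [neg_eq_iff_add_eq_zero, ← Nat.cast_add, ZMod.natCast_eq_zero_iff]
      exact ⟨1, by ring⟩
    refine ⟨fun w hw => ?_, DihedralGroup.r ((2 ^ m : ℕ) : ZMod (2 ^ (m + 2))), ?_⟩
    · cases w with
      | r j =>
        simp only [DihedralGroup.r_mul_sr, DihedralGroup.sr_mul_r, DihedralGroup.sr.injEq] at hw
        rcases hhalf j (by linear_combination -hw) with h' | h'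
        · exact Or.inl (by rw [h', DihedralGroup.one_def])
        · exact Or.inr (Or.inl (by rw [h']))
      | sr j =>
        simp only [DihedralGroup.sr_mul_sr, DihedralGroup.r.injEq] at hw
        rcases hhalf (j - i) (by linear_combination -hw) with h' | h'
        · exact Or.inr (Or.inr (Or.inl (by rw [sub_eq_zero.mp h'])))
        · refine Or.inr (Or.inr (Or.inr ?_))
          rw [DihedralGroup.r_mul_sr, DihedralGroup.sr.injEq]
          linear_combination h' - hneg
    · rw [DihedralGroup.inv_r, DihedralGroup.r_mul_sr, DihedralGroup.sr_mul_r, DihedralGroup.r_mul_sr,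
        DihedralGroup.sr.injEq]
      have hdbl : ((2 ^ (m + 1) : ℕ) : ZMod (2 ^ (m + 2))) =
          ((2 ^ m : ℕ) : ZMod (2 ^ (m + 2))) + ((2 ^ m : ℕ) : ZMod (2 ^ (m + 2))) := by
        rw [← Nat.cast_add]; congr 1; ring
      linear_combination hdbl

end Dihedral

end Cfsg.Lib.MaxNorm
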