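import Cfsg.Agent.Lib.MaxNorm.FourMain
import Cfsg.Agent.Lib.MaxNorm.Models
import Cfsg.Agent.Lib.CIT.Classify
import Cfsg.Agent.Lib.CIT.TICount

/-!
# Some involution centralizer is not a 2-group
-/

set_option autoImplicit false
set_option linter.style.haveILetI false
set_option linter.unusedSectionVars false

namespace Cfsg.Lib.MaxNorm

open Subgroup

universe u

variable {Γ : Type u} [Group Γ] [Finite Γ]

theorem bijective_of_injective_endo {E : Type*} [Finite E] {f : E → E} (h : Function.Injective f) :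
    Function.Surjective f := Finite.surjective_of_injective h

theorem subgroup_ext_subtype {L : Subgroup Γ} {a b : ↥L} (h : (a : Γ) = b) : a = b := Subtype.ext h

namespace Setting

variable {L : Subgroup Γ} (hL : Setting L)
  (hCIT : ∀ u ∈ L, u * u = 1 → u ≠ 1 → IsPGroup 2 ↥(centralizer ({u} : Set Γ) ⊓ L))

include hL hCIT

theorem cit_isS {u : Γ} (hu : u ∈ L) (hu2 : u * u = 1) (hu1 : u ≠ 1) :
    IsS L (centralizer ({u} : Set Γ) ⊓ L) := hL.isS_cent hu hu2 hu1 (hCIT u hu hu2 hu1)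

/-- A 2-element and an element of odd prime order never commute. -/
theorem cit_eq_one {d y : Γ} {r : ℕ} (hr : r.Prime) (hr2 : r ≠ 2) (hyL : y ∈ L) (hy : orderOf y = r)
    (hdL : d ∈ L) {Q : Subgroup Γ} (hQ : IsPGroup 2 Q) (hdQ : d ∈ Q) (hc : d * y = y * d) : d = 1 := by
  by_contra hd1
  obtain ⟨w, hw, hw2, hw1⟩ : ∃ w ∈ zpowers d, w * w = 1 ∧ w ≠ 1 := by
    by_cases hd2 : d * d = 1
    · exact ⟨d, mem_zpowers d, hd2, hd1⟩
    · obtain ⟨z, hz, hz2, hz4⟩ := exists_order_four hQ hdQ hd2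
      exact ⟨z * z, mul_mem hz hz, hz4, hz2⟩
  have hwy : y * w = w * y := by
    obtain ⟨i, rfl⟩ := mem_zpowers_iff.1 hw
    exact ((show Commute y d from hc.symm).zpow_right i).eq
  have hwL : w ∈ L := zpowers_le.2 hdL hw
  have h1 := eq_one_of_two_mem (hCIT w hwL hw2 hw1) (mem_inf.2 ⟨mem_cent.2 hwy, hyL⟩)
    (by rw [hy]; exact hr.odd_of_ne_two hr2)
  exact ne_one_of_orderOf_prime hy hr h1

/-- The Sylow 2-subgroups are not TI. -/
theorem cit_not_ti (hTI : Cfsg.Lib.CIT.SylowTI ↥L) {u : Γ} (hu : u ∈ L) (hu2 : u * u = 1) (hu1 : u ≠ 1) :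
    False := by
  haveI := hL.normal
  have hS := hL.cit_isS hCIT hu hu2 hu1
  obtain ⟨h, hhL, hh, hne⟩ := hL.not_isolated hS (mem_inf.2 ⟨mem_cent.2 rfl, hu⟩) hu2 hu1
  obtain ⟨v, hv⟩ : ∃ v, v = h * u * h⁻¹ := ⟨_, rfl⟩
  rw [← hv] at hh hne
  have hvL : v ∈ L := hv ▸ hL.normal.conj_mem u hu h
  have hv2 : v * v = 1 := hv ▸ mul_self_conj hu2
  have hv1 : v ≠ 1 := hv ▸ fun e => hu1 (conj_eq_one_iff.1 e)
  have hS' := hL.cit_isS hCIT hvL hv2 hv1
  have heq : hS.sylow = hS'.sylow := by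
    by_contra hne'
    have h1 := hTI _ _ hne'
    have hu' : (⟨u, hu⟩ : ↥L) ∈ (hS.sylow : Subgroup ↥L) ⊓ (hS'.sylow : Subgroup ↥L) :=
      mem_inf.2 ⟨hS.mem_sylow.2 (mem_inf.2 ⟨mem_cent.2 rfl, hu⟩),
        hS'.mem_sylow.2 (mem_inf.2 ⟨mem_cent.2 (mem_cent.1 (mem_inf.1 hh).1).symm, hu⟩)⟩
    rw [h1, mem_bot] at hu'
    exact hu1 (congrArg Subtype.val hu')
  have hmem : ∀ g : Γ, g ∈ centralizer ({u} : Set Γ) ⊓ L ↔ g ∈ centralizer ({v} : Set Γ) ⊓ L := by
    intro g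
    constructor
    · intro hg
      have h1 : (⟨g, (mem_inf.1 hg).2⟩ : ↥L) ∈ (hS.sylow : Subgroup ↥L) := hS.mem_sylow.2 hg
      rw [heq] at h1
      exact hS'.mem_sylow.1 h1
    · intro hg
      have h1 : (⟨g, (mem_inf.1 hg).2⟩ : ↥L) ∈ (hS'.sylow : Subgroup ↥L) := hS'.mem_sylow.2 hg
      rw [← heq] at h1
      exact hS.mem_sylow.1 h1
  refine hne (hv.trans (conj_eq_self_iff.2 (hL.mem_cent_of_normalizes hu hu2 hu1 fun g => ?_)))
  rw [hmem (h * g * h⁻¹), mem_inf, mem_inf]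
  refine and_congr ?_ ⟨fun hg => hL.normal.conj_mem g hg h, fun hg => ?_⟩
  · rw [hv, conj_mem_cent]
  · simpa [mul_assoc] using hL.normal.conj_mem _ hg h⁻¹

/-- The socle is not `PSL(3, 4)`. -/
theorem cit_not_psl_three_four (h : Cfsg.Lib.CIT.IsoPSLThreeFour ↥L) : False := by
  obtain ⟨F, _, _, hF, ⟨e⟩⟩ := h
  haveI := hL.normal
  obtain ⟨z, d, hz2, hz1, hdz, hiff⟩ := psl_three_four_pair hF
  obtain ⟨u, hu⟩ : ∃ u : ↥L, u = e.symm z := ⟨_, rfl⟩
  obtain ⟨g, hg⟩ : ∃ g : ↥L, g = e.symm d := ⟨_, rfl⟩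
  have hu2 : (u : Γ) * u = 1 := congrArg Subtype.val
    (show u * u = 1 by rw [hu, ← map_mul, hz2, map_one])
  have hu1 : (u : Γ) ≠ 1 := fun e' => hz1 (by
    have : u = 1 := subgroup_ext_subtype e'
    rwa [hu, MulEquiv.map_eq_one_iff] at this)
  have hgc : (g : Γ) ∈ centralizer ({(u : Γ)} : Set Γ) := by
    refine hL.mem_cent_of_normalizes u.2 hu2 hu1 fun h => ?_
    rw [mem_inf, mem_inf]
    constructor
    · rintro ⟨h1, h2⟩
      refine ⟨mem_cent.2 ?_, hL.normal.conj_mem h h2 g⟩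
      have h3 : e (g * ⟨h, h2⟩ * g⁻¹) * z = z * e (g * ⟨h, h2⟩ * g⁻¹) := by
        rw [hiff, map_mul, map_mul, map_inv, hg, e.apply_symm_apply]
        have h4 : e ⟨h, h2⟩ * z = z * e ⟨h, h2⟩ := by
          have := congrArg e (subgroup_ext_subtype (L := L) (a := ⟨h, h2⟩ * u) (b := u * ⟨h, h2⟩) (mem_cent.1 h1))
          rwa [map_mul, map_mul, hu, e.apply_symm_apply] at this
        rw [show d * e ⟨h, h2⟩ * d⁻¹ * (d * z * d⁻¹) = d * (e ⟨h, h2⟩ * z) * d⁻¹ by group, h4]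
        group
      have h5 : g * ⟨h, h2⟩ * g⁻¹ * u = u * (g * ⟨h, h2⟩ * g⁻¹) :=
        e.injective (by rw [map_mul, map_mul e u, hu, e.apply_symm_apply]; exact h3)
      exact congrArg Subtype.val h5
    · rintro ⟨h1, h2⟩
      have hhL : h ∈ L := by simpa [mul_assoc] using hL.normal.conj_mem _ h2 (g : Γ)⁻¹
      refine ⟨mem_cent.2 ?_, hhL⟩
      have h4 : e (g * ⟨h, hhL⟩ * g⁻¹) * z = z * e (g * ⟨h, hhL⟩ * g⁻¹) := by
        have := congrArg e (subgroup_ext_subtype (L := L) (a := g * ⟨h, hhL⟩ * g⁻¹ * u)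
          (b := u * (g * ⟨h, hhL⟩ * g⁻¹)) (mem_cent.1 h1))
        rwa [map_mul, map_mul e u, hu, e.apply_symm_apply] at this
      rw [hiff, map_mul, map_mul, map_inv, hg, e.apply_symm_apply] at h4
      have h6 : e ⟨h, hhL⟩ * z = z * e ⟨h, hhL⟩ := by
        have := congrArg (fun x => d⁻¹ * x * d) h4
        simpa [mul_assoc] using this
      have h5 : ⟨h, hhL⟩ * u = u * ⟨h, hhL⟩ :=
        e.injective (by rw [map_mul, map_mul, hu, e.apply_symm_apply]; exact h6)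
      exact congrArg Subtype.val h5
  refine hdz ?_
  have h7 := congrArg e (subgroup_ext_subtype (L := L) (a := g * u * g⁻¹) (b := u) (conj_eq_self_iff.2 hgc))
  rwa [map_mul, map_mul, map_inv, hg, hu, e.apply_symm_apply, e.apply_symm_apply] at h7

/-- The Sylow 2-subgroups are not dihedral of order at least eight. -/
theorem cit_not_dihedral (hD : Cfsg.Lib.CIT.HasDihedralSylow ↥L) {u : Γ} (hu : u ∈ L) (hu2 : u * u = 1)
    (hu1 : u ≠ 1) : False := by
  haveI : Fact (Nat.Prime 2) := ⟨Nat.prime_two⟩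
  haveI := hL.normal
  -- the four elements centralizing a second involution, and an element moving it
  have key : ∀ z x : Γ, z ∈ L → z * z = 1 → z ≠ 1 → x ∈ L → x * x = 1 → x ≠ 1 → x ≠ z → x * z = z * x →
      (∀ w ∈ L, w * z = z * w → w * x = x * w → w = 1 ∨ w = z ∨ w = x ∨ w = z * x) ∧
        ∃ a ∈ L, a * z = z * a ∧ a * x * a⁻¹ = z * x := by
    intro z x hzL hz2 hz1 hxL hx2 hx1 hxz hc
    have hS := hL.cit_isS hCIT hzL hz2 hz1
    obtain ⟨k, hk, ⟨e⟩⟩ := hD hS.sylow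
    have mk : ∀ w : Γ, w ∈ L → w * z = z * w → ∃ w' : ↥(hS.sylow : Subgroup ↥L), ((w' : ↥L) : Γ) = w :=
      fun w hw hwz => ⟨⟨⟨w, hw⟩, hS.mem_sylow.2 (mem_inf.2 ⟨mem_cent.2 hwz, hw⟩)⟩, rfl⟩
    obtain ⟨z', hz'⟩ := mk z hzL rfl
    obtain ⟨x', hx'⟩ := mk x hxL hc
    have ext' : ∀ {a b : ↥(hS.sylow : Subgroup ↥L)}, ((a : ↥L) : Γ) = ((b : ↥L) : Γ) → a = b :=
      fun h => Subtype.ext (Subtype.ext h)
    obtain ⟨h1, a, ha⟩ := dihedral_four hk (z := e z') (x := e x')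
      (fun w => by
        obtain ⟨w, rfl⟩ := e.surjective w
        rw [← map_mul, ← map_mul]
        refine congrArg e (ext' ?_)
        simp only [Subgroup.coe_mul, hz']
        exact mem_cent.1 (mem_inf.1 (hS.mem_sylow.1 w.2)).1)
      (fun h => hz1 (by rw [MulEquiv.map_eq_one_iff] at h; rw [← hz', h]; rfl))
      (by rw [← map_mul, MulEquiv.map_eq_one_iff]; exact ext' (by simp [hx', hx2]))
      (fun h => hx1 (by rw [MulEquiv.map_eq_one_iff] at h; rw [← hx', h]; rfl))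
      (fun h => hxz (hx'.symm.trans ((congrArg (fun v : ↥(hS.sylow : Subgroup ↥L) => ((v : ↥L) : Γ)) (e.injective h)).trans hz')))
    refine ⟨fun w hw hwz hwx => ?_, ?_⟩
    · obtain ⟨w', hw'⟩ := mk w hw hwz
      have h2 : e w' * e x' = e x' * e w' := by
        rw [← map_mul, ← map_mul]
        exact congrArg e (ext' (by simp [hw', hx', hwx]))
      rw [← map_mul] at h1
      rcases h1 _ h2 with h | h | h | h
      · rw [MulEquiv.map_eq_one_iff] at h; exact Or.inl (by rw [← hw', h]; rfl)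
      · exact Or.inr (Or.inl (hw'.symm.trans ((congrArg (fun v : ↥(hS.sylow : Subgroup ↥L) => ((v : ↥L) : Γ)) (e.injective h)).trans hz')))
      · exact Or.inr (Or.inr (Or.inl (by rw [← hw', e.injective h, hx'])))
      · exact Or.inr (Or.inr (Or.inr (by rw [← hw', e.injective h]; simp [hz', hx'])))
    · obtain ⟨a, rfl⟩ := e.surjective a
      rw [← map_inv, ← map_mul, ← map_mul, ← map_mul] at ha
      refine ⟨((a : ↥L) : Γ), (a : ↥L).2, mem_cent.1 (mem_inf.1 (hS.mem_sylow.1 a.2)).1, ?_⟩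
      have := congrArg (fun v : ↥(hS.sylow : Subgroup ↥L) => ((v : ↥L) : Γ)) (e.injective ha)
      simpa [hz', hx'] using this
  -- two commuting conjugate involutions
  have hS := hL.cit_isS hCIT hu hu2 hu1
  obtain ⟨h, hhL, hh, hne⟩ := hL.not_isolated hS (mem_inf.2 ⟨mem_cent.2 rfl, hu⟩) hu2 hu1
  obtain ⟨x, hx⟩ : ∃ x, x = h * u * h⁻¹ := ⟨_, rfl⟩
  rw [← hx] at hh hne
  have hxL : x ∈ L := (mem_inf.1 hh).2
  have hx2 : x * x = 1 := hx ▸ mul_self_conj hu2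
  have hx1 : x ≠ 1 := hx ▸ fun e => hu1 (conj_eq_one_iff.1 e)
  have hxu : x * u = u * x := mem_cent.1 (mem_inf.1 hh).1
  obtain ⟨hfix, a, haL, hau, hax⟩ := key u x hu hu2 hu1 hxL hx2 hx1 hne hxu
  obtain ⟨-, b, hbL, hbx, hbu⟩ := key x u hxL hx2 hx1 hu hu2 hu1 (Ne.symm hne) hxu.symm
  -- the four group
  obtain ⟨V, hV⟩ : ∃ V, V = zpowers x ⊔ zpowers u := ⟨_, rfl⟩
  have hVS : V ≤ centralizer ({u} : Set Γ) ⊓ L :=
    hV ▸ sup_le (zpowers_le.2 hh) (zpowers_le.2 (mem_inf.2 ⟨mem_cent.2 rfl, hu⟩))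
  have hVx : V ≤ centralizer ({x} : Set Γ) :=
    hV ▸ sup_le (zpowers_le.2 (mem_cent.2 rfl)) (zpowers_le.2 (mem_cent.2 hxu.symm))
  have hVmem : ∀ v ∈ V, v = 1 ∨ v = u ∨ v = x ∨ v = u * x := fun v hv =>
    hfix v (mem_inf.1 (hVS hv)).2 (mem_cent.1 (mem_inf.1 (hVS hv)).1) (mem_cent.1 (hVx hv))
  have huV : u ∈ V := hV ▸ mem_sup_right (mem_zpowers u)
  have hxV : x ∈ V := hV ▸ mem_sup_left (mem_zpowers x)
  have hVcomm : ∀ p ∈ V, ∀ q ∈ V, p * q = q * p := by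
    intro p hp q hq
    have hpu := mem_cent.1 (mem_inf.1 (hVS hp)).1
    have hpx := mem_cent.1 (hVx hp)
    rcases hVmem q hq with rfl | rfl | rfl | rfl
    · rw [mul_one, one_mul]
    · exact hpu
    · exact hpx
    · exact ((show Commute p u from hpu).mul_right hpx).eq
  have hV2 : ∀ v ∈ V, v * v = 1 := by
    intro v hv
    rcases hVmem v hv with rfl | rfl | rfl | rfl
    · exact one_mul 1
    · exact hu2
    · exact hx2
    · exact mul_self_mul hu2 hx2 hxu.symm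
  have hNV : ∀ g : Γ, g * u * g⁻¹ ∈ V → g * x * g⁻¹ ∈ V → g ∈ normalizer (V : Set Γ) := by
    intro g h1 h2
    rw [mem_normalizer_iff_map_conj_eq]
    refine eq_of_le_of_card_ge ?_ (Nat.card_congr (Subgroup.equivMapOfInjective V _ (MulAut.conj g).injective).toEquiv).le
    rw [hV, Subgroup.map_sup, MonoidHom.map_zpowers, MonoidHom.map_zpowers, ← hV]
    exact sup_le (zpowers_le.2 h2) (zpowers_le.2 h1)
  have hau' : a * u * a⁻¹ = u := mul_inv_eq_iff_eq_mul.2 hau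
  have hbx' : b * x * b⁻¹ = x := mul_inv_eq_iff_eq_mul.2 hbx
  have haV : a ∈ normalizer (V : Set Γ) :=
    hNV a (by rw [hau']; exact huV) (by rw [hax]; exact V.mul_mem huV hxV)
  have hbV : b ∈ normalizer (V : Set Γ) :=
    hNV b (by rw [hbu]; exact V.mul_mem hxV huV) (by rw [hbx']; exact hxV)
  obtain ⟨n, hn⟩ : ∃ n, n = b * a := ⟨_, rfl⟩
  have hnx : n * x * n⁻¹ = u := by
    rw [hn, show b * a * x * (b * a)⁻¹ = b * (a * x * a⁻¹) * b⁻¹ by group, hax,
      show b * (u * x) * b⁻¹ = b * u * b⁻¹ * (b * x * b⁻¹) by group, hbu, hbx', hxu, mul_assoc, hx2, mul_one]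
  have hnu : n * u * n⁻¹ = x * u := by
    rw [hn, show b * a * u * (b * a)⁻¹ = b * (a * u * a⁻¹) * b⁻¹ by group, hau', hbu]
  have hn3 : n ^ 3 ∈ V := by
    have hnxu : n * (x * u) * n⁻¹ = x := by
      rw [show n * (x * u) * n⁻¹ = n * x * n⁻¹ * (n * u * n⁻¹) by group, hnx, hnu, ← mul_assoc, ← hxu, mul_assoc,
        hu2, mul_one]
    have h3u : n ^ 3 * u * (n ^ 3)⁻¹ = u := by
      rw [show n ^ 3 * u * (n ^ 3)⁻¹ = n * (n * (n * u * n⁻¹) * n⁻¹) * n⁻¹ by rw [pow_succ, pow_two]; group,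
        hnu, hnxu, hnx]
    have h3x : n ^ 3 * x * (n ^ 3)⁻¹ = x := by
      rw [show n ^ 3 * x * (n ^ 3)⁻¹ = n * (n * (n * x * n⁻¹) * n⁻¹) * n⁻¹ by rw [pow_succ, pow_two]; group,
        hnx, hnu, hnxu]
    rcases hfix _ (L.pow_mem (hn ▸ L.mul_mem hbL haL) 3) (mul_inv_eq_iff_eq_mul.1 h3u)
      (mul_inv_eq_iff_eq_mul.1 h3x) with h' | h' | h' | h' <;> rw [h']
    exacts [V.one_mem, huV, hxV, V.mul_mem huV hxV]
  obtain ⟨y, hy⟩ : ∃ y, y = n ^ 2 := ⟨_, rfl⟩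
  have hyL : y ∈ L := hy ▸ L.pow_mem (hn ▸ L.mul_mem hbL haL) 2
  have hyV : y ∈ normalizer (V : Set Γ) := hy ▸ pow_mem (hn ▸ mul_mem hbV haV) 2
  have hyx : y * x * y⁻¹ = x * u := by
    rw [hy, show n ^ 2 * x * (n ^ 2)⁻¹ = n * (n * x * n⁻¹) * n⁻¹ by rw [pow_two]; group, hnx, hnu]
  have hyu : y * u * y⁻¹ = x := by
    rw [hy, show n ^ 2 * u * (n ^ 2)⁻¹ = n * (n * u * n⁻¹) * n⁻¹ by rw [pow_two]; group, hnu,
      show n * (x * u) * n⁻¹ = n * x * n⁻¹ * (n * u * n⁻¹) by group, hnx, hnu, ← mul_assoc, ← hxu, mul_assoc,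
      hu2, mul_one]
  have hy1 : y ≠ 1 := fun h' => hne (by rw [← hyu, h']; simp)
  have hyo : orderOf y = 3 := by
    haveI : Fact (Nat.Prime 3) := ⟨Nat.prime_three⟩
    refine orderOf_eq_prime ?_ hy1
    rw [hy, ← pow_mul, mul_comm, pow_mul, pow_two]
    exact hV2 _ hn3
  have hZ3 : ∀ d ∈ zpowers y, d = 1 ∨ d = y ∨ d = y⁻¹ := by
    intro d hd
    obtain ⟨i, rfl⟩ := mem_zpowers_iff.1 hd
    rw [← zpow_mod_orderOf, hyo]
    have h0 := Int.emod_nonneg i (show (3 : ℤ) ≠ 0 by norm_num)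
    have h3 := Int.emod_lt_of_pos i (show (0 : ℤ) < 3 by norm_num)
    obtain h' | h' | h' : i % 3 = 0 ∨ i % 3 = 1 ∨ i % 3 = 2 := by omega
    · exact Or.inl (by rw [Nat.cast_ofNat, h', zpow_zero])
    · exact Or.inr (Or.inl (by rw [Nat.cast_ofNat, h', zpow_one]))
    · refine Or.inr (Or.inr ?_)
      rw [Nat.cast_ofNat, h', show (2 : ℤ) = -1 + 3 by norm_num, zpow_add,
        show y ^ (3 : ℤ) = 1 by exact_mod_cast hyo ▸ pow_orderOf_eq_one y, mul_one, zpow_neg_one]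
  -- `v ↦ v^y v` is onto `V`
  have hsurj : ∀ w ∈ V, ∃ v ∈ V, y * v * y⁻¹ * v = w := by
    let f : ↥V → ↥V := fun v => ⟨y * v * y⁻¹ * v, V.mul_mem ((mem_normalizer_iff.1 hyV v).1 v.2) v.2⟩
    have hf : Function.Injective f := by
      rintro ⟨p, hp⟩ ⟨q, hq⟩ hpq
      have hpq' : y * p * y⁻¹ * p = y * q * y⁻¹ * q := congrArg Subtype.val hpq
      have hyp : ∀ {w}, w ∈ V → y * w * y⁻¹ ∈ V := fun hw => (mem_normalizer_iff.1 hyV _).1 hw
      have hd : y * (p * q) * y⁻¹ = p * q := by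
        have h1 : y * (p * q) * y⁻¹ * (p * q) = 1 := by
          calc y * (p * q) * y⁻¹ * (p * q) = y * p * y⁻¹ * (y * q * y⁻¹ * p) * q := by group
            _ = y * p * y⁻¹ * (p * (y * q * y⁻¹)) * q := by rw [hVcomm _ (hyp hq) p hp]
            _ = y * p * y⁻¹ * p * (y * q * y⁻¹ * q) := by group
            _ = 1 := by rw [hpq', hV2 _ (V.mul_mem (hyp hq) hq)]
        rw [eq_inv_of_mul_eq_one_left h1, inv_eq_self (hV2 _ (V.mul_mem hp hq))]
      have hpq1 : p * q = 1 := by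
        rcases hVmem _ (V.mul_mem hp hq) with h' | h' | h' | h'
        · exact h'
        · rw [h', hyu] at hd; exact absurd hd hne
        · rw [h', hyx] at hd; exact absurd (mul_eq_left.1 hd) hu1
        · rw [h', show y * (u * x) * y⁻¹ = y * u * y⁻¹ * (y * x * y⁻¹) by group, hyu, hyx, ← mul_assoc, hx2,
            one_mul] at hd
          exact absurd (left_eq_mul.1 hd) hx1
      exact Subtype.ext (by show p = q; rw [eq_inv_of_mul_eq_one_left hpq1, inv_eq_self (hV2 q hq)])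
    intro w hw
    obtain ⟨⟨v, hv⟩, hvw⟩ := bijective_of_injective_endo hf ⟨w, hw⟩
    exact ⟨v, hv, congrArg Subtype.val hvw⟩
  -- every element of the normalizer of `V` in `L`
  have hdecomp : ∀ d ∈ L, d ∈ normalizer (V : Set Γ) → ∃ v ∈ V, ∃ c ∈ zpowers y, d = v * c ∨ d = v * c * a := by
    intro d hdL hdV
    obtain ⟨c, hc, hcu⟩ : ∃ c ∈ zpowers y, c⁻¹ * (d * u * d⁻¹) * c = u := by
      rcases hVmem _ ((mem_normalizer_iff.1 hdV u).1 huV) with h' | h' | h' | h'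
      · exact absurd (conj_eq_one_iff.1 h') hu1
      · exact ⟨1, one_mem _, by rw [h']; group⟩
      · exact ⟨y, mem_zpowers y, by rw [h', ← hyu]; group⟩
      · exact ⟨y * y, mul_mem (mem_zpowers y) (mem_zpowers y), by rw [h', ← hxu, ← hyx, ← hyu]; group⟩
    have hcV : c ∈ normalizer (V : Set Γ) := zpowers_le.2 hyV hc
    have hcL : c ∈ L := zpowers_le.2 hyL hc
    have hu' : c⁻¹ * d * u * (c⁻¹ * d)⁻¹ = u := by
      rw [show c⁻¹ * d * u * (c⁻¹ * d)⁻¹ = c⁻¹ * (d * u * d⁻¹) * c by group, hcu]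
    have hcd : c⁻¹ * d ∈ normalizer (V : Set Γ) := mul_mem (inv_mem hcV) hdV
    have hcdL : c⁻¹ * d ∈ L := L.mul_mem (L.inv_mem hcL) hdL
    have hswap : ∀ e' ∈ L, e' * u * e'⁻¹ = u → e' * x * e'⁻¹ = x → e' ∈ V := by
      intro e' he' h1 h2
      rcases hfix e' he' (mul_inv_eq_iff_eq_mul.1 h1) (mul_inv_eq_iff_eq_mul.1 h2) with h' | h' | h' | h' <;> rw [h']
      exacts [V.one_mem, huV, hxV, V.mul_mem huV hxV]
    have hconjV : ∀ v ∈ V, c * v * c⁻¹ ∈ V := fun v hv => (mem_normalizer_iff.1 hcV v).1 hv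
    rcases hVmem _ ((mem_normalizer_iff.1 hcd x).1 hxV) with h' | h' | h' | h'
    · exact absurd (conj_eq_one_iff.1 h') hx1
    · refine absurd ?_ hne
      rw [← hu'] at h'
      exact mul_left_cancel (mul_right_cancel h')
    · have hv := hswap _ hcdL hu' h'
      exact ⟨_, hconjV _ hv, c, hc, Or.inl (by group)⟩
    · have ha2 : a⁻¹ * u * a = u := by rw [mul_assoc, ← hau, inv_mul_cancel_left]
      have ha3 : a⁻¹ * (u * x) * a = x := by rw [← hax]; group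
      have hv := hswap (c⁻¹ * d * a⁻¹) (L.mul_mem hcdL (L.inv_mem haL))
        (by rw [show c⁻¹ * d * a⁻¹ * u * (c⁻¹ * d * a⁻¹)⁻¹ = c⁻¹ * d * (a⁻¹ * u * a) * (c⁻¹ * d)⁻¹ by group,
          ha2, hu'])
        (by
          have hax2 : a⁻¹ * x * a = u * x := by
            calc a⁻¹ * x * a = a⁻¹ * (u * (u * x)) * a := by rw [← mul_assoc u, hu2, one_mul]
              _ = a⁻¹ * u * a * (a⁻¹ * (u * x) * a) := by group
              _ = u * x := by rw [ha2, ha3]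
          rw [show c⁻¹ * d * a⁻¹ * x * (c⁻¹ * d * a⁻¹)⁻¹ = c⁻¹ * d * (a⁻¹ * x * a) * (c⁻¹ * d)⁻¹ by group,
            hax2, show c⁻¹ * d * (u * x) * (c⁻¹ * d)⁻¹ =
              c⁻¹ * d * u * (c⁻¹ * d)⁻¹ * (c⁻¹ * d * x * (c⁻¹ * d)⁻¹) by group,
            hu', h', ← mul_assoc, hu2, one_mul])
      exact ⟨_, hconjV _ hv, c, hc, Or.inr (by group)⟩
  -- an involution inverting `y`
  have hay : a * y * a⁻¹ * y ∈ V := by
    refine (fun (e' : Γ) (he' : e' ∈ L) (h1 : e' * u * e'⁻¹ = u) (h2 : e' * x * e'⁻¹ = x) => ?_ : ∀ e' : Γ,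
      e' ∈ L → e' * u * e'⁻¹ = u → e' * x * e'⁻¹ = x → e' ∈ V) _
      (L.mul_mem (L.mul_mem (L.mul_mem haL hyL) (L.inv_mem haL)) hyL) ?_ ?_
    · rcases hfix e' he' (mul_inv_eq_iff_eq_mul.1 h1) (mul_inv_eq_iff_eq_mul.1 h2) with h' | h' | h' | h' <;>
        rw [h']
      exacts [V.one_mem, huV, hxV, V.mul_mem huV hxV]
    · have hax3 : a⁻¹ * x * a = u * x := by
        have ha2 : a⁻¹ * u * a = u := by rw [mul_assoc, ← hau, inv_mul_cancel_left]
        calc a⁻¹ * x * a = a⁻¹ * (u * (u * x)) * a := by rw [← mul_assoc u, hu2, one_mul]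
          _ = a⁻¹ * u * a * (a⁻¹ * (u * x) * a) := by group
          _ = u * x := by rw [ha2, show a⁻¹ * (u * x) * a = x by rw [← hax]; group]
      rw [show a * y * a⁻¹ * y * u * (a * y * a⁻¹ * y)⁻¹ = a * (y * (a⁻¹ * (y * u * y⁻¹) * a) * y⁻¹) * a⁻¹ by group,
        hyu, hax3, show y * (u * x) * y⁻¹ = y * u * y⁻¹ * (y * x * y⁻¹) by group, hyu, hyx, ← mul_assoc x, hx2,
        one_mul, hau']
    · have ha2 : a⁻¹ * u * a = u := by rw [mul_assoc, ← hau, inv_mul_cancel_left]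
      have hax3 : a⁻¹ * (x * u) * a = x := by
        rw [hxu, ← hax]; group
      rw [show a * y * a⁻¹ * y * x * (a * y * a⁻¹ * y)⁻¹ = a * (y * (a⁻¹ * (y * x * y⁻¹) * a) * y⁻¹) * a⁻¹ by group,
        hyx, hax3, hyx, show a * (x * u) * a⁻¹ = a * x * a⁻¹ * (a * u * a⁻¹) by group, hax, hau',
        mul_assoc, hxu, ← mul_assoc, hu2, one_mul]
  obtain ⟨v, hvV, hv⟩ := hsurj _ ((mem_normalizer_iff.1 hyV _).1 hay)
  obtain ⟨i, hi⟩ : ∃ i, i = v * a := ⟨_, rfl⟩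
  have hiV : i ∈ normalizer (V : Set Γ) := hi ▸ mul_mem (le_normalizer hvV) haV
  have hiS : i ∈ centralizer ({u} : Set Γ) ⊓ L :=
    hi ▸ mul_mem (hVS hvV) (mem_inf.2 ⟨mem_cent.2 hau, haL⟩)
  have hiL : i ∈ L := (mem_inf.1 hiS).2
  have hiy : i * y * i⁻¹ = y⁻¹ := by
    have hvyv : y * v * y⁻¹ ∈ V := (mem_normalizer_iff.1 hyV v).1 hvV
    have h1 : a * y * a⁻¹ = y⁻¹ * (y * (a * y * a⁻¹ * y) * y⁻¹) := by group
    rw [hi, show v * a * y * (v * a)⁻¹ = v * (a * y * a⁻¹) * v⁻¹ by group, h1, ← hv, inv_eq_self (hV2 v hvV),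
      show v * (y⁻¹ * (y * v * y⁻¹ * v)) * v = v * (v * y⁻¹) * (v * v) by group, hV2 v hvV, mul_one,
      ← mul_assoc, hV2 v hvV, one_mul]
  have hi2 : i * i = 1 := hL.cit_eq_one hCIT Nat.prime_three (by norm_num) hyL hyo (L.mul_mem hiL hiL)
    hS.two (mul_mem hiS hiS) (by
      rw [← mul_inv_eq_iff_eq_mul, show i * i * y * (i * i)⁻¹ = i * (i * y * i⁻¹) * i⁻¹ by group, hiy,
        show i * y⁻¹ * i⁻¹ = (i * y * i⁻¹)⁻¹ by group, hiy, inv_inv])
  have hi1 : i ≠ 1 := fun h' => by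
    rw [h'] at hiy
    simp only [one_mul, inv_one, mul_one] at hiy
    have h2 := orderOf_dvd_of_pow_eq_one (show y ^ 2 = 1 by rw [pow_two]; exact mul_eq_one_iff_eq_inv.2 hiy)
    rw [hyo] at h2
    norm_num at h2
  -- the normalizer of `⟨y⟩` in `L` normalizes `V`
  haveI : Fact (Nat.Prime 3) := ⟨Nat.prime_three⟩
  have hY : IsPGroup 3 (zpowers y) := isPGroup_zpowers (k := 1) (by rw [hyo, pow_one])
  have hY1 : zpowers y ≠ ⊥ := zpowers_ne_bot' hy1
  have hI : IsPGroup 2 (zpowers i) := isPGroup_zpowers_invol hi2 hi1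
  have hiY : zpowers i ≤ normalizer (zpowers y : Set Γ) := by
    rw [zpowers_le, mem_normalizer_iff_map_conj_eq, MonoidHom.map_zpowers]
    show zpowers (i * y * i⁻¹) = zpowers y
    rw [hiy, zpowers_inv]
  have hNY := hL.eq_of_le (X := zpowers y ⊔ zpowers i) (sup_le (zpowers_le.2 hyL) (zpowers_le.2 hiL))
    (fun h' => hY1 (le_bot_iff.1 (h' ▸ le_sup_left))) (twoPrimes_sup hY hI hiY) (zpowers_le.2 hyL) hY1
    (twoPrimes_of_pGroup hY) (normalizer_sup_le (by norm_num) hY hI hiY)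
  have hNsub : ∀ c ∈ L, c ∈ normalizer (zpowers y : Set Γ) → c ∈ normalizer (V : Set Γ) := by
    intro c hcL hc
    have h1 : c * i * c⁻¹ ∈ ((zpowers y ⊔ zpowers i : Subgroup Γ) : Set Γ) :=
      (mem_normalizer_iff.1 (hNY.symm ▸ hc) i).1 (mem_sup_right (mem_zpowers i))
    rw [coe_mul_of_right_le_normalizer_left _ _ hiY] at h1
    obtain ⟨p, hp, q, hq, hpq⟩ := Set.mem_mul.1 h1
    have hqi : q = i := by
      rcases mem_zpowers_invol hi2 hq with h' | h'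
      · exfalso
        rw [h', mul_one] at hpq
        have h2 : orderOf p ∣ 3 := hyo ▸ orderOf_dvd_of_mem_zpowers hp
        rw [hpq, orderOf_conj, orderOf_invol hi2 hi1] at h2
        norm_num at h2
      · exact h'
    rw [hqi] at hpq
    -- `c` can be corrected to centralize `i`
    obtain ⟨j, rfl⟩ := mem_zpowers_iff.1 hp
    obtain ⟨d, hd⟩ : ∃ d, d = y ^ j * c := ⟨_, rfl⟩
    have hjy : y ^ j * (y ^ j * i) * (y ^ j)⁻¹ = i := by
      have h3 : i * (y ^ j)⁻¹ = y ^ j * i := by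
        have h4 : i * y ^ (-j) * i⁻¹ = y ^ j := by rw [← conj_zpow, hiy, inv_zpow', neg_neg]
        rw [← zpow_neg]
        exact mul_inv_eq_iff_eq_mul.1 h4
      have hy3 : y ^ j * y ^ j * y ^ j = 1 := by
        rw [← zpow_add, ← zpow_add, ← orderOf_dvd_iff_zpow_eq_one, hyo]
        exact ⟨j, by push_cast; ring⟩
      rw [mul_assoc, mul_assoc, h3, ← mul_assoc (y ^ j) (y ^ j), ← mul_assoc, hy3, one_mul]
    have hdL : d ∈ L := hd ▸ L.mul_mem (L.zpow_mem hyL j) hcL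
    have hdi : d * i = i * d := by
      rw [← mul_inv_eq_iff_eq_mul, hd, show y ^ j * c * i * (y ^ j * c)⁻¹ = y ^ j * (c * i * c⁻¹) * (y ^ j)⁻¹ by group,
        ← hpq, hjy]
    have hdS : d ∈ centralizer ({i} : Set Γ) ⊓ L := mem_inf.2 ⟨mem_cent.2 hdi, hdL⟩
    have hdy : d * y * d⁻¹ ∈ zpowers y :=
      (mem_normalizer_iff.1 (hd ▸ mul_mem (zpow_mem (le_normalizer (mem_zpowers y)) j) hc) y).1 (mem_zpowers y)
    have htwo := hCIT i hiL hi2 hi1
    have hyN : y ^ (-j) ∈ normalizer (V : Set Γ) := zpow_mem hyV _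
    rw [show c = y ^ (-j) * d by rw [hd, zpow_neg]; group]
    refine mul_mem hyN ?_
    rcases hZ3 _ hdy with h' | h' | h'
    · exact absurd (conj_eq_one_iff.1 h') hy1
    · rw [hL.cit_eq_one hCIT Nat.prime_three (by norm_num) hyL hyo hdL htwo hdS (mul_inv_eq_iff_eq_mul.1 h')]
      exact one_mem _
    · have h2 : d * i = 1 := hL.cit_eq_one hCIT Nat.prime_three (by norm_num) hyL hyo (L.mul_mem hdL hiL) htwo
        (mul_mem hdS (mem_inf.2 ⟨mem_cent.2 rfl, hiL⟩)) (by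
          rw [← mul_inv_eq_iff_eq_mul, show d * i * y * (d * i)⁻¹ = d * (i * y * i⁻¹) * d⁻¹ by group, hiy,
            show d * y⁻¹ * d⁻¹ = (d * y * d⁻¹)⁻¹ by group, h', inv_inv])
      rw [eq_inv_of_mul_eq_one_left h2]
      exact inv_mem hiV
  -- Frattini
  have hVL : V ≤ L := hVS.trans inf_le_right
  have hV1 : V ≠ ⊥ := fun h' => hu1 (mem_bot.1 (h' ▸ huV))
  have hVtwo : IsPGroup 2 V := hS.two.to_le hVS
  have hcoV := hL.coatom V hVL hV1 (twoPrimes_of_pGroup hVtwo)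
  have htop : L ⊔ normalizer (V : Set Γ) = ⊤ :=
    hcoV.2 _ (lt_of_le_of_ne le_sup_right fun h' =>
      hL.not_le_normalizer hVL hV1 (twoPrimes_of_pGroup hVtwo) (h'.symm ▸ le_sup_left))
  have hle : normalizer (zpowers y : Set Γ) ≤ normalizer (V : Set Γ) := by
    intro γ hγ
    obtain ⟨l, hl, m, hm, rfl⟩ := mem_sup_of_normal_left.1 (htop ▸ mem_top γ)
    refine mul_mem ?_ hm
    have hmy : m * y * m⁻¹ ∈ normalizer (V : Set Γ) := mul_mem (mul_mem hm hyV) (inv_mem hm)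
    have h1 : l⁻¹ * y * l ∈ normalizer (V : Set Γ) := by
      have h2 : (l * m)⁻¹ * y * (l * m) ∈ zpowers y := by
        have := (mem_normalizer_iff.1 (inv_mem hγ) y).1 (mem_zpowers y)
        rwa [inv_inv] at this
      rw [show l⁻¹ * y * l = m * ((l * m)⁻¹ * y * (l * m)) * m⁻¹ by group]
      exact mul_mem (mul_mem hm (zpowers_le.2 hyV h2)) (inv_mem hm)
    have h1L : l⁻¹ * y * l ∈ L := L.mul_mem (L.mul_mem (L.inv_mem hl) hyL) hl
    have ho : orderOf (l⁻¹ * y * l) = 3 := by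
      have := orderOf_conj l⁻¹ y; rw [inv_inv] at this; rw [this, hyo]
    obtain ⟨v', hv'V, c, hc, h' | h'⟩ := hdecomp _ h1L h1
    · obtain e | e | e := hZ3 c hc <;> rw [e] at h'
      · exfalso
        rw [mul_one] at h'
        have h4 := orderOf_dvd_of_pow_eq_one (show (l⁻¹ * y * l) ^ 2 = 1 by rw [h', pow_two, hV2 v' hv'V])
        rw [ho] at h4
        norm_num at h4
      · obtain ⟨w, hw, hwv⟩ := hsurj v' hv'V
        have hconj : w * y * w⁻¹ = l⁻¹ * y * l := by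
          rw [h', ← hwv, inv_eq_self (hV2 w hw), hVcomm _ ((mem_normalizer_iff.1 hyV w).1 hw) w hw,
            show w * (y * w * y⁻¹) * y = w * y * w by group]
        have hlw : l * w ∈ normalizer (zpowers y : Set Γ) := by
          rw [mem_normalizer_iff_map_conj_eq, MonoidHom.map_zpowers]
          show zpowers (l * w * y * (l * w)⁻¹) = zpowers y
          rw [show l * w * y * (l * w)⁻¹ = l * (w * y * w⁻¹) * l⁻¹ by group, hconj]
          group
        have := mul_mem (hNsub _ (L.mul_mem hl (hVL hw)) hlw) (inv_mem (le_normalizer hw))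
        rwa [mul_inv_cancel_right] at this
      · have hw0 : y⁻¹ * v' * y ∈ V := by
          have := (mem_normalizer_iff.1 (inv_mem hyV) v').1 hv'V
          rwa [inv_inv] at this
        obtain ⟨w, hw, hwv⟩ := hsurj _ ((mem_normalizer_iff.1 hyV v').1 hv'V)
        have hconj : w * y * w⁻¹ = (l⁻¹ * y * l)⁻¹ := by
          rw [h', mul_inv_rev, inv_inv, inv_eq_self (hV2 v' hv'V), inv_eq_self (hV2 w hw),
            show y * v' = y * v' * y⁻¹ * y by group, ← hwv, hVcomm _ ((mem_normalizer_iff.1 hyV w).1 hw) w hw]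
          group
        have hlw : l * w ∈ normalizer (zpowers y : Set Γ) := by
          rw [mem_normalizer_iff_map_conj_eq, MonoidHom.map_zpowers]
          show zpowers (l * w * y * (l * w)⁻¹) = zpowers y
          rw [show l * w * y * (l * w)⁻¹ = l * (w * y * w⁻¹) * l⁻¹ by group, hconj,
            show l * (l⁻¹ * y * l)⁻¹ * l⁻¹ = y⁻¹ by group, zpowers_inv]
        have := mul_mem (hNsub _ (L.mul_mem hl (hVL hw)) hlw) (inv_mem (le_normalizer hw))
        rwa [mul_inv_cancel_right] at this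
    · exfalso
      -- an odd permutation of the three involutions
      obtain ⟨q, hq⟩ : ∃ q, q = c * a := ⟨_, rfl⟩
      have hq2 : ∀ w ∈ V, q * (q * w * q⁻¹) * q⁻¹ = w := by
        intro w hw
        have hpa : a * (a * u * a⁻¹) * a⁻¹ = u ∧ a * (a * x * a⁻¹) * a⁻¹ = x := by
          refine ⟨by rw [hau', hau'], ?_⟩
          rw [hax, show a * (u * x) * a⁻¹ = a * u * a⁻¹ * (a * x * a⁻¹) by group, hau', hax, ← mul_assoc, hu2,
            one_mul]
        have hau2 : a * (x * u) * a⁻¹ = x := by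
          rw [show a * (x * u) * a⁻¹ = a * x * a⁻¹ * (a * u * a⁻¹) by group, hax, hau', mul_assoc, hxu,
            ← mul_assoc, hu2, one_mul]
        have hyxu : y * (x * u) * y⁻¹ = u := by
          rw [show y * (x * u) * y⁻¹ = y * x * y⁻¹ * (y * u * y⁻¹) by group, hyx, hyu, mul_assoc, ← hxu,
            ← mul_assoc, hx2, one_mul]
        have hax' : a * x * a⁻¹ = x * u := by rw [hax, hxu]
        have hyi : ∀ {s t : Γ}, y * s * y⁻¹ = t → y⁻¹ * t * y⁻¹⁻¹ = s := fun h => by rw [← h]; group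
        have hu0 : q * (q * u * q⁻¹) * q⁻¹ = u ∧ q * (q * x * q⁻¹) * q⁻¹ = x := by
          obtain e | e | e := hZ3 c hc <;> rw [e] at hq
          · rw [hq, one_mul]; exact hpa
          · have e1 : y * a * u * (y * a)⁻¹ = x := by
              rw [show y * a * u * (y * a)⁻¹ = y * (a * u * a⁻¹) * y⁻¹ by group, hau', hyu]
            have e2 : y * a * x * (y * a)⁻¹ = u := by
              rw [show y * a * x * (y * a)⁻¹ = y * (a * x * a⁻¹) * y⁻¹ by group, hax', hyxu]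
            rw [hq]
            exact ⟨by rw [e1, e2], by rw [e2, e1]⟩
          · have e1 : y⁻¹ * a * u * (y⁻¹ * a)⁻¹ = x * u := by
              rw [show y⁻¹ * a * u * (y⁻¹ * a)⁻¹ = y⁻¹ * (a * u * a⁻¹) * y⁻¹⁻¹ by group, hau', hyi hyxu]
            have e2 : y⁻¹ * a * x * (y⁻¹ * a)⁻¹ = x := by
              rw [show y⁻¹ * a * x * (y⁻¹ * a)⁻¹ = y⁻¹ * (a * x * a⁻¹) * y⁻¹⁻¹ by group, hax', hyi hyx]
            have e3 : y⁻¹ * a * (x * u) * (y⁻¹ * a)⁻¹ = u := by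
              rw [show y⁻¹ * a * (x * u) * (y⁻¹ * a)⁻¹ = y⁻¹ * (a * (x * u) * a⁻¹) * y⁻¹⁻¹ by group, hau2,
                hyi hyu]
            rw [hq]
            exact ⟨by rw [e1, e3], by rw [e2, e2]⟩
        rcases hVmem w hw with rfl | rfl | rfl | rfl
        · group
        · exact hu0.1
        · exact hu0.2
        · conv_rhs => rw [← hu0.1, ← hu0.2]
          group
      obtain ⟨d, hd⟩ : ∃ d, d = l⁻¹ * y * l := ⟨_, rfl⟩
      have hd' : d = v' * q := by rw [hd, h', hq, mul_assoc]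
      have hq' : ∀ w ∈ V, d * w * d⁻¹ = q * w * q⁻¹ := by
        intro w hw
        have hqw : q * w * q⁻¹ ∈ V := (mem_normalizer_iff.1 (hq ▸ mul_mem (zpowers_le.2 hyV hc) haV) w).1 hw
        rw [hd', show v' * q * w * (v' * q)⁻¹ = v' * (q * w * q⁻¹) * v'⁻¹ by group, hVcomm _ hv'V _ hqw]
        group
      have hd2 : ∀ w ∈ V, d ^ 2 * w * (d ^ 2)⁻¹ = w := by
        intro w hw
        rw [show d ^ 2 * w * (d ^ 2)⁻¹ = d * (d * w * d⁻¹) * d⁻¹ by rw [pow_two]; group, hq' w hw,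
          hq' _ ((mem_normalizer_iff.1 (hq ▸ mul_mem (zpowers_le.2 hyV hc) haV) w).1 hw), hq2 w hw]
      have hd2V : d ^ 2 ∈ V := by
        rcases hfix _ (L.pow_mem (hd ▸ h1L) 2) (mul_inv_eq_iff_eq_mul.1 (hd2 u huV))
          (mul_inv_eq_iff_eq_mul.1 (hd2 x hxV)) with h3 | h3 | h3 | h3 <;> rw [h3]
        exacts [V.one_mem, huV, hxV, V.mul_mem huV hxV]
      have hdo : orderOf d = 3 := hd ▸ ho
      have h4 := orderOf_dvd_of_pow_eq_one (show d ^ 4 = 1 by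
        rw [show (4 : ℕ) = 2 + 2 by norm_num, pow_add]; exact hV2 _ hd2V)
      rw [hdo] at h4
      norm_num at h4
  have heq := hL.eq_of_le (zpowers_le.2 hyL) hY1 (twoPrimes_of_pGroup hY) hVL hV1 (twoPrimes_of_pGroup hVtwo) hle
  have huY : u ∈ normalizer (zpowers y : Set Γ) := heq.symm ▸ le_normalizer huV
  have h1 : u * y * u⁻¹ * y⁻¹ ∈ zpowers y :=
    mul_mem ((mem_normalizer_iff.1 huY y).1 (mem_zpowers y)) (inv_mem (mem_zpowers y))
  have h2 : u * (y * u⁻¹ * y⁻¹) ∈ V := V.mul_mem huV ((mem_normalizer_iff.1 hyV _).1 (V.inv_mem huV))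
  have h3 : u * y * u⁻¹ * y⁻¹ = 1 := by
    refine eq_one_of_two_mem hVtwo (by rwa [← mul_assoc, ← mul_assoc] at h2) ?_
    exact (show Odd 3 by decide).of_dvd_nat (hyo ▸ orderOf_dvd_of_mem_zpowers h1)
  rw [mul_inv_eq_one, mul_inv_eq_iff_eq_mul] at h3
  exact hne (by rw [← hyu, ← h3, mul_inv_cancel_right])

end Setting

/-- Some involution of the socle commutes with an element of odd prime order. -/
theorem Setting.exists_cent {L : Subgroup Γ} (hL : Setting L) :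
    ∃ u y : Γ, ∃ r : ℕ, u ∈ L ∧ u * u = 1 ∧ u ≠ 1 ∧ r.Prime ∧ r ≠ 2 ∧ y ∈ L ∧ orderOf y = r ∧
      u * y = y * u := by
  haveI : Fact (Nat.Prime 2) := ⟨Nat.prime_two⟩
  haveI := hL.simple
  by_contra hno
  have hCIT : ∀ u ∈ L, u * u = 1 → u ≠ 1 → IsPGroup 2 ↥(centralizer ({u} : Set Γ) ⊓ L) := by
    intro u hu hu2 hu1
    refine IsPGroup.of_card (Nat.eq_prime_pow_of_unique_prime_dvd Nat.card_pos.ne' fun {d} hd hdd => ?_)
    by_contra hd2
    haveI : Fact d.Prime := ⟨hd⟩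
    obtain ⟨y, hy⟩ := exists_prime_orderOf_dvd_card' d hdd
    rw [← Subgroup.orderOf_coe] at hy
    exact hno ⟨u, y, d, hu, hu2, hu1, hd, hd2, (mem_inf.1 y.2).2, hy, (mem_cent.1 (mem_inf.1 y.2).1).symm⟩
  have hna : ¬ IsMulCommutative ↥L := fun h => hL.notSolvable (Group.isSolvable_of_comm fun a b => h.is_comm.comm a b)
  have hC : Cfsg.Lib.CIT.IsCIT ↥L := fun t ht => by
    have ht1 : (t : Γ) ≠ 1 := fun e => by
      rw [show t = 1 from Subtype.ext e, orderOf_one] at ht; omega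
    have ht2 : (t : Γ) * t = 1 := by
      have := congrArg Subtype.val (pow_orderOf_eq_one t)
      rwa [ht, SubmonoidClass.coe_pow, pow_two] at this
    intro g
    obtain ⟨k, hk⟩ := hCIT t t.2 ht2 ht1
      ⟨((g : ↥L) : Γ), mem_inf.2 ⟨mem_cent.2 (congrArg Subtype.val (mem_centralizer_singleton_iff.1 g.2)),
        (g : ↥L).2⟩⟩
    exact ⟨k, Subtype.ext (Subtype.ext (congrArg Subtype.val hk :))⟩
  obtain ⟨u, hu, hu2, hu1⟩ : ∃ u ∈ L, u * u = 1 ∧ u ≠ 1 := by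
    obtain ⟨S, hS, -⟩ := exists_isS (L := L) (T := (⊥ : Subgroup Γ)) bot_le IsPGroup.of_bot
    obtain ⟨a, ha⟩ := IsPGroup.iff_card.1 hS.two
    have ha0 : a ≠ 0 := fun e => hL.isS_ne_bot hS (card_eq_one.1 (by rw [ha, e, pow_zero]))
    obtain ⟨x, hx⟩ := exists_prime_orderOf_dvd_card' (G := ↥S) 2 (ha ▸ dvd_pow_self 2 ha0)
    refine ⟨x, hS.le x.2, ?_, fun e => ?_⟩
    · have := congrArg Subtype.val (pow_orderOf_eq_one x)
      rwa [hx, SubmonoidClass.coe_pow, pow_two] at this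
    · rw [show x = 1 from Subtype.ext e, orderOf_one] at hx; omega
  have hti : Cfsg.Lib.CIT.TIHolds.{u} := fun Y _ _ H hD => Cfsg.Lib.CIT.exists_tiShape hD
  rcases Cfsg.Lib.CIT.trichotomy (Cfsg.Lib.CIT.ffHolds hti) (Nat.card ↥L + 1) ↥L hna hC (Nat.lt_succ_self _)
    with hT | hT | hT
  · exact hL.cit_not_ti hCIT hT hu hu2 hu1
  · exact hL.cit_not_dihedral hCIT hT hu hu2 hu1
  · exact hL.cit_not_psl_three_four hCIT hT

end Cfsg.Lib.MaxNorm
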