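import Mathlib

/-!
# Odd power-order elements with normal cyclic groups commute
-/

set_option autoImplicit false
set_option linter.style.haveILetI false

namespace Cfsg.Lib.MaxNorm

open Subgroup

universe u

variable {G : Type u} [Group G]

theorem mul_pow_of_commutator {a b z : G} (h : b * a = a * b * z) (za : z * a = a * z) (zb : z * b = b * z) :
    ∀ k : ℕ, (a * b) ^ k = a ^ k * b ^ k * z ^ k.choose 2 := by
  have hz : ∀ k : ℕ, b ^ k * a = a * b ^ k * z ^ k := by
    intro k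
    induction k with
    | zero => simp
    | succ k ih =>
      have hc : Commute z b := zb
      calc b ^ (k + 1) * a = b * (b ^ k * a) := by rw [pow_succ']; group
        _ = b * a * (b ^ k * z ^ k) := by rw [ih]; group
        _ = a * b * (z * b ^ k) * z ^ k := by rw [h]; group
        _ = a * b * (b ^ k * z) * z ^ k := by rw [(hc.pow_right k).eq]
        _ = a * b ^ (k + 1) * z ^ (k + 1) := by rw [pow_succ' b, pow_succ' z]; group
  intro k
  induction k with
  | zero => simp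
  | succ k ih =>
    have hab : Commute (z ^ k.choose 2) (a * b) := ((show Commute z a from za).mul_right (show Commute z b from zb)).pow_left _
    have hzb : Commute (z ^ k) b := (show Commute z b from zb).pow_left _
    calc (a * b) ^ (k + 1) = a ^ k * b ^ k * (z ^ k.choose 2 * (a * b)) := by rw [pow_succ, ih]; group
      _ = a ^ k * b ^ k * (a * b * z ^ k.choose 2) := by rw [hab.eq]
      _ = a ^ k * (b ^ k * a) * b * z ^ k.choose 2 := by group
      _ = a ^ k * a * b ^ k * (z ^ k * b) * z ^ k.choose 2 := by rw [hz]; group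
      _ = a ^ k * a * (b ^ k * b) * (z ^ k * z ^ k.choose 2) := by rw [hzb.eq]; group
      _ = a ^ (k + 1) * b ^ (k + 1) * z ^ (k + 1).choose 2 := by
          rw [← pow_succ, ← pow_succ, ← pow_add, show (k + 1).choose 2 = k + k.choose 2 by
            rw [Nat.choose_succ_succ', Nat.choose_one_right]]

/-- Two elements of odd prime power order, each of which normalizes the cyclic group of the other one and whose
products generate normalized subgroups, commute. -/
theorem commute_of_normal_zpowers [Finite G] {p : ℕ} (hp : p.Prime) (hp2 : p ≠ 2) {R : Subgroup G}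
    (hR : ∀ r ∈ R, ∀ j : ℕ, orderOf r = p ^ j → (zpowers r).Normal)
    {y w : G} (hy : y ∈ R) (hw : w ∈ R) {m n : ℕ} (hym : orderOf y = p ^ m) (hwn : orderOf w = p ^ n)
    (hnm : n ≤ m) : y * w = w * y := by
  haveI hYn := hR y hy m hym
  haveI hWn := hR w hw n hwn
  classical
  have hex : ∃ i, w ^ (p ^ i) ∈ zpowers y := ⟨n, by rw [← hwn, pow_orderOf_eq_one]; exact one_mem _⟩
  obtain ⟨i, hi, himin⟩ : ∃ i, w ^ (p ^ i) ∈ zpowers y ∧ ∀ j, j < i → w ^ (p ^ j) ∉ zpowers y :=
    ⟨Nat.find hex, Nat.find_spec hex, fun j => Nat.find_min hex⟩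
  have hin : i ≤ n := by
    by_contra hlt
    exact himin n (not_le.1 hlt) (by rw [← hwn, pow_orderOf_eq_one]; exact one_mem _)
  obtain ⟨j, hj⟩ : ∃ j : ℕ, y ^ j = w ^ (p ^ i) := Submonoid.mem_powers_iff _ _ |>.1 (mem_powers_iff_mem_zpowers.2 hi)
  -- `y ^ j` is a `p ^ i`-th power
  obtain ⟨a, rfl⟩ : p ^ i ∣ j := by
    have h1 : y ^ (j * p ^ (n - i)) = 1 := by
      rw [pow_mul, hj, ← pow_mul, ← pow_add, Nat.add_sub_cancel' hin, ← hwn, pow_orderOf_eq_one]
    have h2 := orderOf_dvd_of_pow_eq_one h1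
    rw [hym, show p ^ m = p ^ (m - (n - i)) * p ^ (n - i) by rw [← pow_add, Nat.sub_add_cancel (by omega)]] at h2
    exact (pow_dvd_pow p (show i ≤ m - (n - i) by omega)).trans (Nat.dvd_of_mul_dvd_mul_right (pow_pos hp.pos _) h2)
  obtain ⟨b, hb⟩ : ∃ b, b = (y ^ a)⁻¹ := ⟨_, rfl⟩
  have hbY : b ∈ zpowers y := hb ▸ inv_mem (pow_mem (mem_zpowers y) _)
  have hbN : b ^ (p ^ i) = (w ^ (p ^ i))⁻¹ := by rw [hb, inv_pow, ← pow_mul, mul_comm, hj]
  -- the commutator lies in both cyclic groups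
  obtain ⟨z, hz⟩ : ∃ z, z = b⁻¹ * w⁻¹ * b * w := ⟨_, rfl⟩
  have hzY : z ∈ zpowers y := by
    rw [hz, show b⁻¹ * w⁻¹ * b * w = b⁻¹ * (w⁻¹ * b * w⁻¹⁻¹) by group]
    exact mul_mem (inv_mem hbY) (hYn.conj_mem b hbY w⁻¹)
  have hzW : z ∈ zpowers w := by
    rw [hz, show b⁻¹ * w⁻¹ * b * w = b⁻¹ * w⁻¹ * b⁻¹⁻¹ * w by group]
    exact mul_mem (hWn.conj_mem _ (inv_mem (mem_zpowers w)) b⁻¹) (mem_zpowers w)
  have comm : ∀ (v : G) {s t : G}, s ∈ zpowers v → t ∈ zpowers v → s * t = t * s := by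
    rintro v _ _ ⟨s, rfl⟩ ⟨t, rfl⟩
    exact (Commute.refl v).zpow_zpow s t
  have hzw : z * w = w * z := comm w hzW (mem_zpowers w)
  have hzb : z * b = b * z := comm y hzY hbY
  have hbw : b * w = w * b * z := by rw [hz]; group
  have hzN : z ^ (p ^ i) = 1 := by
    have key : ∀ k : ℕ, w ^ k * b * z ^ k = b * w ^ k := by
      intro k
      induction k with
      | zero => simp
      | succ k ih =>
        have hc : Commute (z ^ k) w := (show Commute z w from hzw).pow_left k
        calc w ^ (k + 1) * b * z ^ (k + 1) = w ^ k * (w * b * z) * z ^ k := by rw [pow_succ, pow_succ']; group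
          _ = w ^ k * b * (w * z ^ k) := by rw [← hbw]; group
          _ = w ^ k * b * z ^ k * w := by rw [← hc.eq]; group
          _ = b * w ^ (k + 1) := by rw [ih, pow_succ]; group
    have h1 := key (p ^ i)
    rw [comm y hi hbY, mul_assoc] at h1
    have h2 := mul_left_cancel h1
    rwa [mul_eq_left] at h2
  have hodd : Odd (p ^ i) := (hp.odd_of_ne_two hp2).pow
  obtain ⟨c, hc⟩ : p ^ i ∣ (p ^ i).choose 2 := by
    obtain ⟨k, hk⟩ := hodd
    refine ⟨k, ?_⟩
    rw [Nat.choose_two_right, hk, Nat.add_sub_cancel, ← mul_assoc, mul_comm (2 * k + 1) 2, mul_assoc,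
      Nat.mul_div_cancel_left _ two_pos]
  have hv : (w * b) ^ (p ^ i) = 1 := by
    rw [mul_pow_of_commutator hbw hzw hzb, hbN, mul_inv_cancel, one_mul, hc, pow_mul, hzN, one_pow]
  have hbR : b ∈ R := zpowers_le.2 hy hbY
  obtain ⟨l, -, hl⟩ := (Nat.dvd_prime_pow hp).1 (orderOf_dvd_of_pow_eq_one hv)
  haveI hVn := hR (w * b) (mul_mem hw hbR) l hl
  have hint : zpowers (w * b) ⊓ zpowers y = ⊥ := by
    rw [eq_bot_iff]
    rintro x ⟨hx1, hx2⟩
    obtain ⟨k, rfl⟩ := Submonoid.mem_powers_iff _ _ |>.1 (mem_powers_iff_mem_zpowers.2 hx1)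
    have hwk : w ^ k ∈ zpowers y := by
      have h1 : (w * b) ^ k ∈ zpowers y := hx2
      rw [mul_pow_of_commutator hbw hzw hzb, mul_mem_cancel_right (pow_mem hzY _),
        mul_mem_cancel_right (pow_mem hbY _)] at h1
      exact h1
    obtain ⟨e, -, he⟩ := (Nat.dvd_prime_pow hp).1 (Nat.gcd_dvd_right k (p ^ n))
    have hwe : w ^ (p ^ e) ∈ zpowers y := by
      have h1 := Nat.gcd_eq_gcd_ab k (p ^ n)
      rw [he] at h1
      rw [← zpow_natCast, h1, zpow_add, zpow_mul, zpow_mul, zpow_natCast, zpow_natCast, ← hwn, pow_orderOf_eq_one,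
        one_zpow, mul_one]
      exact zpow_mem hwk _
    have hie : i ≤ e := by
      by_contra h
      exact himin e (not_le.1 h) hwe
    obtain ⟨q, hq⟩ : p ^ i ∣ k := (pow_dvd_pow p hie).trans (he ▸ Nat.gcd_dvd_left k (p ^ n))
    rw [mem_bot, hq, pow_mul, hv, one_pow]
  have hcomm : y * (w * b) = w * b * y := by
    have h1 : y * (w * b) * y⁻¹ * (w * b)⁻¹ ∈ zpowers (w * b) ⊓ zpowers y := mem_inf.2
      ⟨mul_mem (hVn.conj_mem _ (mem_zpowers _) y) (inv_mem (mem_zpowers _)), by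
        rw [show y * (w * b) * y⁻¹ * (w * b)⁻¹ = y * ((w * b) * y⁻¹ * (w * b)⁻¹) by group]
        exact mul_mem (mem_zpowers y) (hYn.conj_mem _ (inv_mem (mem_zpowers y)) _)⟩
    rwa [hint, mem_bot, mul_inv_eq_one, mul_inv_eq_iff_eq_mul] at h1
  have hyb : Commute y b⁻¹ := (show Commute y b from comm y (mem_zpowers y) hbY).inv_right
  have h1 := (show Commute y (w * b) from hcomm).mul_right hyb
  rwa [mul_inv_cancel_right] at h1

end Cfsg.Lib.MaxNorm
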