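import Cfsg.Agent.Lib.MaxNorm.Reduce
import Cfsg.Agent.Lib.MaxNorm.Dedekind
import Cfsg.Agent.Lib.Dickson.PSLTwo
import Cfsg.Agent.Lib.CpClosed.AbelianTwo.LTwo
import Cfsg.Agent.S2086
import Cfsg.Agent.Lib.GW.DGroupDihedral

/-!
# The radical is central and abelian
-/

set_option autoImplicit false
set_option linter.style.haveILetI false
set_option linter.unusedSectionVars false

namespace Cfsg.Lib.MaxNorm

open Subgroup

universe u

variable {G : Type u} [Group G] [Finite G] {L : Subgroup G}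

theorem Layer.commute (hL : Layer G L) {r l : G} (hr : r ∈ Cfsg.solvableRadical G) (hl : l ∈ L) : l * r = r * l :=
  mem_centralizer_iff.1 (hL.cent_eq ▸ hr : r ∈ centralizer (L : Set G)) l hl

/-- An element of prime power order of the radical generates a normal subgroup. -/
theorem Layer.zpowers_normal (hG : MaxNormHyp G) (hL : Layer G L) (hsup : L ⊔ Cfsg.solvableRadical G = ⊤)
    {y x : G} {p q k : ℕ} (hp : p.Prime) (hq : q.Prime) (hpq : p ≠ q) (hy : y ∈ Cfsg.solvableRadical G)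
    (hyo : orderOf y = q ^ k) (hx : x ∈ L) (hxo : orderOf x = p) (hxR : x ∉ Cfsg.solvableRadical G) :
    (zpowers y).Normal := by
  haveI := Fact.mk hp
  haveI := Fact.mk hq
  have hX : IsPGroup p (zpowers x) := isPGroup_zpowers (k := 1) (by rw [hxo, pow_one])
  have hY : IsPGroup q (zpowers y) := isPGroup_zpowers hyo
  have hxy : ∀ a ∈ zpowers x, ∀ b ∈ zpowers y, a * b = b * a := fun a ha b hb =>
    hL.commute (zpowers_le.2 hy hb) (zpowers_le.2 hx ha)
  have hYX : zpowers y ≤ normalizer (zpowers x : Set G) := centralizer_le_normalizer _ hxy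
  have hXY : zpowers x ≤ normalizer (zpowers y : Set G) :=
    centralizer_le_normalizer _ fun b hb a ha => (hxy a ha b hb).symm
  have h2 := twoPrimes_sup hX hY hYX
  have hns' := not_subnormal h2 (mem_sup_left (mem_zpowers x)) hxR
  have hnx := not_subnormal (twoPrimes_of_pGroup hX) (mem_zpowers x) hxR
  have e1 := eq_of_le_normalizer_subgroups hG hns' h2 hnx (twoPrimes_of_pGroup hX)
    (normalizer_sup_le hpq hX hY hYX)
  have hle : normalizer (zpowers x : Set G) ≤ normalizer (zpowers y : Set G) := by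
    rw [← e1, sup_comm]
    exact normalizer_sup_le hpq.symm hY hX hXY
  have hLy : L ≤ normalizer (zpowers y : Set G) := centralizer_le_normalizer _ fun b hb l hl =>
    (hL.commute (zpowers_le.2 hy hb) hl).symm
  refine normalizer_eq_top_iff.1 ((hG _ hnx (twoPrimes_of_pGroup hX)).2 _ (lt_of_le_of_ne hle fun e => ?_))
  rw [← e] at hLy
  exact hnx (IsSubnormal.step _ L (zpowers_le.2 hx) hL.normal.isSubnormal
    ((normal_subgroupOf_iff_le_normalizer (zpowers_le.2 hx)).2 hLy))

/-- The radical has no element of a prime order dividing `L` exactly once. -/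
theorem Layer.eq_one_of_prime (hG : MaxNormHyp G) (hL : Layer G L) {p : ℕ} (hp : p.Prime)
    (hdvd : p ∣ Nat.card L) (hdvd2 : ¬ p ^ 2 ∣ Nat.card L)
    (hZ : ¬ p ∣ Nat.card ↥(Cfsg.solvableRadical G ⊓ L)) {c : G} (hc : c ∈ Cfsg.solvableRadical G)
    {m : ℕ} (hco : orderOf c = p ^ m) : c = 1 := by
  haveI := Fact.mk hp
  haveI := hL.normal
  haveI := Cfsg.Lib.AlmostCyc.solvableRadical_normal (G := G)
  by_contra hc1
  have hpc : p ∣ orderOf c := by
    rcases Nat.eq_zero_or_pos m with h | h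
    · exact absurd (orderOf_eq_one_iff.1 (by rw [hco, h, pow_zero])) hc1
    · exact hco ▸ dvd_pow_self p h.ne'
  have hZ1 : ∀ x ∈ Cfsg.solvableRadical G ⊓ L, x ^ p = 1 → x = 1 := by
    intro x hx h1
    rcases (Nat.dvd_prime hp).1 (orderOf_dvd_of_pow_eq_one h1) with h | h
    · exact orderOf_eq_one_iff.1 h
    · exact absurd (h ▸ Subgroup.orderOf_dvd_natCard _ hx) hZ
  obtain ⟨P⟩ : Nonempty (Sylow p ↥L) := inferInstance
  have hPc : Nat.card (P : Subgroup ↥L) = p := by
    obtain ⟨a, ha⟩ := IsPGroup.iff_card.1 P.2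
    have h1 := P.dvd_card_of_dvd_card hdvd
    have h2 : p ^ a ∣ Nat.card ↥L := ha ▸ Subgroup.card_subgroup_dvd_card _
    rcases a with _ | _ | a
    · rw [ha, pow_zero] at h1; exact absurd h1 hp.not_dvd_one
    · rw [ha, pow_one]
    · exact absurd ((pow_dvd_pow p (by omega)).trans h2) hdvd2
  obtain ⟨n, hnN, hnC⟩ := SetLike.not_le_iff_exists.1 (show ¬ normalizer ((P : Subgroup ↥L) : Set ↥L) ≤
      centralizer ((P : Subgroup ↥L) : Set ↥L) from fun hP => by
    have hcompl := MonoidHom.ker_transferSylow_isComplement' P hP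
    have hk : (MonoidHom.transferSylow P hP).ker = ⊤ := by
      refine top_le_iff.1 ?_
      have hperf : commutator ↥L = ⊤ := map_injective (subtype_injective L) (by
        rw [map_subtype_commutator, ← MonoidHom.range_eq_map, range_subtype, hL.perfect])
      rw [← hperf, _root_.commutator_def, commutator_le]
      intro a _ b _
      rw [MonoidHom.mem_ker, map_commutatorElement, commutatorElement_eq_one_iff_mul_comm]
      exact Subtype.ext (mem_centralizer_iff.1 (hP (le_normalizer ((MonoidHom.transferSylow P hP) b).2)) _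
        ((MonoidHom.transferSylow P hP) a).2)
    rw [hk] at hcompl
    have := isComplement'_top_left.1 hcompl
    rw [this, card_bot] at hPc
    exact hp.ne_one hPc.symm)
  haveI : IsCyclic (P : Subgroup ↥L) := isCyclic_of_prime_card hPc
  obtain ⟨r₀, hr₀⟩ := IsCyclic.exists_generator (α := (P : Subgroup ↥L))
  obtain ⟨r, hr⟩ : ∃ r : G, r = ((r₀ : ↥L) : G) := ⟨_, rfl⟩
  have hrL : r ∈ L := hr ▸ (r₀ : ↥L).2
  have hro : orderOf r = p := by rw [hr, Subgroup.orderOf_coe, Subgroup.orderOf_coe, orderOf_eq_card_of_forall_mem_zpowers hr₀, hPc]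
  have hrR : r ∉ Cfsg.solvableRadical G := fun h => hZ (hro ▸ Subgroup.orderOf_dvd_natCard _ (mem_inf.2 ⟨h, hrL⟩))
  obtain ⟨nG, hn⟩ : ∃ nG : G, nG = (n : G) := ⟨_, rfl⟩
  have hPz : ∀ x : ↥L, x ∈ (P : Subgroup ↥L) ↔ (x : G) ∈ zpowers r := by
    intro x
    constructor
    · intro hx
      obtain ⟨k, hk⟩ := hr₀ ⟨x, hx⟩
      refine ⟨k, ?_⟩
      have := congrArg (fun v : (P : Subgroup ↥L) => ((v : ↥L) : G)) hk
      simpa [hr] using this
    · rintro ⟨k, hk⟩
      have : x = (r₀ : ↥L) ^ k := Subtype.ext (by simpa [hr] using hk.symm)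
      rw [this]
      exact zpow_mem r₀.2 k
  have hnr : nG * r * nG⁻¹ ∈ zpowers r := by
    have := (hPz _).1 ((mem_normalizer_iff.1 hnN _).1 r₀.2)
    simpa [hn, hr] using this
  have hnN' : nG ∈ normalizer (zpowers r : Set G) := by
    rw [mem_normalizer_iff_map_conj_eq]
    refine eq_of_le_of_card_ge ?_ (Nat.card_congr (Subgroup.equivMapOfInjective _ _
      (MulAut.conj nG).injective).toEquiv).le
    rw [MonoidHom.map_zpowers, zpowers_le]
    exact hnr
  have hcr : Commute c r := (hL.commute hc hrL).symm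
  have hrc : IsPGroup p (zpowers (r * c)) := by
    refine IsPGroup.of_card (n := (Nat.log p (orderOf (r * c)))) ?_
    rw [Nat.card_zpowers]
    have h1 : orderOf (r * c) ∣ p ^ (max 1 m) := by
      refine (hcr.symm.orderOf_mul_dvd_lcm).trans (Nat.lcm_dvd ?_ ?_)
      · rw [hro]; exact dvd_pow_self p (by omega)
      · rw [hco]; exact pow_dvd_pow p (le_max_right _ _)
    obtain ⟨e, -, he⟩ := (Nat.dvd_prime_pow hp).1 h1
    rw [he, Nat.log_pow hp.one_lt]
  have hrY : IsPGroup p (zpowers r) := isPGroup_zpowers (k := 1) (by rw [hro, pow_one])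
  have hnsX := not_subnormal (twoPrimes_of_pGroup hrc) (mem_zpowers (r * c)) fun h =>
    hrR (by simpa using mul_mem h (inv_mem hc))
  have hnsY := not_subnormal (twoPrimes_of_pGroup hrY) (mem_zpowers r) hrR
  have hle : normalizer (zpowers (r * c) : Set G) ≤ normalizer (zpowers r : Set G) := by
    intro g hg
    rw [mem_normalizer_iff_map_conj_eq]
    refine eq_of_le_of_card_ge ?_ (Nat.card_congr (Subgroup.equivMapOfInjective _ _
      (MulAut.conj g).injective).toEquiv).le
    rw [MonoidHom.map_zpowers, zpowers_le]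
    show g * r * g⁻¹ ∈ zpowers r
    obtain ⟨j, hj⟩ := mem_zpowers_iff.1 ((mem_normalizer_iff.1 hg _).1 (mem_zpowers (r * c)))
    rw [hcr.symm.mul_zpow] at hj
    obtain ⟨z, hz⟩ : ∃ z, z = (r ^ j)⁻¹ * (g * r * g⁻¹) := ⟨_, rfl⟩
    have hzL : z ∈ L := hz ▸ mul_mem (inv_mem (zpow_mem hrL j)) (hL.normal.conj_mem r hrL g)
    have hzR : z ∈ Cfsg.solvableRadical G := by
      have e : z = c ^ j * (g * c * g⁻¹)⁻¹ := by
        rw [hz]
        apply mul_right_cancel (b := g * c * g⁻¹)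
        rw [inv_mul_cancel_right, mul_assoc, show g * r * g⁻¹ * (g * c * g⁻¹) = g * (r * c) * g⁻¹ by group,
          ← hj, inv_mul_cancel_left]
      rw [e]
      exact mul_mem (zpow_mem hc j) (inv_mem (Normal.conj_mem inferInstance c hc g))
    have hzc : Commute z (r ^ j) := hL.radical_central z (mem_inf.2 ⟨hzR, hzL⟩) _ (zpow_mem hrL j)
    have hzp : z ^ p = 1 := by
      have h1 : (g * r * g⁻¹) ^ p = 1 := by rw [conj_pow, ← hro, pow_orderOf_eq_one]; group
      have h3 : g * r * g⁻¹ = r ^ j * z := by rw [hz, mul_inv_cancel_left]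
      rw [h3, hzc.symm.mul_pow, ← zpow_natCast, ← zpow_mul, mul_comm, zpow_mul, zpow_natCast, ← hro,
        pow_orderOf_eq_one, one_zpow, one_mul, hro] at h1
      exact h1
    rw [hZ1 z (mem_inf.2 ⟨hzR, hzL⟩) hzp] at hz
    rw [← inv_mul_eq_one.1 hz.symm]
    exact zpow_mem (mem_zpowers r) j
  have heq := eq_of_le_normalizer_subgroups hG hnsX (twoPrimes_of_pGroup hrc) hnsY (twoPrimes_of_pGroup hrY) hle
  obtain ⟨j, hj⟩ := mem_zpowers_iff.1 ((mem_normalizer_iff.1 (heq ▸ hnN' : nG ∈ normalizer (zpowers (r * c) : Set G)) _).1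
    (mem_zpowers (r * c)))
  rw [hcr.symm.mul_zpow, show nG * (r * c) * nG⁻¹ = nG * r * nG⁻¹ * (nG * c * nG⁻¹) by group,
    show nG * c * nG⁻¹ = c by rw [hL.commute hc (hn ▸ n.2), mul_inv_cancel_right]] at hj
  have hd : (r ^ j)⁻¹ * (nG * r * nG⁻¹) = c ^ j * c⁻¹ := by
    apply mul_right_cancel (b := c)
    rw [inv_mul_cancel_right, mul_assoc, ← hj, inv_mul_cancel_left]
  have hd1 : (r ^ j)⁻¹ * (nG * r * nG⁻¹) = 1 := by
    obtain ⟨e, he⟩ := mem_zpowers_iff.1 hnr
    refine hZ1 _ (mem_inf.2 ⟨?_, mul_mem (inv_mem (zpow_mem hrL j)) (hL.normal.conj_mem r hrL nG)⟩) ?_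
    · rw [hd]; exact mul_mem (zpow_mem hc j) (inv_mem hc)
    · rw [← he, ← zpow_neg, ← zpow_add, ← zpow_natCast, ← zpow_mul, mul_comm, zpow_mul, zpow_natCast, ← hro,
        pow_orderOf_eq_one, one_zpow]
  have h0 : c ^ (j - 1) = 1 := by rw [zpow_sub, zpow_one, ← hd, hd1]
  have h1 : r ^ (j - 1) = 1 := orderOf_dvd_iff_zpow_eq_one.1
    ((Int.natCast_dvd_natCast.2 (hro ▸ hpc)).trans (orderOf_dvd_iff_zpow_eq_one.2 h0))
  have hnrr : nG * r * nG⁻¹ = r := by
    rw [← inv_mul_eq_one.1 hd1]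
    calc r ^ j = r ^ (j - 1) * r := by rw [zpow_sub_one, inv_mul_cancel_right]
      _ = r := by rw [h1, one_mul]
  refine hnC (mem_centralizer_iff.2 fun x hx => Subtype.ext ?_)
  show (x : G) * n = n * x
  rw [← hn]
  obtain ⟨k, hk⟩ := (hPz x).1 hx
  rw [← hk]
  exact ((show Commute r nG from (mul_inv_eq_iff_eq_mul.1 hnrr).symm).zpow_left k).eq

/-- The 2-elements of the radical lie in the centre of `L`. -/
theorem Layer.mem_of_two (hG : MaxNormHyp G) (hL : Layer G L) [(Cfsg.solvableRadical G).Normal]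
    (hZ2 : ∀ z ∈ Cfsg.solvableRadical G ⊓ L, z * z = 1)
    {c : G} (hc : c ∈ Cfsg.solvableRadical G) (hcc : c * c ∈ L) : c ∈ L := by
  classical
  haveI := hL.normal
  have hS := hL.setting hG
  obtain ⟨π, hπ⟩ : ∃ π, π = QuotientGroup.mk' (Cfsg.solvableRadical G) := ⟨_, rfl⟩
  have hker : π.ker = Cfsg.solvableRadical G := by rw [hπ, QuotientGroup.ker_mk']
  rw [← hπ] at hS
  obtain ⟨u, y, r, hu, hu2, hu1, hr, hr2, hy, hyo, huy⟩ := hS.exists_cent
  obtain ⟨S, t, hSS, huS, htS, ht2, ht1, htu, hutc, hall⟩ := hS.exists_four hu hu2 hu1 hr hr2 hy hyo huy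
  have hSab : ∀ a ∈ S, ∀ b ∈ S, a * b = b * a := by
    have huu : Commute u t := hutc
    intro a ha b hb
    rcases hall a ha with rfl | rfl | rfl | rfl <;> rcases hall b hb with rfl | rfl | rfl | rfl <;>
      first
      | rfl
      | simp
      | exact huu.eq
      | exact huu.symm.eq
      | exact ((Commute.refl _).mul_right huu).eq
      | exact ((Commute.refl _).mul_right huu).symm.eq
      | exact (huu.symm.mul_right (Commute.refl _)).eq
      | exact (huu.symm.mul_right (Commute.refl _)).symm.eq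
  obtain ⟨g, hg, hgS, hgu⟩ := hS.not_isolated hSS huS hu2 hu1
  obtain ⟨n, hn, hnS, hnu⟩ := hS.exists_normalizer_conj hSS hg hu (fun s hs => hSab s hs u huS)
    (fun s hs => hSab s hs _ hgS)
  rw [← hnu] at hgS hgu
  obtain ⟨u', hu', rfl⟩ := hu
  obtain ⟨n', hn', rfl⟩ := hn
  obtain ⟨w', hw'⟩ : ∃ w', w' = n' * u' * n'⁻¹ := ⟨_, rfl⟩
  have hw'L : w' ∈ L := hw' ▸ hL.normal.conj_mem u' hu' n'
  have hπw : π w' = π n' * π u' * (π n')⁻¹ := by rw [hw', map_mul, map_mul, map_inv]
  rw [← hπw] at hgS hgu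
  obtain ⟨Z, hZ⟩ : ∃ Z, Z = Cfsg.solvableRadical G ⊓ L := ⟨_, rfl⟩
  haveI hZn : Z.Normal := hZ ▸ inferInstance
  have hmemZ : ∀ x, x ∈ L → π x = 1 → x ∈ Z := fun x hx h => hZ ▸ mem_inf.2 ⟨hker ▸ MonoidHom.mem_ker.2 h, hx⟩
  have hZπ : ∀ x ∈ Z, π x = 1 := fun x hx => MonoidHom.mem_ker.1 (hker.symm ▸ (mem_inf.1 (hZ ▸ hx)).1)
  have hcπ : π c = 1 := MonoidHom.mem_ker.1 (hker.symm ▸ hc)
  obtain ⟨a, ha⟩ : ∃ a, a = u' * c := ⟨_, rfl⟩
  have hπa : π a = π u' := by rw [ha, map_mul, hcπ, mul_one]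
  have hcu : Commute u' c := hL.commute hc hu'
  have hcw : Commute w' c := hL.commute hc hw'L
  have haa : a * a ∈ Z := by
    rw [ha, show u' * c * (u' * c) = u' * (c * u') * c by group, ← hcu.eq,
      show u' * (u' * c) * c = u' * u' * (c * c) by group]
    exact mul_mem (hmemZ _ (mul_mem hu' hu') (by rw [map_mul, hu2])) (hmemZ _ hcc (by rw [map_mul, hcπ, one_mul]))
  have hww : w' * w' ∈ Z := hmemZ _ (mul_mem hw'L hw'L) (by
    rw [map_mul, hπw, show π n' * π u' * (π n')⁻¹ * (π n' * π u' * (π n')⁻¹) = π n' * (π u' * π u') * (π n')⁻¹ by group,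
      hu2, mul_one, mul_inv_cancel])
  have haw : a * w' * a⁻¹ * w'⁻¹ ∈ Z := by
    have e : a * w' * a⁻¹ * w'⁻¹ = u' * w' * u'⁻¹ * w'⁻¹ := by
      rw [ha, show u' * c * w' * (u' * c)⁻¹ = u' * (c * w' * c⁻¹) * u'⁻¹ by group, ← hcw.eq, mul_inv_cancel_right]
    rw [e]
    refine hmemZ _ (mul_mem (mul_mem (mul_mem hu' hw'L) (inv_mem hu')) (inv_mem hw'L)) ?_
    rw [map_mul, map_mul, map_mul, map_inv, map_inv, hSab _ huS _ hgS, mul_inv_cancel_right, mul_inv_cancel]
  -- the four cosets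
  obtain ⟨A, hA⟩ : ∃ A : G ⧸ Z, A = (a : G ⧸ Z) := ⟨_, rfl⟩
  obtain ⟨B, hB⟩ : ∃ B : G ⧸ Z, B = (w' : G ⧸ Z) := ⟨_, rfl⟩
  have hA2 : A * A = 1 := by rw [hA, ← QuotientGroup.mk_mul]; exact (QuotientGroup.eq_one_iff _).2 haa
  have hB2 : B * B = 1 := by rw [hB, ← QuotientGroup.mk_mul]; exact (QuotientGroup.eq_one_iff _).2 hww
  have hAB : Commute A B := by
    have h := (QuotientGroup.eq_one_iff (N := Z) _).2 haw
    rw [QuotientGroup.mk_mul, QuotientGroup.mk_mul, QuotientGroup.mk_mul, QuotientGroup.mk_inv,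
      QuotientGroup.mk_inv, ← hA, ← hB, mul_inv_eq_one, mul_inv_eq_iff_eq_mul] at h
    exact h
  obtain ⟨X, hX⟩ : ∃ X, X = (closure ({A, B} : Set (G ⧸ Z))).comap (QuotientGroup.mk' Z) := ⟨_, rfl⟩
  have hfour : ∀ x ∈ closure ({A, B} : Set (G ⧸ Z)), x = 1 ∨ x = A ∨ x = B ∨ x = A * B := by
    have e1 : A * (A * B) = B := by rw [← mul_assoc, hA2, one_mul]
    have e2 : B * (A * B) = A := by rw [← mul_assoc, ← hAB.eq, mul_assoc, hB2, mul_one]
    have e3 : A * B * A = B := by rw [mul_assoc, ← hAB.eq, e1]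
    have e4 : A * B * B = A := by rw [mul_assoc, hB2, mul_one]
    have e5 : A * B * (A * B) = 1 := by rw [← mul_assoc, e3, hB2]
    have e6 : B * A = A * B := hAB.eq.symm
    intro x hx
    induction hx using closure_induction with
    | mem x hx => rcases hx with rfl | rfl <;> simp
    | one => simp
    | mul x y _ _ ix iy =>
      rcases ix with rfl | rfl | rfl | rfl <;> rcases iy with rfl | rfl | rfl | rfl <;>
        simp [hA2, hB2, e1, e2, e3, e4, e5, e6]
    | inv x _ ix =>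
      rcases ix with rfl | rfl | rfl | rfl
      · simp
      · exact Or.inr (Or.inl (inv_eq_of_mul_eq_one_right hA2))
      · exact Or.inr (Or.inr (Or.inl (inv_eq_of_mul_eq_one_right hB2)))
      · exact Or.inr (Or.inr (Or.inr (inv_eq_of_mul_eq_one_right e5)))
  have hXmem : ∀ x ∈ X, ∃ v ∈ ({1, a, w', a * w'} : Set G), ∃ z ∈ Z, x = v * z := by
    intro x hx
    rw [hX, mem_comap] at hx
    have key : ∀ v : G, (x : G ⧸ Z) = (v : G ⧸ Z) → ∃ z ∈ Z, x = v * z := fun v h =>
      ⟨v⁻¹ * x, QuotientGroup.eq.1 h.symm, by group⟩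
    rcases hfour _ hx with h | h | h | h
    · exact ⟨1, by simp, key 1 h⟩
    · exact ⟨a, by simp, key a (h.trans hA)⟩
    · exact ⟨w', by simp, key w' (h.trans hB)⟩
    · exact ⟨a * w', by simp, key _ (h.trans (by rw [hA, hB, QuotientGroup.mk_mul]))⟩
  have haX : a ∈ X := by rw [hX, mem_comap]; exact subset_closure (by simp [hA])
  have hwX : w' ∈ X := by rw [hX, mem_comap]; exact subset_closure (by simp [hB])
  -- the image of `X`
  have hXπ : ∀ x ∈ X, π x = 1 ∨ π x = π u' ∨ π x = π w' ∨ π x = π u' * π w' := by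
    intro x hx
    obtain ⟨v, hv, z, hz, rfl⟩ := hXmem x hx
    rcases hv with rfl | rfl | rfl | rfl <;> simp [hπa, hZπ z hz]
  have hne1 : π w' ≠ 1 := by
    rw [hπw]
    exact fun h => hu1 (conj_eq_one_iff.1 h)
  have hXimg : X.map π = S := by
    refine le_antisymm ?_ fun s hs => ?_
    · rintro _ ⟨x, hx, rfl⟩
      rcases hXπ x hx with h | h | h | h <;> rw [h]
      · exact one_mem _
      · exact huS
      · exact hgS
      · exact mul_mem huS hgS
    · have hum : π u' ∈ X.map π := hπa ▸ mem_map_of_mem π haX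
      have hwm : π w' ∈ X.map π := mem_map_of_mem π hwX
      have htm : t ∈ X.map π := by
        rcases hall _ hgS with h | h | h | h
        · exact absurd h hne1
        · exact absurd h hgu
        · exact h ▸ hwm
        · rw [show t = π u' * π w' by rw [h, ← mul_assoc, hu2, one_mul]]
          exact mul_mem hum hwm
      rcases hall s hs with rfl | rfl | rfl | rfl
      · exact one_mem _
      · exact hum
      · exact htm
      · exact mul_mem hum htm
  obtain ⟨E, hE⟩ : ∃ E, E = S.comap π ⊓ L := ⟨_, rfl⟩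
  have hzsq : ∀ z ∈ Z, z * z = 1 := fun z hz => hZ2 z (hZ ▸ hz)
  haveI : Fact (Nat.Prime 2) := ⟨Nat.prime_two⟩
  have hXp : IsPGroup 2 X := fun x => ⟨2, Subtype.ext (by
    have h1 : (x : G) * x ∈ Z := by
      rw [← QuotientGroup.eq_one_iff, QuotientGroup.mk_mul]
      have hx' : (x : G) ∈ (closure ({A, B} : Set (G ⧸ Z))).comap (QuotientGroup.mk' Z) := hX.le x.2
      rcases hfour _ (show ((x : G) : G ⧸ Z) ∈ closure ({A, B} : Set (G ⧸ Z)) from mem_comap.1 hx')
        with h | h | h | h <;> rw [h]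
      · exact one_mul 1
      · exact hA2
      · exact hB2
      · rw [hAB.symm.mul_mul_mul_comm, hA2, hB2, one_mul]
    show (x : G) ^ 2 ^ 2 = 1
    rw [show (x : G) ^ 2 ^ 2 = (x : G) * x * ((x : G) * x) by
      rw [show (2 : ℕ) ^ 2 = 2 + 2 by norm_num, pow_add, pow_two]]
    exact hzsq _ h1)⟩
  have hEp : IsPGroup 2 E := fun x => ⟨2, Subtype.ext (by
    have hx := mem_inf.1 (hE ▸ x.2 : (x : G) ∈ S.comap π ⊓ L)
    have h1 : (x : G) * x ∈ Z := hmemZ _ (mul_mem hx.2 hx.2) (by
      rw [map_mul]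
      rcases hall _ hx.1 with h | h | h | h <;> rw [h]
      · exact one_mul 1
      · exact hu2
      · exact ht2
      · rw [(show Commute (π u') t from hutc).symm.mul_mul_mul_comm, hu2, ht2, one_mul])
    show (x : G) ^ 2 ^ 2 = 1
    rw [show (x : G) ^ 2 ^ 2 = (x : G) * x * ((x : G) * x) by
      rw [show (2 : ℕ) ^ 2 = 2 + 2 by norm_num, pow_add, pow_two]]
    exact hzsq _ h1)⟩
  have hwR : w' ∉ Cfsg.solvableRadical G := fun h => hne1 (MonoidHom.mem_ker.1 (hker.symm ▸ h))
  have hnE : ∀ g : G, π g ∈ normalizer (S : Set (G ⧸ Cfsg.solvableRadical G)) → g ∈ normalizer (E : Set G) := by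
    intro g hg
    rw [mem_normalizer_iff]
    intro x
    rw [hE, mem_inf, mem_inf, mem_comap, mem_comap, map_mul, map_mul, map_inv]
    refine and_congr (mem_normalizer_iff.1 hg (π x)) ⟨fun h => hL.normal.conj_mem x h g, fun h => ?_⟩
    have := hL.normal.conj_mem _ h g⁻¹
    simpa [mul_assoc] using this
  have heq := eq_of_le_normalizer_subgroups hG (not_subnormal (twoPrimes_of_pGroup hXp) hwX hwR)
    (twoPrimes_of_pGroup hXp)
    (not_subnormal (twoPrimes_of_pGroup hEp) (hE ▸ mem_inf.2 ⟨mem_comap.2 hgS, hw'L⟩) hwR)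
    (twoPrimes_of_pGroup hEp) (fun g hg => hnE g (by
      rw [mem_normalizer_iff_map_conj_eq, ← hXimg, map_map,
        show (↑(MulAut.conj (π g)) : _ →* _).comp π = π.comp (MulAut.conj g : G →* G) from
          MonoidHom.ext fun x => by simp, ← map_map, mem_normalizer_iff_map_conj_eq.1 hg]))
  have hnX : n' * a * n'⁻¹ ∈ X := (mem_normalizer_iff.1 (heq ▸ hnE n' hnS : n' ∈ normalizer (X : Set G)) a).1 haX
  have hcX : c ∈ X := by
    rw [show c = w'⁻¹ * (n' * a * n'⁻¹) by
      rw [hw', ha, mul_assoc n' (u' * c), mul_assoc u' c, ← (show Commute n'⁻¹ c from hL.commute hc (inv_mem hn')).eq]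
      group]
    exact mul_mem (inv_mem hwX) hnX
  obtain ⟨v, hv, z, hz, hcv⟩ := hXmem c hcX
  have hπv : π v = 1 := by rw [hcv, map_mul, hZπ z hz, mul_one] at hcπ; exact hcπ
  rcases hv with rfl | rfl | rfl | rfl
  · rw [hcv, one_mul]; exact (mem_inf.1 (hZ ▸ hz)).2
  · exact absurd (hπa ▸ hπv) hu1
  · exact absurd hπv hne1
  · rw [map_mul, hπa, mul_eq_one_iff_eq_inv'] at hπv
    exact absurd (hπv.trans (inv_eq_of_mul_eq_one_right hu2)) hgu

/-- The theorem on groups with maximal normalizers. -/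
theorem structure_main (hns : ¬ Group.IsSolvable G) (hG : MaxNormHyp G) :
    ∃ K S : Subgroup G, K.Normal ∧ S.Normal ∧ K ⊓ S = ⊥ ∧ K ⊔ S = ⊤ ∧
      (Nonempty (K ≃* Matrix.ProjectiveSpecialLinearGroup (Fin 2) (ZMod 13)) ∨
        Nonempty (K ≃* Matrix.SpecialLinearGroup (Fin 2) (ZMod 13))) ∧
      IsMulCommutative S ∧ (Nat.card K).Coprime (Nat.card S) := by
  classical
  obtain ⟨L, hL⟩ := exists_layer hns hG
  haveI := hL.normal
  haveI hRn := Cfsg.Lib.AlmostCyc.solvableRadical_normal (G := G)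
  obtain ⟨htop, F, _, _, hF, ⟨e⟩⟩ := (hL.setting hG).main
  haveI : Fact (Nat.Prime 13) := ⟨by norm_num⟩
  obtain ⟨π, hπ⟩ : ∃ π, π = QuotientGroup.mk' (Cfsg.solvableRadical G) := ⟨_, rfl⟩
  have hker : π.ker = Cfsg.solvableRadical G := by rw [hπ, QuotientGroup.ker_mk']
  have hsup : L ⊔ Cfsg.solvableRadical G = ⊤ := by
    rw [← hker, ← comap_map_eq, hπ, htop, comap_top]
  -- the central quotient
  have hkerf : ((QuotientGroup.mk' (Cfsg.solvableRadical G)).subgroupMap L).ker = center ↥L := by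
    ext x
    rw [MonoidHom.mem_ker, mem_center_iff]
    constructor
    · intro h l
      refine Subtype.ext ?_
      exact hL.commute ((QuotientGroup.eq_one_iff (x : G)).1 (congrArg Subtype.val h)) l.2
    · intro h
      refine Subtype.ext ((QuotientGroup.eq_one_iff (x : G)).2 ?_)
      rw [← hL.cent_eq, mem_centralizer_iff]
      intro l hl
      exact congrArg Subtype.val (h ⟨l, hl⟩)
  let eq₁ : ↥L ⧸ center ↥L ≃* Matrix.ProjectiveSpecialLinearGroup (Fin 2) F :=
    ((QuotientGroup.quotientMulEquivOfEq hkerf.symm).trans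
      (QuotientGroup.quotientKerEquivOfSurjective _
        ((QuotientGroup.mk' (Cfsg.solvableRadical G)).subgroupMap_surjective L))).trans e
  have hperf : Group.IsPerfect ↥L := ⟨map_injective (subtype_injective L) (by
    rw [map_subtype_commutator, ← MonoidHom.range_eq_map, range_subtype, hL.perfect])⟩
  have hcard : Nat.card (Matrix.ProjectiveSpecialLinearGroup (Fin 2) F) = 1092 := by
    have := GW.DGroup.card_psl_two (F := F) (by rw [hF]; decide)
    rw [hF] at this
    omega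
  have hZc : Nat.card (center ↥L) ∣ 2 := by
    have h := Cfsg.Lib.CpClosed.card_center_dvd hperf eq₁
      (Cfsg.Agent.S2086.result hF 2 le_rfl (fun _ => by norm_num) (by simp))
    simpa using h
  have hLc : Nat.card ↥L = 1092 * Nat.card (center ↥L) := by
    rw [card_eq_card_quotient_mul_card_subgroup (center ↥L), Nat.card_congr eq₁.toEquiv, hcard]
  have hZeq : (Cfsg.solvableRadical G ⊓ L).subgroupOf L = center ↥L := by
    rw [← hkerf]
    ext x
    rw [mem_subgroupOf, MonoidHom.mem_ker, mem_inf, ← QuotientGroup.eq_one_iff (N := Cfsg.solvableRadical G)]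
    exact ⟨fun h => Subtype.ext h.1, fun h => ⟨congrArg Subtype.val h, x.2⟩⟩
  have hZcard : Nat.card ↥(Cfsg.solvableRadical G ⊓ L) ∣ 2 := by
    rw [← hZeq] at hZc
    rwa [Nat.card_congr (subgroupOfEquivOfLe inf_le_right).toEquiv] at hZc
  have hZ2 : ∀ z ∈ Cfsg.solvableRadical G ⊓ L, z * z = 1 := by
    intro z hz
    rw [← pow_two]
    exact orderOf_dvd_iff_pow_eq_one.1 ((Subgroup.orderOf_dvd_natCard _ hz).trans hZcard)
  -- elements of `L` of order `3` and `7`
  have hex : ∀ p : ℕ, p.Prime → p ≠ 2 → p ∣ 1092 → ∃ x ∈ L, orderOf x = p ∧ x ∉ Cfsg.solvableRadical G := by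
    intro p hp hp2 hd
    haveI := Fact.mk hp
    obtain ⟨x, hx⟩ := exists_prime_orderOf_dvd_card' (G := ↥L) p (hLc ▸ Dvd.dvd.mul_right hd _)
    rw [← Subgroup.orderOf_coe] at hx
    refine ⟨x, x.2, hx, fun h => hp2 ?_⟩
    exact (Nat.prime_dvd_prime_iff_eq hp Nat.prime_two).1
      (hx ▸ (Subgroup.orderOf_dvd_natCard _ (mem_inf.2 ⟨h, x.2⟩)).trans hZcard)
  have hnorm : ∀ y ∈ Cfsg.solvableRadical G, ∀ q k : ℕ, q.Prime → orderOf y = q ^ k → (zpowers y).Normal := by
    intro y hy q k hq hyo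
    by_cases h : q = 3
    · obtain ⟨x, hx, hxo, hxR⟩ := hex 7 (by norm_num) (by norm_num) (by norm_num)
      exact hL.zpowers_normal hG hsup (by norm_num) hq (by omega) hy hyo hx hxo hxR
    · obtain ⟨x, hx, hxo, hxR⟩ := hex 3 (by norm_num) (by norm_num) (by norm_num)
      exact hL.zpowers_normal hG hsup (by norm_num) hq (Ne.symm h) hy hyo hx hxo hxR
  have hspecial : ∀ p : ℕ, p = 3 ∨ p = 7 ∨ p = 13 →
      ∀ y ∈ Cfsg.solvableRadical G, ∀ k : ℕ, orderOf y = p ^ k → y = 1 := by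
    intro p hp y hy k hyo
    have hdd : Nat.card ↥L ∣ 2184 := hLc ▸ (Nat.mul_dvd_mul_left 1092 hZc)
    refine hL.eq_one_of_prime hG (p := p) (by rcases hp with rfl | rfl | rfl <;> norm_num)
      (hLc ▸ Dvd.dvd.mul_right (by rcases hp with rfl | rfl | rfl <;> norm_num) _) (fun h => ?_) (fun h => ?_) hy hyo
    · have := h.trans hdd
      rcases hp with rfl | rfl | rfl <;> norm_num at this
    · have := h.trans hZcard
      rcases hp with rfl | rfl | rfl <;> norm_num at this
  have htwo : ∀ y ∈ Cfsg.solvableRadical G, ∀ k : ℕ, orderOf y = 2 ^ k → y ∈ L := by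
    suffices ∀ k : ℕ, ∀ y ∈ Cfsg.solvableRadical G, orderOf y ∣ 2 ^ k → y ∈ L from
      fun y hy k hk => this k y hy hk.dvd
    intro k
    induction k with
    | zero =>
      intro y _ h
      rw [orderOf_eq_one_iff.1 (Nat.eq_one_of_dvd_one h)]
      exact one_mem L
    | succ k ih =>
      intro y hy h
      refine hL.mem_of_two hG hZ2 hy (ih _ (mul_mem hy hy) ?_)
      rw [orderOf_dvd_iff_pow_eq_one, ← pow_two, ← pow_mul, ← pow_succ']
      exact orderOf_dvd_iff_pow_eq_one.1 h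
  -- the radical is abelian
  have hpp : ∀ y ∈ Cfsg.solvableRadical G, ∀ w ∈ Cfsg.solvableRadical G, ∀ p q i j : ℕ, p.Prime → q.Prime →
      orderOf y = p ^ i → orderOf w = q ^ j → y * w = w * y := by
    intro y hy w hw p q i j hp hq hyo hwo
    by_cases hpq : p = q
    · subst hpq
      by_cases hp2 : p = 2
      · exact hL.commute hw (htwo y hy i (hp2 ▸ hyo))
      · rcases le_total j i with h | h
        · exact commute_of_normal_zpowers hp hp2 (R := Cfsg.solvableRadical G)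
            (fun r hr l hl => hnorm r hr p l hp hl) hy hw hyo hwo h
        · exact (commute_of_normal_zpowers hp hp2 (R := Cfsg.solvableRadical G)
            (fun r hr l hl => hnorm r hr p l hp hl) hw hy hwo hyo h).symm
    · haveI hYn := hnorm y hy p i hp hyo
      haveI hWn := hnorm w hw q j hq hwo
      have h1 : y * w * y⁻¹ * w⁻¹ ∈ zpowers y ⊓ zpowers w := mem_inf.2
        ⟨by
          rw [show y * w * y⁻¹ * w⁻¹ = y * (w * y⁻¹ * w⁻¹) by group]
          exact mul_mem (mem_zpowers y) (hYn.conj_mem _ (inv_mem (mem_zpowers y)) w),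
        mul_mem (hWn.conj_mem w (mem_zpowers w) y) (inv_mem (mem_zpowers w))⟩
      rw [inf_eq_bot_of_coprime (by
        rw [Nat.card_zpowers, Nat.card_zpowers, hyo, hwo]
        exact ((Nat.coprime_primes hp hq).2 hpq).pow i j), mem_bot, mul_inv_eq_one, mul_inv_eq_iff_eq_mul] at h1
      exact h1
  have hRab : ∀ y ∈ Cfsg.solvableRadical G, ∀ w ∈ Cfsg.solvableRadical G, y * w = w * y := by
    intro y hy w hw
    have h1 : y ∈ centralizer ({w} : Set G) := mem_of_primePow fun d k hd hdk => by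
      rw [mem_centralizer_singleton_iff]
      have h2 : w ∈ centralizer ({y ^ (orderOf y / d ^ k)} : Set G) := mem_of_primePow fun q j hq hqj => by
        rw [mem_centralizer_singleton_iff]
        exact hpp _ (pow_mem hw _) _ (pow_mem hy _) q d j k hq hd
          (orderOf_pow_orderOf_div (orderOf_pos w).ne' hqj) (orderOf_pow_orderOf_div (orderOf_pos y).ne' hdk)
      exact (mem_centralizer_singleton_iff.1 h2).symm
    exact mem_centralizer_singleton_iff.1 h1
  -- the odd part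
  let S : Subgroup G :=
    { carrier := {x | x ∈ Cfsg.solvableRadical G ∧ Odd (orderOf x)}
      one_mem' := ⟨one_mem _, by rw [orderOf_one]; exact odd_one⟩
      mul_mem' := fun {a b} ha hb => ⟨mul_mem ha.1 hb.1, (ha.2.mul hb.2).of_dvd_nat
        ((Commute.orderOf_mul_dvd_lcm (hRab a ha.1 b hb.1)).trans
          (Nat.lcm_dvd (dvd_mul_right _ _) (dvd_mul_left _ _)))⟩
      inv_mem' := fun {a} ha => ⟨inv_mem ha.1, by rw [orderOf_inv]; exact ha.2⟩ }
  refine ⟨L, S, hL.normal, ⟨fun x hx g => ⟨Normal.conj_mem inferInstance x hx.1 g, by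
    rw [show orderOf (g * x * g⁻¹) = orderOf x from (MulAut.conj g).orderOf_eq x]; exact hx.2⟩⟩, ?_, ?_, ?_,
    ⟨⟨fun a b => Subtype.ext (hRab a a.2.1 b b.2.1)⟩⟩, ?_⟩
  · rw [eq_bot_iff]
    rintro x ⟨hxL, hxR, hxo⟩
    rw [mem_bot]
    rcases (Nat.dvd_prime Nat.prime_two).1
      ((Subgroup.orderOf_dvd_natCard _ (mem_inf.2 ⟨hxR, hxL⟩)).trans hZcard) with h | h
    · exact orderOf_eq_one_iff.1 h
    · exact absurd hxo (by rw [h]; decide)
  · refine top_le_iff.1 (hsup.symm.le.trans (sup_le le_sup_left fun x hx => ?_))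
    refine mem_of_primePow fun d k hd hdk => ?_
    have ho := orderOf_pow_orderOf_div (orderOf_pos x).ne' hdk
    by_cases h : d = 2
    · exact mem_sup_left (htwo _ (pow_mem hx _) k (h ▸ ho))
    · exact mem_sup_right ⟨pow_mem hx _, by rw [ho]; exact (hd.odd_of_ne_two h).pow⟩
  · by_cases hc : center ↥L = ⊥
    · left
      let f : ↥L ≃* Matrix.ProjectiveSpecialLinearGroup (Fin 2) F :=
        (QuotientGroup.quotientBot.symm.trans (QuotientGroup.quotientMulEquivOfEq hc.symm)).trans eq₁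
      exact ⟨f.trans
          (Cfsg.Lib.Dickson.pslEquiv (ZMod.ringEquivOfPrime F (by norm_num : (13 : ℕ).Prime)
            (by exact hF)).symm)⟩
    · right
      haveI : IsSimpleGroup (↥L ⧸ center ↥L) := by
        haveI : IsSimpleGroup (Matrix.ProjectiveSpecialLinearGroup (Fin 2) F) := by
          haveI := (hL.setting hG).simple
          exact IsSimpleGroup.isSimpleGroup_of_surjective e.toMonoidHom e.surjective
        haveI : Nontrivial (↥L ⧸ center ↥L) := eq₁.toEquiv.nontrivial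
        exact IsSimpleGroup.isSimpleGroup_of_surjective eq₁.symm.toMonoidHom eq₁.symm.surjective
      obtain ⟨f⟩ := Cfsg.Lib.CpClosed.AbelianTwo.iso_sl_two (K := ↥L) ⟨hperf, inferInstance⟩ (by omega)
        (by omega) (by omega) hc eq₁
      exact ⟨f.trans (Cfsg.Lib.Dickson.slEquiv (ZMod.ringEquivOfPrime F (by norm_num : (13 : ℕ).Prime)
        (by exact hF)).symm)⟩
  · refine Nat.coprime_of_dvd fun d hd hdL hdS => ?_
    haveI := Fact.mk hd
    obtain ⟨x, hx⟩ := exists_prime_orderOf_dvd_card' (G := ↥S) d hdS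
    rw [← Subgroup.orderOf_coe] at hx
    have hdodd : Odd d := hx ▸ x.2.2
    have hd' : d ∣ 2184 := (hdL.trans (hLc ▸ Nat.mul_dvd_mul_left 1092 hZc))
    have hd'' : d = 2 ∨ d = 3 ∨ d = 7 ∨ d = 13 := by
      rw [show (2184 : ℕ) = 2 * (2 * (2 * (3 * (7 * 13)))) by norm_num] at hd'
      rcases (Nat.Prime.dvd_mul hd).1 hd' with h | h
      · exact Or.inl ((Nat.prime_dvd_prime_iff_eq hd Nat.prime_two).1 h)
      rcases (Nat.Prime.dvd_mul hd).1 h with h | h
      · exact Or.inl ((Nat.prime_dvd_prime_iff_eq hd Nat.prime_two).1 h)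
      rcases (Nat.Prime.dvd_mul hd).1 h with h | h
      · exact Or.inl ((Nat.prime_dvd_prime_iff_eq hd Nat.prime_two).1 h)
      rcases (Nat.Prime.dvd_mul hd).1 h with h | h
      · exact Or.inr (Or.inl ((Nat.prime_dvd_prime_iff_eq hd (by norm_num)).1 h))
      rcases (Nat.Prime.dvd_mul hd).1 h with h | h
      · exact Or.inr (Or.inr (Or.inl ((Nat.prime_dvd_prime_iff_eq hd (by norm_num)).1 h)))
      · exact Or.inr (Or.inr (Or.inr ((Nat.prime_dvd_prime_iff_eq hd (by norm_num)).1 h)))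
    rcases hd'' with h | h
    · exact absurd hdodd (by rw [h]; decide)
    · have := hspecial d h _ x.2.1 1 (by rw [hx, pow_one])
      rw [this, orderOf_one] at hx
      exact hd.ne_one hx.symm

end Cfsg.Lib.MaxNorm
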