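import Cfsg.Agent.Lib.MaxNorm.Invol

/-!
# The Sylow 2-subgroup when an involution centralizer is not a 2-group
-/

set_option autoImplicit false
set_option linter.style.haveILetI false
set_option linter.unusedSectionVars false

namespace Cfsg.Lib.MaxNorm

open Subgroup

universe u

variable {Γ : Type u} [Group Γ] [Finite Γ]

/-- The set of elements squaring to one in a group where these are central. -/
def omegaOne (T : Subgroup Γ) (h : ∀ a ∈ T, ∀ b ∈ T, b * b = 1 → a * b = b * a) : Subgroup Γ where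
  carrier := {x | x ∈ T ∧ x * x = 1}
  one_mem' := ⟨T.one_mem, one_mul 1⟩
  mul_mem' {a b} ha hb := ⟨T.mul_mem ha.1 hb.1, mul_self_mul ha.2 hb.2 (h a ha.1 b hb.1 hb.2)⟩
  inv_mem' {a} ha := by
    rw [Set.mem_setOf_eq, inv_eq_self ha.2]
    exact ha

theorem mem_omegaOne {T : Subgroup Γ} {h : ∀ a ∈ T, ∀ b ∈ T, b * b = 1 → a * b = b * a} {x : Γ} :
    x ∈ omegaOne T h ↔ x ∈ T ∧ x * x = 1 := Iff.rfl

theorem omegaOne_isPGroup {T : Subgroup Γ} (hT : IsPGroup 2 T)
    (h : ∀ a ∈ T, ∀ b ∈ T, b * b = 1 → a * b = b * a) : IsPGroup 2 (omegaOne T h) :=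
  hT.to_le fun _ hx => hx.1

namespace Setting

variable {L : Subgroup Γ} (hL : Setting L) {u y : Γ} {r : ℕ} (hu : u ∈ L) (hu2 : u * u = 1) (hu1 : u ≠ 1)
  (hr : r.Prime) (hr2 : r ≠ 2) (hy : y ∈ L) (hyo : orderOf y = r) (hc : u * y = y * u)

include hL hu hu2 hu1 hr hr2 hy hyo hc

theorem cent_not_two (n : Γ) : ¬ IsPGroup 2 ↥(centralizer ({n * u * n⁻¹} : Set Γ) ⊓ L) := by
  haveI := hL.normal
  intro h
  have hmem : n * y * n⁻¹ ∈ centralizer ({n * u * n⁻¹} : Set Γ) ⊓ L :=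
    ⟨conj_mem_cent.2 (mem_cent.2 hc.symm), hL.normal.conj_mem y hy n⟩
  have h1 := eq_one_of_two_mem h hmem (by rw [orderOf_conj, hyo]; exact hr.odd_of_ne_two hr2)
  exact ne_one_of_orderOf_prime hyo hr (conj_eq_one_iff.1 h1)

/-- A maximal 2-subgroup of the centralizer is a Sylow subgroup of `L`. -/
theorem isS_of_max {T : Subgroup Γ} (hTL : T ≤ L) (hTu : T ≤ centralizer ({u} : Set Γ)) (hT : IsPGroup 2 T)
    (huT : u ∈ T) (hmax : ∀ Q : Subgroup Γ, Q ≤ L → Q ≤ centralizer ({u} : Set Γ) → IsPGroup 2 Q → T ≤ Q → Q = T) :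
    IsS L T := by
  haveI : Fact (Nat.Prime 2) := ⟨Nat.prime_two⟩
  haveI := hL.normal
  haveI := hL.simple
  obtain ⟨S₀, hS₀, hTS₀⟩ := exists_isS hTL hT
  by_cases hne : T = S₀
  · exact hne ▸ hS₀
  exfalso
  obtain ⟨g, hgS, hgT, hgn, hgg⟩ := exists_normalizing hS₀.two hTS₀ hne
  have hgu : g ∉ centralizer ({u} : Set Γ) := by
    intro h
    refine hgT ?_
    rw [← hmax (S₀ ⊓ centralizer {u}) (inf_le_left.trans hS₀.le) inf_le_right (hS₀.two.to_le inf_le_left)
      (le_inf hTS₀ hTu)]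
    exact ⟨hgS, h⟩
  have hcm : ∀ a ∈ T, ∀ b ∈ T, b * b = 1 → a * b = b * a := fun a ha b hb h2 =>
    hL.commute_invol hu hu2 hu1 hr hr2 hy hyo hc hT hTL hTu ha hb h2
  have hcases := hL.invol_cases hu hu2 hu1 hr hr2 hy hyo hc hT hTL hTu huT hgn hgu
  obtain ⟨t, htdef⟩ : ∃ t, t = g * u * g⁻¹ := ⟨_, rfl⟩
  rw [← htdef] at hcases
  have htT : t ∈ T := htdef ▸ (mem_normalizer_iff.1 hgn u).1 huT
  have ht2 : t * t = 1 := htdef ▸ mul_self_conj hu2
  have ht1 : t ≠ 1 := htdef ▸ fun e => hu1 (conj_eq_one_iff.1 e)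
  have hut : u ≠ t := fun e => hgu (conj_eq_self_iff.1 (e.trans htdef).symm)
  have htu : u * t = t * u := hcm u huT t htT ht2
  obtain ⟨e, hedef⟩ : ∃ e, e = u * t := ⟨_, rfl⟩
  rw [← hedef] at hcases
  have heT : e ∈ T := hedef ▸ T.mul_mem huT htT
  have he2 : e * e = 1 := hedef ▸ mul_self_mul hu2 ht2 htu
  have he1 : e ≠ 1 := hedef ▸ fun h => hut (by rw [← inv_eq_self hu2]; exact inv_eq_of_mul_eq_one_right h)
  have hgt : g * t * g⁻¹ = u := by
    rw [htdef, show g * (g * u * g⁻¹) * g⁻¹ = g * g * u * (g * g)⁻¹ by group]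
    exact conj_eq_self_iff.2 (hTu hgg)
  have hge : g * e * g⁻¹ = e := by
    rw [hedef, show g * (u * t) * g⁻¹ = g * u * g⁻¹ * (g * t * g⁻¹) by group, ← htdef, hgt, htu]
  have hTe : T ≤ centralizer ({e} : Set Γ) := fun x hx => mem_cent.2 (hcm x hx e heT he2)
  -- the centralizer of `e` is a 2-group
  have he2g : IsPGroup 2 ↥(centralizer ({e} : Set Γ) ⊓ L) := by
    by_contra hnot
    obtain ⟨r', hr', hdvd, hr'2⟩ :
        ∃ r', r'.Prime ∧ r' ∣ Nat.card ↥(centralizer ({e} : Set Γ) ⊓ L) ∧ r' ≠ 2 := by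
      by_contra hh
      push Not at hh
      exact hnot (IsPGroup.of_card (Nat.eq_prime_pow_of_unique_prime_dvd Nat.card_pos.ne'
        fun {d} hd hdd => hh d hd hdd))
    haveI : Fact r'.Prime := ⟨hr'⟩
    obtain ⟨y', hy'⟩ := exists_prime_orderOf_dvd_card' r' hdvd
    rw [← Subgroup.orderOf_coe] at hy'
    obtain ⟨a, ha⟩ := IsPGroup.iff_orderOf.1 hS₀.two ⟨g, hgS⟩
    rw [← Subgroup.orderOf_coe] at ha
    have hQ : IsPGroup 2 ↥(zpowers g ⊔ T) :=
      IsPGroup.to_sup_of_normal_right' (isPGroup_zpowers ha) hT (zpowers_le.2 hgn)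
    refine hgu (mem_cent.2 ?_)
    exact hL.commute_invol (hTL heT) he2 he1 hr' hr'2 (mem_inf.1 y'.2).2 hy'
      (mem_cent.1 (mem_inf.1 y'.2).1).symm hQ (sup_le (zpowers_le.2 (hS₀.le hgS)) hTL)
      (sup_le (zpowers_le.2 (conj_eq_self_iff.1 hge)) hTe) (mem_sup_left (mem_zpowers g)) (mem_sup_right huT) hu2
  have hnot2 : ∀ n : Γ, n * u * n⁻¹ ≠ e := fun n h =>
    hL.cent_not_two hu hu2 hu1 hr hr2 hy hyo hc n (h.symm ▸ he2g)
  obtain ⟨S, hSdef⟩ : ∃ S, S = centralizer ({e} : Set Γ) ⊓ L := ⟨_, rfl⟩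
  have hS : IsS L S := hSdef ▸ hL.isS_cent (hTL heT) he2 he1 he2g
  have hmemS : ∀ {x : Γ}, x ∈ S ↔ x * e = e * x ∧ x ∈ L := fun {x} => by rw [hSdef, mem_inf, mem_cent]
  -- `S` normalizes the three involutions
  have hN : S ≤ normalizer (omegaOne T hcm : Set Γ) := by
    have hE1 : omegaOne T hcm ≠ ⊥ := fun h => hu1 (mem_bot.1 (h ▸ (mem_omegaOne.2 ⟨huT, hu2⟩ : u ∈ omegaOne T hcm)))
    have hle : normalizer (omegaOne T hcm : Set Γ) ≤ centralizer ({e} : Set Γ) := by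
      intro n hn
      rw [← conj_eq_self_iff]
      have h := mem_omegaOne.1 ((mem_normalizer_iff.1 hn e).1 (mem_omegaOne.2 ⟨heT, he2⟩))
      rcases hcases _ h.1 h.2 (fun h => he1 (conj_eq_one_iff.1 h)) with h' | h' | h'
      · exact absurd (by rw [← h']; group) (hnot2 n⁻¹)
      · refine absurd ?_ (hnot2 (n⁻¹ * g))
        rw [show n⁻¹ * g * u * (n⁻¹ * g)⁻¹ = n⁻¹ * (g * u * g⁻¹) * n by group, ← htdef, ← h']
        group
      · exact h'
    rw [← normalizer_zpowers_invol he2 he1] at hle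
    rw [hL.eq_of_le (fun x hx => hTL (mem_omegaOne.1 hx).1) hE1 (twoPrimes_of_pGroup (omegaOne_isPGroup hT hcm))
      (zpowers_le.2 (hTL heT)) (zpowers_ne_bot' he1) (twoPrimes_of_pGroup (isPGroup_zpowers_invol he2 he1)) hle,
      normalizer_zpowers_invol he2 he1, hSdef]
    exact inf_le_left
  have hTS : T ≤ S := fun x hx => hmemS.2 ⟨hcm x hx e heT he2, hTL hx⟩
  have hSu : ∀ s ∈ S, s * u = u * s → s ∈ T := fun s hs h => by
    rw [← hmax (S ⊓ centralizer {u}) (inf_le_left.trans hS.le) inf_le_right (hS.two.to_le inf_le_left)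
      (le_inf hTS hTu)]
    exact ⟨hs, mem_cent.2 h⟩
  have hswap : ∀ s ∈ S, s ∉ T → s * u * s⁻¹ = t := by
    intro s hs hsT
    have h := mem_omegaOne.1 ((mem_normalizer_iff.1 (hN hs) u).1 (mem_omegaOne.2 ⟨huT, hu2⟩))
    rcases hcases _ h.1 h.2 (fun h => hu1 (conj_eq_one_iff.1 h)) with h' | h' | h'
    · exact absurd (hSu s hs (mul_inv_eq_iff_eq_mul.1 h')) hsT
    · exact h'
    · exact absurd h' (hnot2 s)
  have hsq : ∀ s ∈ S, s * s ∈ T := by
    intro s hs
    by_cases hsT : s ∈ T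
    · exact T.mul_mem hsT hsT
    refine hSu _ (S.mul_mem hs hs) (mul_inv_eq_iff_eq_mul.1 ?_)
    have hu' : u = t * e := by rw [hedef, htu, ← mul_assoc, ht2, one_mul]
    have hse : s * e * s⁻¹ = e := mul_inv_eq_iff_eq_mul.2 (hmemS.1 hs).1
    rw [show s * s * u * (s * s)⁻¹ = s * (s * u * s⁻¹) * s⁻¹ by group, hswap s hs hsT]
    have ht' : t = u * e := by rw [hedef, ← mul_assoc, hu2, one_mul]
    conv_lhs => rw [ht', show s * (u * e) * s⁻¹ = s * u * s⁻¹ * (s * e * s⁻¹) by group, hswap s hs hsT, hse]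
    exact hu'.symm
  -- a conjugate of `e` outside `T`
  obtain ⟨h, hhL, heS, hne'⟩ := hL.not_isolated hS (hmemS.2 ⟨rfl, hTL heT⟩) he2 he1
  obtain ⟨k, hkdef⟩ : ∃ k, k = h * e * h⁻¹ := ⟨_, rfl⟩
  rw [← hkdef] at heS hne'
  have hk2 : k * k = 1 := hkdef ▸ mul_self_conj he2
  have hk1 : k ≠ 1 := hkdef ▸ fun h' => he1 (conj_eq_one_iff.1 h')
  have houtT : ∀ m : Γ, m * e * m⁻¹ ∈ T → m * e * m⁻¹ = e := by
    intro m hm
    rcases hcases _ hm (mul_self_conj he2) (fun h' => he1 (conj_eq_one_iff.1 h')) with h' | h' | h'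
    · refine absurd ?_ (hnot2 m⁻¹)
      rw [← h']; group
    · refine absurd ?_ (hnot2 (m⁻¹ * g))
      rw [show m⁻¹ * g * u * (m⁻¹ * g)⁻¹ = m⁻¹ * (g * u * g⁻¹) * m by group, ← htdef, ← h']
      group
    · exact h'
  have hkT : k ∉ T := fun hk => hne' (by rw [hkdef] at hk ⊢; exact houtT h hk)
  have hkform : ∀ s ∈ S, s ∉ T → s * s = 1 → u * s * u = s * e := by
    intro s hs hsT hs2
    have h1 := hswap s hs hsT
    rw [inv_eq_self hs2] at h1
    calc u * s * u = s * s * (u * s * u) := by rw [hs2, one_mul]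
      _ = s * (s * u * s) * u := by group
      _ = s * e := by rw [h1, mul_assoc, hedef, htu]
  have hek : e * k = k * e := (hmemS.1 heS).1.symm
  have hk'2 : h⁻¹ * e * h * (h⁻¹ * e * h) = 1 := by simpa using mul_self_conj (g := h⁻¹) he2
  have hk'S : h⁻¹ * e * h ∈ S := by
    refine hmemS.2 ⟨?_, L.mul_mem (L.mul_mem (L.inv_mem hhL) (hTL heT)) hhL⟩
    calc h⁻¹ * e * h * e = h⁻¹ * (e * k) * h := by rw [hkdef]; group
      _ = h⁻¹ * (k * e) * h := by rw [hek]
      _ = e * (h⁻¹ * e * h) := by rw [hkdef]; group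
  have hk'T : h⁻¹ * e * h ∉ T := fun h' => by
    have h1 : h⁻¹ * e * h = e := by simpa using houtT h⁻¹ (by simpa using h')
    refine hne' ?_
    rw [hkdef]
    conv_lhs => rw [← h1]
    group
  have hu' : h * u * h⁻¹ * e * (h * u * h⁻¹) = k * e := by
    rw [show h * u * h⁻¹ * e * (h * u * h⁻¹) = h * (u * (h⁻¹ * e * h) * u) * h⁻¹ by group,
      hkform _ hk'S hk'T hk'2, ← hek, hkdef]
    group
  have huk := hkform k heS hkT hk2
  have hku : k * u * k = t := by have := hswap k heS hkT; rwa [inv_eq_self hk2] at this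
  have huinv := inv_eq_self hu2
  have hu'inv : (h * u * h⁻¹)⁻¹ = h * u * h⁻¹ := inv_eq_self (mul_self_conj hu2)
  have hue : u * e * u = e := by rw [← hcm u huT e heT he2 |>.symm, mul_assoc, hu2, mul_one]
  have hu'k : h * u * h⁻¹ * k * (h * u * h⁻¹) = k := by
    rw [hkdef, show h * u * h⁻¹ * (h * e * h⁻¹) * (h * u * h⁻¹) = h * (u * e * u) * h⁻¹ by group, hue]
  obtain ⟨n, hn⟩ : ∃ n, n = u * (h * u * h⁻¹) * u := ⟨_, rfl⟩
  have hnL : n ∈ L := hn ▸ L.mul_mem (L.mul_mem hu (hL.normal.conj_mem u hu h)) hu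
  have hne_e : n * e * n⁻¹ = k := by
    rw [hn, mul_inv_rev, mul_inv_rev, huinv, hu'inv,
      show u * (h * u * h⁻¹) * u * e * (u * (h * u * h⁻¹ * u)) =
        u * (h * u * h⁻¹ * (u * e * u) * (h * u * h⁻¹)) * u by group, hue, hu',
      show u * (k * e) * u = u * k * (u * u) * e * u by rw [hu2]; group,
      show u * k * (u * u) * e * u = u * k * u * (u * e * u) by group, huk, hue, mul_assoc, he2, mul_one]
  have hne_k : n * k * n⁻¹ = e := by
    rw [hn, mul_inv_rev, mul_inv_rev, huinv, hu'inv,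
      show u * (h * u * h⁻¹) * u * k * (u * (h * u * h⁻¹ * u)) =
        u * (h * u * h⁻¹ * (u * k * u) * (h * u * h⁻¹)) * u by group, huk,
      show h * u * h⁻¹ * (k * e) * (h * u * h⁻¹) = h * u * h⁻¹ * k * ((h * u * h⁻¹)⁻¹ * (h * u * h⁻¹)) * e *
        (h * u * h⁻¹) by rw [inv_mul_cancel]; group,
      hu'inv,
      show h * u * h⁻¹ * k * (h * u * h⁻¹ * (h * u * h⁻¹)) * e * (h * u * h⁻¹) =
        h * u * h⁻¹ * k * (h * u * h⁻¹) * (h * u * h⁻¹ * e * (h * u * h⁻¹)) by group,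
      hu'k, hu', show u * (k * (k * e)) * u = u * (k * k) * e * u by group, hk2, mul_one, hue]
  have hfix : ∀ p ∈ T, k * p * k = p → p * p = 1 := by
    intro p hp hfp
    by_contra hp2
    obtain ⟨z, hz, hz2, hz4⟩ := exists_order_four hT hp hp2
    have hzT := zpowers_le.2 hp hz
    have hzk : Commute k z := by
      obtain ⟨i, rfl⟩ := mem_zpowers_iff.1 hz
      refine Commute.zpow_right ?_ i
      rw [Commute, SemiconjBy]
      conv_rhs => rw [← hfp, mul_assoc, hk2, mul_one]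
    have hfz : k * (z * z) * k = z * z := by
      rw [(hzk.mul_right hzk).eq, mul_assoc, hk2, mul_one]
    rcases hcases _ (T.mul_mem hzT hzT) hz4 hz2 with hz' | hz' | hz'
    · rw [hz', hku] at hfz; exact hut hfz.symm
    · rw [hz', ← hku] at hfz
      rw [show k * (k * u * k) * k = k * k * u * (k * k) by group, hk2, one_mul, mul_one, hku] at hfz
      exact hut hfz
    · have hw : n * z * n⁻¹ ∈ S := by
        refine hmemS.2 ⟨?_, hL.normal.conj_mem z (hTL hzT) n⟩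
        rw [← hne_k, show n * z * n⁻¹ * (n * k * n⁻¹) = n * (z * k) * n⁻¹ by group, ← hzk.eq]
        group
      have h1 := hsq _ hw
      rw [show n * z * n⁻¹ * (n * z * n⁻¹) = n * (z * z) * n⁻¹ by group, hz', hne_e] at h1
      exact hkT h1
  have hkconj : ∀ x ∈ T, k * x * k ∈ T := by
    intro x hx
    refine hSu _ (S.mul_mem (S.mul_mem heS (hTS hx)) heS) ?_
    have hktk : k * t * k = u := by
      rw [← hku, show k * (k * u * k) * k = k * k * u * (k * k) by group, hk2, one_mul, mul_one]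
    calc k * x * k * u = k * x * k * (k * t * k) := by rw [hktk]
      _ = k * x * (k * k) * t * k := by group
      _ = k * (x * t) * k := by rw [hk2]; group
      _ = k * (t * x) * k := by rw [hcm x hx t htT ht2]
      _ = k * t * (k * k) * x * k := by rw [hk2]; group
      _ = u * (k * x * k) := by rw [← hktk]; group
  have hel : ∀ x ∈ T, x * x = 1 := sq_eq_one_of_swap hT hu2 ht2 hu1 ht1 hut huT htT
    (fun c hc' v hv => hL.conj_mem_zpowers hu hu2 hu1 hr hr2 hy hyo hc hT hTL hTu hc' hv)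
    (hedef ▸ hcases) hk2 hkconj hku hfix
  -- transfer
  have hsk : ∀ s ∈ S, s * k * s⁻¹ = k ∨ s * k * s⁻¹ = k * e := by
    have hbase : ∀ x ∈ T, x * k * x⁻¹ = k ∨ x * k * x⁻¹ = k * e := by
      intro x hx
      rw [inv_eq_self (hel x hx)]
      by_cases hx1 : x = 1
      · exact Or.inl (by simp [hx1])
      rcases hcases x hx (hel x hx) hx1 with rfl | rfl | rfl
      · exact Or.inr huk
      · refine Or.inr ?_
        rw [← hku, show k * u * k * k * (k * u * k) = k * (u * (k * k) * k * u) * k by group, hk2, mul_one, huk,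
          show k * (k * e) * k = k * k * (e * k) by group, hk2, one_mul, hek]
      · exact Or.inl (by rw [hek, mul_assoc, he2, mul_one])
    intro s hs
    by_cases hsT : s ∈ T
    · exact hbase s hsT
    · have hskT : s * k ∈ T := by
        refine hSu _ (S.mul_mem hs heS) (mul_inv_eq_iff_eq_mul.1 ?_)
        rw [mul_inv_rev, inv_eq_self hk2, show s * k * u * (k * s⁻¹) = s * (k * u * k) * s⁻¹ by group, hku]
        have hse : s * e * s⁻¹ = e := mul_inv_eq_iff_eq_mul.2 (hmemS.1 hs).1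
        have ht' : t = u * e := by rw [hedef, ← mul_assoc, hu2, one_mul]
        conv_lhs => rw [ht', show s * (u * e) * s⁻¹ = s * u * s⁻¹ * (s * e * s⁻¹) by group, hswap s hs hsT, hse]
        rw [hedef, htu, ← mul_assoc, ht2, one_mul]
      have h1 := hbase _ hskT
      rwa [show s * k * k * (s * k)⁻¹ = s * k * s⁻¹ by group] at h1
  let φ₀ : ↥(hS.sylow : Subgroup ↥L) → ℤˣ := fun x => by
    classical exact if ((x : ↥L) : Γ) * k * ((x : ↥L) : Γ)⁻¹ = k then 1 else -1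
  have hkek : k * e ≠ k := fun h' => he1 (mul_left_cancel (h'.trans (mul_one k).symm))
  have hφmul : ∀ a b, φ₀ (a * b) = φ₀ a * φ₀ b := by
    intro a b
    have ha : ((a : ↥L) : Γ) ∈ S := hS.mem_sylow.1 a.2
    have hb : ((b : ↥L) : Γ) ∈ S := hS.mem_sylow.1 b.2
    have hae : ((a : ↥L) : Γ) * e * ((a : ↥L) : Γ)⁻¹ = e := mul_inv_eq_iff_eq_mul.2 (hmemS.1 ha).1
    have hab : (((a * b : ↥(hS.sylow : Subgroup ↥L)) : ↥L) : Γ) * k *
        (((a * b : ↥(hS.sylow : Subgroup ↥L)) : ↥L) : Γ)⁻¹ =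
        ((a : ↥L) : Γ) * (((b : ↥L) : Γ) * k * ((b : ↥L) : Γ)⁻¹) * ((a : ↥L) : Γ)⁻¹ := by
      simp only [Subgroup.coe_mul]; group
    have hea : ((a : ↥L) : Γ) * (k * e) * ((a : ↥L) : Γ)⁻¹ = ((a : ↥L) : Γ) * k * ((a : ↥L) : Γ)⁻¹ * e := by
      conv_rhs => rw [← hae]
      group
    have hee : k * e * e = k := by rw [mul_assoc, he2, mul_one]
    simp only [φ₀]
    rw [hab]
    rcases hsk _ hb with h2 | h2
    · rw [h2, if_pos (show k = k from rfl), mul_one]
    · rw [h2, hea, if_neg hkek]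
      rcases hsk _ ha with h1 | h1
      · rw [h1, if_neg hkek, if_pos (show k = k from rfl), one_mul]
      · rw [h1, hee, if_pos (show k = k from rfl), if_neg hkek, neg_mul_neg, one_mul]
  have hidx : ∀ H : Subgroup ↥L, H.Normal → H.index ≠ 2 := by
    intro H hH hi
    rcases hH.eq_bot_or_eq_top with h' | h'
    · rw [h', index_bot] at hi
      exact hL.notSolvable (by haveI := (IsPGroup.of_card (p := 2) (n := 1) (by rw [hi, pow_one]) : IsPGroup 2 ↥L).isNilpotent; infer_instance)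
    · rw [h', index_top] at hi; omega
  obtain ⟨m, hm, hφ1, -⟩ := Cfsg.Agent.Kondo.exists_extremal_conj hidx hS.sylow (MonoidHom.mk' φ₀ hφmul)
    (⟨u, hu⟩ : ↥L) (Subtype.ext hu2)
  have hvS : (m : Γ)⁻¹ * u * (m : Γ) ∈ S := hS.mem_sylow.1 hm
  have hvk : (m : Γ)⁻¹ * u * (m : Γ) * k * ((m : Γ)⁻¹ * u * (m : Γ))⁻¹ = k := by
    have h1 : φ₀ ⟨m⁻¹ * ⟨u, hu⟩ * m, hm⟩ = 1 := hφ1
    simp only [φ₀, Subgroup.coe_mul, Subgroup.coe_inv] at h1
    by_contra hcon
    rw [if_neg hcon] at h1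
    exact absurd h1 (by decide)
  obtain ⟨v, hvdef⟩ : ∃ v, v = (m : Γ)⁻¹ * u * (m : Γ) := ⟨_, rfl⟩
  rw [← hvdef] at hvS hvk
  have hv2 : v * v = 1 := by rw [hvdef]; simpa using mul_self_conj (g := (m : Γ)⁻¹) hu2
  have hv1 : v ≠ 1 := by
    rw [hvdef]; intro h'; exact hu1 (conj_eq_one_iff.1 (show (m : Γ)⁻¹ * u * ((m : Γ)⁻¹)⁻¹ = 1 by rwa [inv_inv]))
  have hvu : ∀ q : Γ, v ≠ q * e * q⁻¹ := fun q h' => by
    refine hnot2 (q⁻¹ * (m : Γ)⁻¹) ?_
    rw [show q⁻¹ * (m : Γ)⁻¹ * u * (q⁻¹ * (m : Γ)⁻¹)⁻¹ = q⁻¹ * ((m : Γ)⁻¹ * u * (m : Γ)) * q by group, ← hvdef, h']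
    group
  have hvk' : v * k = k * v := mul_inv_eq_iff_eq_mul.1 hvk
  have hkv : k * v * k = v := by rw [← hvk', mul_assoc, hk2, mul_one]
  by_cases hvT : v ∈ T
  · rcases hcases v hvT hv2 hv1 with h' | h' | h'
    · rw [h', hku] at hkv; exact hut hkv.symm
    · rw [h', ← hku, show k * (k * u * k) * k = k * k * u * (k * k) by group, hk2, one_mul, mul_one, hku] at hkv
      exact hut hkv
    · exact hvu 1 (by simpa using h')
  · have hskT : v * k ∈ T := by
      refine hSu _ (S.mul_mem hvS heS) (mul_inv_eq_iff_eq_mul.1 ?_)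
      rw [mul_inv_rev, inv_eq_self hk2, show v * k * u * (k * v⁻¹) = v * (k * u * k) * v⁻¹ by group, hku]
      have h3 := hswap v hvS hvT
      rw [inv_eq_self hv2] at h3 ⊢
      rw [← h3, show v * (v * u * v) * v = v * v * u * (v * v) by group, hv2, one_mul, mul_one]
    have hf2 : v * k * (v * k) = 1 := hel _ hskT
    have hfk : k * (v * k) * k = v * k := by
      rw [show k * (v * k) * k = k * v * k * k by group, hkv]
    by_cases hvk1 : v * k = 1
    · exact hvu h (by rw [← hkdef, eq_inv_of_mul_eq_one_left hvk1, inv_eq_self hk2])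
    rcases hcases _ hskT hf2 hvk1 with h' | h' | h'
    · rw [h', hku] at hfk; exact hut hfk.symm
    · rw [h', ← hku, show k * (k * u * k) * k = k * k * u * (k * k) by group, hk2, one_mul, mul_one, hku] at hfk
      exact hut hfk
    · refine hvu (u * h) ?_
      rw [show u * h * e * (u * h)⁻¹ = u * (h * e * h⁻¹) * u⁻¹ by group, ← hkdef, huinv, huk, ← hek, ← h',
        mul_assoc, hk2, mul_one]

end Setting

end Cfsg.Lib.MaxNorm
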