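import Cfsg.Agent.Lib.MaxNorm.Four

/-!
# The Sylow 2-subgroup is a four group
-/

set_option autoImplicit false
set_option linter.style.haveILetI false
set_option linter.unusedSectionVars false

namespace Cfsg.Lib.MaxNorm

open Subgroup

universe u

variable {Γ : Type u} [Group Γ] [Finite Γ]

theorem mem_of_pow_mem {K : Subgroup Γ} {n : Γ} {a b : ℕ} (ha : n ^ a ∈ K) (hb : n ^ b ∈ K) (hab : a.Coprime b) :
    n ∈ K := by
  have h := Nat.gcd_eq_gcd_ab a b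
  rw [hab.gcd_eq_one, Nat.cast_one] at h
  rw [← zpow_one n, h, zpow_add, zpow_mul, zpow_mul, zpow_natCast, zpow_natCast]
  exact K.mul_mem (K.zpow_mem ha _) (K.zpow_mem hb _)

namespace Setting

variable {L : Subgroup Γ} (hL : Setting L) {u y : Γ} {r : ℕ} (hu : u ∈ L) (hu2 : u * u = 1) (hu1 : u ≠ 1)
  (hr : r.Prime) (hr2 : r ≠ 2) (hy : y ∈ L) (hyo : orderOf y = r) (hc : u * y = y * u)

include hL hu hu2 hu1 hr hr2 hy hyo hc

/-- The Sylow 2-subgroup containing `u` is a four group. -/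
theorem exists_four : ∃ (S : Subgroup Γ) (t : Γ), IsS L S ∧ u ∈ S ∧ t ∈ S ∧ t * t = 1 ∧ t ≠ 1 ∧ t ≠ u ∧
    u * t = t * u ∧ ∀ x ∈ S, x = 1 ∨ x = u ∨ x = t ∨ x = u * t := by
  haveI : Fact (Nat.Prime 2) := ⟨Nat.prime_two⟩
  haveI := hL.normal
  obtain ⟨T, hT', hle⟩ := exists_isS (L := centralizer ({u} : Set Γ) ⊓ L) (T := zpowers u)
    (zpowers_le.2 (mem_inf.2 ⟨mem_cent.2 rfl, hu⟩)) (isPGroup_zpowers_invol hu2 hu1)
  have hTL : T ≤ L := hT'.le.trans inf_le_right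
  have hTu : T ≤ centralizer ({u} : Set Γ) := hT'.le.trans inf_le_left
  have hT := hT'.two
  have huT : u ∈ T := hle (mem_zpowers u)
  have hS : IsS L T := hL.isS_of_max hu hu2 hu1 hr hr2 hy hyo hc hTL hTu hT huT
    fun Q h1 h2 h3 h4 => hT'.max Q (le_inf h2 h1) h3 h4
  have hcm : ∀ a ∈ T, ∀ b ∈ T, b * b = 1 → a * b = b * a := fun a ha b hb h2 =>
    hL.commute_invol hu hu2 hu1 hr hr2 hy hyo hc hT hTL hTu ha hb h2
  obtain ⟨h, hhL, hhT, hhne⟩ := hL.not_isolated hS huT hu2 hu1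
  obtain ⟨n, hnL, hnN, hn⟩ := hL.exists_normalizer_conj hS hhL hu (fun s hs => hcm s hs u huT hu2)
    fun s hs => hcm s hs _ hhT (mul_self_conj hu2)
  have hnu : n ∉ centralizer ({u} : Set Γ) := fun h' => hhne (by rw [← hn]; exact conj_eq_self_iff.2 h')
  -- an element of odd order moving `u`
  obtain ⟨a, m, hm, hord⟩ := Nat.exists_eq_pow_mul_and_not_dvd (orderOf_pos n).ne' 2 (by norm_num)
  obtain ⟨g, hg⟩ : ∃ g, g = n ^ 2 ^ a := ⟨_, rfl⟩
  have hgu : g ∉ centralizer ({u} : Set Γ) := by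
    intro hg'
    rw [hg] at hg'
    have hpow : (n ^ m) ^ 2 ^ a = 1 := by rw [← pow_mul, mul_comm, ← hord, pow_orderOf_eq_one]
    obtain ⟨k, -, hk⟩ := (Nat.dvd_prime_pow Nat.prime_two).1 (orderOf_dvd_of_pow_eq_one hpow)
    exact hnu (mem_of_pow_mem hg' (hTu (hS.mem_of_normalizes (L.pow_mem hnL m) (pow_mem hnN m) hk))
      ((Nat.prime_two.coprime_iff_not_dvd.2 hm).pow_left a))
  have hgodd : g ^ m = 1 := by rw [hg, ← pow_mul, ← hord, pow_orderOf_eq_one]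
  have hgN : g ∈ normalizer (T : Set Γ) := hg ▸ pow_mem hnN _
  have hgL : g ∈ L := hg ▸ L.pow_mem hnL _
  have hcases := hL.invol_cases hu hu2 hu1 hr hr2 hy hyo hc hT hTL hTu huT hgN hgu
  obtain ⟨t, htdef⟩ : ∃ t, t = g * u * g⁻¹ := ⟨_, rfl⟩
  rw [← htdef] at hcases
  have htT : t ∈ T := htdef ▸ (mem_normalizer_iff.1 hgN u).1 huT
  have ht2 : t * t = 1 := htdef ▸ mul_self_conj hu2
  have ht1 : t ≠ 1 := htdef ▸ fun e => hu1 (conj_eq_one_iff.1 e)
  have hut : t ≠ u := fun e => hgu (conj_eq_self_iff.1 (htdef.symm.trans e))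
  have htu : u * t = t * u := hcm u huT t htT ht2
  -- `g` permutes the three involutions cyclically
  have hgt : g * t * g⁻¹ = u * t := by
    rcases hcases _ ((mem_normalizer_iff.1 hgN t).1 htT) (mul_self_conj ht2)
      (fun e => ht1 (conj_eq_one_iff.1 e)) with h' | h' | h'
    · refine absurd ?_ hgu
      refine mem_of_pow_mem (a := 2) (b := m) ?_ ?_ (Nat.prime_two.coprime_iff_not_dvd.2 hm)
      · rw [← conj_eq_self_iff, show g ^ 2 * u * (g ^ 2)⁻¹ = g * (g * u * g⁻¹) * g⁻¹ by rw [pow_two]; group,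
          ← htdef, h']
      · rw [hgodd]; exact one_mem _
    · refine absurd ?_ hut
      conv_rhs at h' => rw [htdef]
      exact mul_left_cancel (mul_right_cancel h')
    · exact h'
  have hg3 : g ^ 3 ∈ centralizer ({u} : Set Γ) := by
    rw [← conj_eq_self_iff,
      show g ^ 3 * u * (g ^ 3)⁻¹ = g * (g * (g * u * g⁻¹) * g⁻¹) * g⁻¹ by rw [pow_succ, pow_two]; group,
      ← htdef, hgt, show g * (u * t) * g⁻¹ = g * u * g⁻¹ * (g * t * g⁻¹) by group, ← htdef, hgt, htu,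
      ← mul_assoc, ht2, one_mul]
  haveI : Fact (Nat.Prime 3) := ⟨Nat.prime_three⟩
  obtain ⟨b, m', hm', hord'⟩ := Nat.exists_eq_pow_mul_and_not_dvd (orderOf_pos g).ne' 3 (by norm_num)
  obtain ⟨z, hz⟩ : ∃ z, z = g ^ m' := ⟨_, rfl⟩
  have hzu : z ∉ centralizer ({u} : Set Γ) := fun h' =>
    hgu (mem_of_pow_mem hg3 (hz ▸ h') (Nat.prime_three.coprime_iff_not_dvd.2 hm'))
  obtain ⟨c, -, hzord⟩ := (Nat.dvd_prime_pow Nat.prime_three).1 (orderOf_dvd_of_pow_eq_one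
    (show z ^ 3 ^ b = 1 by rw [hz, ← pow_mul, mul_comm, ← hord', pow_orderOf_eq_one]))
  have hzN : z ∈ normalizer (T : Set Γ) := hz ▸ pow_mem hgN _
  obtain ⟨E, hEdef⟩ : ∃ E, E = omegaOne T hcm := ⟨_, rfl⟩
  have hEL : E ≤ L := fun x hx => hTL (mem_omegaOne.1 (hEdef ▸ hx)).1
  have hE : IsPGroup 2 E := hEdef ▸ omegaOne_isPGroup hT hcm
  have huE : u ∈ E := hEdef ▸ mem_omegaOne.2 ⟨huT, hu2⟩
  have hE1 : E ≠ ⊥ := fun h' => hu1 (mem_bot.1 (h' ▸ huE))
  have hNE : normalizer (T : Set Γ) ≤ normalizer (E : Set Γ) := by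
    intro x hx
    rw [mem_normalizer_iff, hEdef]
    intro v
    rw [mem_omegaOne, mem_omegaOne]
    refine and_congr (mem_normalizer_iff.1 hx v) ⟨mul_self_conj, fun h' => ?_⟩
    simpa [mul_assoc] using mul_self_conj (g := x⁻¹) h'
  have hzE : zpowers z ≤ normalizer (E : Set Γ) := zpowers_le.2 (hNE hzN)
  have hZ : IsPGroup 3 (zpowers z) := isPGroup_zpowers hzord
  have hH := hL.eq_of_le (X := E ⊔ zpowers z) (sup_le hEL (zpowers_le.2 (hz ▸ L.pow_mem hgL _)))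
    (fun h' => hE1 (le_bot_iff.1 (h' ▸ le_sup_left))) (twoPrimes_sup hE hZ hzE) hEL hE1 (twoPrimes_of_pGroup hE)
    (normalizer_sup_le (by norm_num) hE hZ hzE)
  have hel : ∀ x ∈ T, x * x = 1 := by
    intro x hx
    by_contra hx2
    obtain ⟨w, hw, hw2, hw4⟩ := exists_order_four hT hx hx2
    have hwT := zpowers_le.2 hx hw
    have hwH : w ∈ normalizer ((E ⊔ zpowers z : Subgroup Γ) : Set Γ) := hH ▸ hNE (le_normalizer hwT)
    have hcT : w * (z * w⁻¹ * z⁻¹) ∈ T :=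
      T.mul_mem hwT ((mem_normalizer_iff.1 hzN _).1 (T.inv_mem hwT))
    have hcE : w * (z * w⁻¹ * z⁻¹) ∈ E := by
      refine mem_of_coprime hzE ?_ ?_
      · rw [show w * (z * w⁻¹ * z⁻¹) = w * z * w⁻¹ * z⁻¹ by group]
        exact mul_mem ((mem_normalizer_iff.1 hwH z).1 (mem_sup_right (mem_zpowers z)))
          (inv_mem (mem_sup_right (mem_zpowers z)))
      · obtain ⟨k, hk⟩ := IsPGroup.iff_orderOf.1 hT ⟨_, hcT⟩
        rw [← Subgroup.orderOf_coe] at hk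
        rw [show orderOf (w * (z * w⁻¹ * z⁻¹)) = 2 ^ k from hk, Nat.card_zpowers, hzord]
        exact Nat.Coprime.pow _ _ (by norm_num)
    obtain ⟨hcT', hc2⟩ := mem_omegaOne.1 (hEdef ▸ hcE)
    have hfix : z * (w * w) * z⁻¹ = w * w := by
      have h1 : z * w * z⁻¹ = (w * (z * w⁻¹ * z⁻¹))⁻¹ * w := by group
      have h2 : Commute w (w * (z * w⁻¹ * z⁻¹))⁻¹ := Commute.inv_right (hcm w hwT _ hcT' hc2)
      rw [show z * (w * w) * z⁻¹ = z * w * z⁻¹ * (z * w * z⁻¹) by group, h1, h2.mul_mul_mul_comm,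
        inv_eq_self hc2, hc2, one_mul]
    have hcomm : ∀ i : ℕ, w * w = g ^ i * u * (g ^ i)⁻¹ → False := by
      intro i hi
      refine hzu (conj_eq_self_iff.1 (mul_left_cancel (a := g ^ i) (mul_right_cancel (b := (g ^ i)⁻¹) ?_)))
      have hcz : Commute (g ^ i) z := hz ▸ (Commute.refl g).pow_pow i m'
      calc g ^ i * (z * u * z⁻¹) * (g ^ i)⁻¹ = g ^ i * z * u * (g ^ i * z)⁻¹ := by group
        _ = z * (g ^ i * u * (g ^ i)⁻¹) * z⁻¹ := by rw [hcz.eq]; group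
        _ = g ^ i * u * (g ^ i)⁻¹ := by rw [← hi, hfix]
    rcases hcases _ (T.mul_mem hwT hwT) hw4 hw2 with h' | h' | h'
    · exact hcomm 0 (by rw [h']; simp)
    · exact hcomm 1 (by rw [h', htdef, pow_one])
    · exact hcomm 2 (by rw [h', ← hgt, htdef, pow_two]; group)
  refine ⟨T, t, hS, huT, htT, ht2, ht1, hut, htu, fun x hx => ?_⟩
  by_cases hx1 : x = 1
  · exact Or.inl hx1
  · exact Or.inr (hcases x hx (hel x hx) hx1)

end Setting

end Cfsg.Lib.MaxNorm
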