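import Cfsg.Agent.Lib.MaxNorm.Two
import Cfsg.Agent.Lib.Kondo.Transfer

/-!
# An involution centralizing an element of odd prime order
-/

set_option autoImplicit false
set_option linter.style.haveILetI false
set_option linter.unusedSectionVars false

namespace Cfsg.Lib.MaxNorm

open Subgroup

universe u

variable {Γ : Type u} [Group Γ] [Finite Γ]

theorem conj_mem_cent {u g h : Γ} :
    g * h * g⁻¹ ∈ centralizer ({g * u * g⁻¹} : Set Γ) ↔ h ∈ centralizer ({u} : Set Γ) := by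
  rw [mem_cent, mem_cent, show g * h * g⁻¹ * (g * u * g⁻¹) = g * (h * u) * g⁻¹ by group,
    show g * u * g⁻¹ * (g * h * g⁻¹) = g * (u * h) * g⁻¹ by group, mul_left_inj, mul_right_inj]

theorem mul_self_conj {f g : Γ} (hf : f * f = 1) : g * f * g⁻¹ * (g * f * g⁻¹) = 1 := by
  rw [show g * f * g⁻¹ * (g * f * g⁻¹) = g * (f * f) * g⁻¹ by group, hf, mul_one, mul_inv_cancel]

theorem mul_self_mul {a b : Γ} (ha : a * a = 1) (hb : b * b = 1) (hc : a * b = b * a) : a * b * (a * b) = 1 := by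
  rw [(show Commute b a from hc.symm).mul_mul_mul_comm, ha, hb, one_mul]

theorem mem_zpowers_order_four {x f z : Γ} (hf : x * x = f) (hf2 : f * f = 1) (hz : z ∈ zpowers x) :
    z = 1 ∨ z = f ∨ z = x ∨ z = x * f := by
  obtain ⟨i, rfl⟩ := mem_zpowers_iff.1 hz
  have h2 : ∀ j : ℤ, x ^ (2 * j) = 1 ∨ x ^ (2 * j) = f := by
    intro j
    rw [zpow_mul, zpow_two, hf]
    exact mem_zpowers_invol hf2 (mem_zpowers_iff.2 ⟨j, rfl⟩)
  rcases Int.even_or_odd i with ⟨j, rfl⟩ | ⟨j, rfl⟩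
  · rw [← two_mul]
    rcases h2 j with h | h
    · exact Or.inl h
    · exact Or.inr (Or.inl h)
  · rw [zpow_add, zpow_one]
    rcases h2 j with h | h
    · exact Or.inr (Or.inr (Or.inl (by rw [h, one_mul])))
    · refine Or.inr (Or.inr (Or.inr ?_))
      rw [h, ← hf, mul_assoc]

theorem conj_cases {x f b : Γ} (hf : x * x = f) (hf2 : f * f = 1) (hf1 : f ≠ 1) (hbf : b * f = f * b)
    (hz : b * x * b⁻¹ ∈ zpowers x) : b * x * b⁻¹ = x ∨ b * x * b⁻¹ = x * f := by
  have hsq : b * x * b⁻¹ * (b * x * b⁻¹) = f := by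
    rw [show b * x * b⁻¹ * (b * x * b⁻¹) = b * (x * x) * b⁻¹ by group, hf, hbf, mul_inv_cancel_right]
  rcases mem_zpowers_order_four hf hf2 hz with e | e | e | e
  · rw [e, one_mul] at hsq; exact absurd hsq.symm hf1
  · rw [e, hf2] at hsq; exact absurd hsq.symm hf1
  · exact Or.inl e
  · exact Or.inr e

theorem exists_order_four {T : Subgroup Γ} (hT : IsPGroup 2 T) {x : Γ} (hx : x ∈ T) (h : x * x ≠ 1) :
    ∃ z ∈ zpowers x, z * z ≠ 1 ∧ z * z * (z * z) = 1 := by
  obtain ⟨a, ha⟩ := IsPGroup.iff_orderOf.1 hT ⟨x, hx⟩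
  rw [← Subgroup.orderOf_coe] at ha
  change orderOf x = 2 ^ a at ha
  have ha2 : 2 ≤ a := by
    by_contra h'
    refine h ?_
    rw [← pow_two, ← orderOf_dvd_iff_pow_eq_one, ha]
    exact (pow_dvd_pow 2 (show a ≤ 1 by omega)).trans (by norm_num)
  refine ⟨x ^ 2 ^ (a - 2), pow_mem (mem_zpowers x) _, ?_, ?_⟩
  · rw [← pow_two, ← pow_mul, ← pow_succ, Ne, ← orderOf_dvd_iff_pow_eq_one, ha]
    intro hd
    have := (Nat.pow_dvd_pow_iff_le_right (by norm_num)).1 hd
    omega
  · rw [← pow_two, ← pow_two, ← pow_mul, ← pow_mul, ← orderOf_dvd_iff_pow_eq_one, ha,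
      show 2 ^ (a - 2) * (2 * 2) = 2 ^ a by
        rw [show 2 * 2 = 2 ^ 2 by norm_num, ← pow_add, Nat.sub_add_cancel ha2]]

/-- A 2-group all of whose cyclic subgroups are normal, with involutions `u`, `t`, `ut`, and an involutory
automorphism swapping `u` and `t` all of whose fixed elements are involutions, is elementary. -/
theorem sq_eq_one_of_swap {T : Subgroup Γ} (hT : IsPGroup 2 T) {u t k : Γ}
    (hu2 : u * u = 1) (ht2 : t * t = 1) (hu1 : u ≠ 1) (ht1 : t ≠ 1) (hut : u ≠ t)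
    (huT : u ∈ T) (htT : t ∈ T)
    (hded : ∀ c ∈ T, ∀ v ∈ T, c * v * c⁻¹ ∈ zpowers v)
    (hcases : ∀ f ∈ T, f * f = 1 → f ≠ 1 → f = u ∨ f = t ∨ f = u * t)
    (hk : k * k = 1) (hkT : ∀ x ∈ T, k * x * k ∈ T) (hku : k * u * k = t)
    (hfix : ∀ p ∈ T, k * p * k = p → p * p = 1) :
    ∀ x ∈ T, x * x = 1 := by
  intro x0 hx0
  by_contra hne
  obtain ⟨x, hxz, hx2, hx4⟩ := exists_order_four hT hx0 hne
  have hxT : x ∈ T := zpowers_le.2 hx0 hxz
  have hcomm : ∀ f ∈ T, f * f = 1 → ∀ c ∈ T, Commute c f := by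
    intro f hf hf2 c hc
    rcases mem_zpowers_invol hf2 (hded c hc f hf) with e | e
    · rw [conj_eq_one_iff.1 e]; exact Commute.one_right c
    · exact mul_inv_eq_iff_eq_mul.1 e
  have hkk : ∀ a b, k * (a * b) * k = k * a * k * (k * b * k) := fun a b => by
    rw [show k * a * k * (k * b * k) = k * a * (k * k) * b * k by group, hk]; group
  have hkinv : ∀ a, k * (k * a * k) * k = a := fun a => by
    rw [show k * (k * a * k) * k = (k * k) * a * (k * k) by group, hk, one_mul, mul_one]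
  have hkt : k * t * k = u := by rw [← hku, hkinv]
  have hke : k * (u * t) * k = u * t := by rw [hkk, hku, hkt]; exact hcomm u huT hu2 t htT
  have hutne : u * t ≠ 1 := fun e => hut (by rw [← inv_eq_self hu2]; exact inv_eq_of_mul_eq_one_right e)
  obtain ⟨y, hy⟩ : ∃ y, y = k * x * k := ⟨_, rfl⟩
  have hyT : y ∈ T := hy ▸ hkT x hxT
  have hky : k * y * k = x := by rw [hy, hkinv]
  have hy2 : y * y = k * (x * x) * k := by rw [hy, hkk]
  have hxx := T.mul_mem hxT hxT
  have hyy := T.mul_mem hyT hyT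
  have hcx := hcomm _ hxx hx4
  have hxy := conj_cases rfl hx4 hx2 (hcx y hyT) (hded y hyT x hxT)
  have hpfix : Commute x y → x * y * (x * y) = 1 := fun hc =>
    hfix _ (T.mul_mem hxT hyT) (by rw [hkk, ← hy, hky, hc.eq])
  rcases hcases (x * x) hxx hx4 hx2 with hf | hf | hf
  case' inr.inr =>
    have hkf : y * y = u * t := by rw [hy2, hf, hke]
    have hcut : ∀ c ∈ T, Commute c (u * t) := hf ▸ hcx
    rcases hxy with e | e
    · have hc : Commute x y := (mul_inv_eq_iff_eq_mul.1 e).symm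
      have h1 := hpfix hc
      have hfixp : k * (x * y) * k = x * y := by rw [hkk, ← hy, hky, hc.eq]
      by_cases hxy1 : x * y = 1
      · -- `x u` is fixed
        have hy' : y = x * (x * x) := by
          rw [← inv_eq_of_mul_eq_one_right hxy1, eq_comm]
          exact eq_inv_of_mul_eq_one_left (by rw [mul_assoc, (hcx x hxT).symm.eq, ← mul_assoc, hx4])
        have h2 := hfix (x * u) (T.mul_mem hxT huT) (by
          rw [hkk, ← hy, hku, hy', hf, mul_assoc, mul_assoc u t t, ht2, mul_one])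
        refine hx2 ?_
        rwa [(hcomm u huT hu2 x hxT).symm.mul_mul_mul_comm, hu2, mul_one] at h2
      · rcases hcases _ (T.mul_mem hxT hyT) h1 hxy1 with e' | e' | e'
        · rw [e', hku] at hfixp; exact hut hfixp.symm
        · rw [e', hkt] at hfixp; exact hut hfixp
        · rw [← hf, mul_right_inj] at e'
          exact hx2 (hfix x hxT (by rw [← hy, e']))
    · -- `x` and `y` generate a quaternion group
      have hc : y * x = x * y * (u * t) := by
        rw [mul_inv_eq_iff_eq_mul.1 e, hf, mul_assoc, ← (hcut y hyT).eq, ← mul_assoc]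
      have h2 := hfix (x * y * u) (T.mul_mem (T.mul_mem hxT hyT) huT) (by
        rw [hkk, hkk, ← hy, hky, hku, hc, mul_assoc (x * y), mul_assoc u t t, ht2, mul_one])
      rw [(hcomm u huT hu2 _ (T.mul_mem hxT hyT)).symm.mul_mul_mul_comm, hu2, mul_one] at h2
      refine hutne ?_
      calc u * t = u * t * (u * t * (u * t)) := by rw [show u * t * (u * t) = 1 from hf ▸ hx4, mul_one]
        _ = x * x * (y * y * (u * t)) := by rw [hf, hkf]
        _ = x * (x * (y * (y * (u * t)))) := by simp only [mul_assoc]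
        _ = x * (x * (y * (u * t * y))) := by rw [(hcut y hyT).eq]
        _ = x * (x * y * (u * t)) * y := by simp only [mul_assoc]
        _ = x * (y * x) * y := by rw [hc]
        _ = 1 := by rw [← h2]; simp only [mul_assoc]
  all_goals
    obtain ⟨f', hf', hkf, hne'⟩ : ∃ f', (f' = u ∨ f' = t) ∧ y * y = f' ∧ x * x * f' = u * t := by
      first
      | exact ⟨t, Or.inr rfl, by rw [hy2, hf, hku], by rw [hf]⟩
      | exact ⟨u, Or.inl rfl, by rw [hy2, hf, hkt], by rw [hf]; exact (hcomm u huT hu2 t htT).eq⟩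
    have hf'T : f' ∈ T := hkf ▸ hyy
    have hf'2 : f' * f' = 1 := by rcases hf' with rfl | rfl <;> assumption
    have hf'1 : f' ≠ 1 := by rcases hf' with rfl | rfl <;> assumption
    have hcy := hcomm f' hf'T hf'2
    have hnc : ¬ Commute x y := by
      intro hc
      have h1 := hpfix hc
      rw [hc.symm.mul_mul_mul_comm, hkf, hne'] at h1
      exact hutne h1
    rcases hxy with e | e
    · exact hnc (mul_inv_eq_iff_eq_mul.1 e).symm
    rcases conj_cases hkf hf'2 hf'1 (hcy x hxT).eq (hded x hxT y hyT) with e' | e'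
    · exact hnc (mul_inv_eq_iff_eq_mul.1 e')
    have h1 : y * x = y * (x * x * f') * x := by
      calc y * x = x * (x * x) * y := mul_inv_eq_iff_eq_mul.1 e
        _ = x * x * (x * y) := by rw [(hcx x hxT).eq, mul_assoc]
        _ = x * x * (y * f' * x) := by rw [mul_inv_eq_iff_eq_mul.1 e']
        _ = x * x * y * f' * x := by simp only [mul_assoc]
        _ = y * (x * x * f') * x := by rw [← (hcx y hyT).eq]; simp only [mul_assoc]
    refine hutne ?_
    rw [← hne']
    exact mul_left_cancel ((mul_right_cancel h1).symm.trans (mul_one _).symm)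

namespace Setting

variable {L : Subgroup Γ} (hL : Setting L) {u y : Γ} {r : ℕ} (hu : u ∈ L) (hu2 : u * u = 1) (hu1 : u ≠ 1)
  (hr : r.Prime) (hr2 : r ≠ 2) (hy : y ∈ L) (hyo : orderOf y = r) (hc : u * y = y * u)

include hr hr2 hyo in
theorem odd_orderOf_zpow (i : ℤ) : Odd (orderOf (y ^ i)) :=
  ((hr.odd_of_ne_two hr2)).of_dvd_nat (hyo ▸ orderOf_dvd_of_mem_zpowers (zpow_mem (mem_zpowers y) i))

include hL hu hu2 hu1 hr hr2 hy hyo hc

/-- The centralizer of `u` normalizes the product of `⟨y⟩` with each 2-subgroup it contains. -/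
theorem cent_le_normalizer_sup {V : Subgroup Γ} (hV : IsPGroup 2 V) (hVL : V ≤ L)
    (hVu : V ≤ centralizer ({u} : Set Γ)) :
    centralizer ({u} : Set Γ) ≤ normalizer ((zpowers y ⊔ V : Subgroup Γ) : Set Γ) := by
  haveI : Fact (Nat.Prime 2) := ⟨Nat.prime_two⟩
  haveI : Fact r.Prime := ⟨hr⟩
  have hC := hL.centralizer_eq hu hu2 hu1 hr hr2 hy hyo hc
  have hY : IsPGroup r (zpowers y) := isPGroup_zpowers (k := 1) (by rw [hyo, pow_one])
  have hY1 := zpowers_ne_bot' (ne_one_of_orderOf_prime hyo hr)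
  have hle : V ≤ normalizer (zpowers y : Set Γ) := hC ▸ hVu
  have hH1 : zpowers y ⊔ V ≠ ⊥ := fun h => hY1 (le_bot_iff.1 (h ▸ le_sup_left))
  rw [hC, hL.eq_of_le (sup_le (zpowers_le.2 hy) hVL) hH1 (twoPrimes_sup hY hV hle) (zpowers_le.2 hy) hY1
    (twoPrimes_of_pGroup hY) (normalizer_sup_le hr2 hY hV hle)]

/-- The cyclic subgroups of a 2-subgroup centralizing `u` are normal in it. -/
theorem conj_mem_zpowers {T : Subgroup Γ} (hT : IsPGroup 2 T) (hTL : T ≤ L)
    (hTu : T ≤ centralizer ({u} : Set Γ)) {c v : Γ} (hcT : c ∈ T) (hvT : v ∈ T) :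
    c * v * c⁻¹ ∈ zpowers v := by
  haveI : Fact (Nat.Prime 2) := ⟨Nat.prime_two⟩
  have hvle : zpowers v ≤ T := zpowers_le.2 hvT
  have hle : zpowers v ≤ normalizer (zpowers y : Set Γ) :=
    hL.centralizer_eq hu hu2 hu1 hr hr2 hy hyo hc ▸ hvle.trans hTu
  have h := (mem_normalizer_iff.1 (hL.cent_le_normalizer_sup hu hu2 hu1 hr hr2 hy hyo hc (hT.to_le hvle)
    (hvle.trans hTL) (hvle.trans hTu) (hTu hcT)) v).1 (mem_sup_right (mem_zpowers v))
  have h' : c * v * c⁻¹ ∈ ((zpowers y ⊔ zpowers v : Subgroup Γ) : Set Γ) := h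
  rw [coe_mul_of_right_le_normalizer_left _ _ hle] at h'
  obtain ⟨a, ha, b, hb, hab⟩ := Set.mem_mul.1 h'
  obtain ⟨i, rfl⟩ := mem_zpowers_iff.1 ha
  have h1 : y ^ i = 1 := eq_one_of_two_mem hT (by
    rw [eq_mul_inv_of_mul_eq hab]
    exact T.mul_mem (T.mul_mem (T.mul_mem hcT hvT) (T.inv_mem hcT)) (T.inv_mem (hvle hb)))
    (odd_orderOf_zpow hr hr2 hyo i)
  rwa [← hab, h1, one_mul]

/-- Involutions in a 2-subgroup centralizing `u` are central in it. -/
theorem commute_invol {T : Subgroup Γ} (hT : IsPGroup 2 T) (hTL : T ≤ L) (hTu : T ≤ centralizer ({u} : Set Γ))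
    {c t : Γ} (hcT : c ∈ T) (htT : t ∈ T) (ht : t * t = 1) : c * t = t * c := by
  rcases mem_zpowers_invol ht (hL.conj_mem_zpowers hu hu2 hu1 hr hr2 hy hyo hc hT hTL hTu hcT htT) with e | e
  · rw [conj_eq_one_iff.1 e, mul_one, one_mul]
  · exact mul_inv_eq_iff_eq_mul.1 e

/-- If a conjugate of an involution centralizing `y` centralizes `y`, the conjugating element fixes `u`. -/
theorem mem_cent_of_conj {f g : Γ} (hfL : f ∈ L) (hf2 : f * f = 1) (hf1 : f ≠ 1) (hfy : f * y = y * f)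
    (hfy' : g * f * g⁻¹ * y = y * (g * f * g⁻¹)) : g ∈ centralizer ({u} : Set Γ) := by
  haveI := hL.normal
  have hC := hL.centralizer_eq hu hu2 hu1 hr hr2 hy hyo hc
  have h1 := hL.centralizer_eq hfL hf2 hf1 hr hr2 hy hyo hfy
  have h2 := hL.centralizer_eq (hL.normal.conj_mem f hfL g) (mul_self_conj hf2)
    (fun e => hf1 (conj_eq_one_iff.1 e)) hr hr2 hy hyo hfy'
  refine hL.mem_cent_of_normalizes hu hu2 hu1 fun h => ?_
  rw [mem_inf, mem_inf]
  refine and_congr ?_ ?_
  · conv_rhs => rw [hC, ← h2]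
    rw [conj_mem_cent, hC, h1]
  · refine ⟨fun hh => hL.normal.conj_mem h hh g, fun hh => ?_⟩
    simpa [mul_assoc] using hL.normal.conj_mem _ hh g⁻¹

theorem conj_inverts {g : Γ} (hg : g ∉ centralizer ({u} : Set Γ))
    (ht : g * u * g⁻¹ ∈ centralizer ({u} : Set Γ)) : g * u * g⁻¹ * y * (g * u * g⁻¹) = y⁻¹ :=
  inverts_of_not_commute hr hyo (mul_self_conj hu2) (hL.centralizer_eq hu hu2 hu1 hr hr2 hy hyo hc ▸ ht)
    fun e => hg (hL.mem_cent_of_conj hu hu2 hu1 hr hr2 hy hyo hc hu hu2 hu1 hc e)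

/-- A 2-subgroup centralizing `u` and normalized by an element moving `u` has three involutions. -/
theorem invol_cases {T : Subgroup Γ} (hT : IsPGroup 2 T) (hTL : T ≤ L) (hTu : T ≤ centralizer ({u} : Set Γ))
    (huT : u ∈ T) {g : Γ} (hgn : g ∈ normalizer (T : Set Γ)) (hg : g ∉ centralizer ({u} : Set Γ)) :
    ∀ f ∈ T, f * f = 1 → f ≠ 1 → f = u ∨ f = g * u * g⁻¹ ∨ f = u * (g * u * g⁻¹) := by
  haveI : Fact (Nat.Prime 2) := ⟨Nat.prime_two⟩
  set t := g * u * g⁻¹ with htdef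
  have htT : t ∈ T := (mem_normalizer_iff.1 hgn u).1 huT
  have ht2 : t * t = 1 := mul_self_conj hu2
  have htinv : t * y * t = y⁻¹ := hL.conj_inverts hu hu2 hu1 hr hr2 hy hyo hc hg (hTu htT)
  have hcm : ∀ a ∈ T, ∀ b ∈ T, b * b = 1 → a * b = b * a := fun a ha b hb h2 =>
    hL.commute_invol hu hu2 hu1 hr hr2 hy hyo hc hT hTL hTu ha hb h2
  have hC := hL.centralizer_eq hu hu2 hu1 hr hr2 hy hyo hc
  have hprod : ∀ a b : Γ, a * a = 1 → a * y * a = y⁻¹ → b * b = 1 → b * y * b = y⁻¹ →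
      a * b * y = y * (a * b) := by
    intro a b ha hay hb hby
    have hay' : a * y⁻¹ * a = y := by
      rw [← inv_inj, show (a * y⁻¹ * a)⁻¹ = a⁻¹ * y * a⁻¹ by group, inv_eq_self ha, hay]
    calc a * b * y = a * (b * y * b) * b := by
          rw [show a * (b * y * b) * b = a * b * y * (b * b) by group, hb, mul_one]
      _ = a * y⁻¹ * (a * a) * b := by rw [hby, ha, mul_one]
      _ = a * y⁻¹ * a * (a * b) := by group
      _ = y * (a * b) := by rw [hay']
  have honly : ∀ f ∈ T, f * f = 1 → f ≠ 1 → f * y = y * f → f = u := by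
    intro f hfT hf2 hf1 hfy
    by_contra hne
    have hfuT := T.mul_mem hfT huT
    have hfu2 := mul_self_mul hf2 hu2 (hcm f hfT u huT hu2)
    have hfu1 : f * u ≠ 1 := fun e => hne (by rw [← inv_eq_self hu2, eq_inv_of_mul_eq_one_left e])
    have hfuy : f * u * y = y * (f * u) := by rw [mul_assoc, hc, ← mul_assoc, hfy, mul_assoc]
    have hf'T : g * f * g⁻¹ ∈ T := (mem_normalizer_iff.1 hgn f).1 hfT
    by_cases hcy : g * f * g⁻¹ * y = y * (g * f * g⁻¹)
    · exact hg (hL.mem_cent_of_conj hu hu2 hu1 hr hr2 hy hyo hc (hTL hfT) hf2 hf1 hfy hcy)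
    · have hinv := inverts_of_not_commute hr hyo (mul_self_conj hf2) (hC ▸ hTu hf'T) hcy
      refine hg (hL.mem_cent_of_conj hu hu2 hu1 hr hr2 hy hyo hc (hTL hfuT) hfu2 hfu1 hfuy ?_)
      rw [show g * (f * u) * g⁻¹ = g * f * g⁻¹ * t by rw [htdef]; group]
      exact hprod _ _ (mul_self_conj hf2) hinv ht2 htinv
  intro f hfT hf2 hf1
  by_cases hfy : f * y = y * f
  · exact Or.inl (honly f hfT hf2 hf1 hfy)
  · right
    have hfinv := inverts_of_not_commute hr hyo hf2 (hC ▸ hTu hfT) hfy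
    have hft := hprod f t hf2 hfinv ht2 htinv
    have hft2 := mul_self_mul hf2 ht2 (hcm f hfT t htT ht2)
    by_cases hft1 : f * t = 1
    · exact Or.inl (by rw [eq_inv_of_mul_eq_one_left hft1, inv_eq_self ht2])
    · have h := honly _ (T.mul_mem hfT htT) hft2 hft1 hft
      exact Or.inr (by rw [← h, mul_assoc, ht2, mul_one])

end Setting

end Cfsg.Lib.MaxNorm
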