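import Cfsg.Agent.Lib.MaxNorm.CIT
import Cfsg.Agent.S0483
import Cfsg.Agent.Lib.CentreIndexFour.Simple
import Cfsg.Agent.Lib.Dickson.Maximal.FourCase
import Cfsg.Agent.Lib.Dickson.CentralizerCard
import Cfsg.Agent.Lib.Dickson.Involutions
import Cfsg.Agent.Lib.Dickson.Orders
import Cfsg.Agent.Lib.MinNonCA.PSL

/-!
# The socle is `PSL(2, 11)` or `PSL(2, 13)`
-/

set_option autoImplicit false
set_option linter.style.haveILetI false
set_option linter.unusedSectionVars false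

namespace Cfsg.Lib.MaxNorm

open Subgroup

universe u

variable {Γ : Type u} [Group Γ] [Finite Γ] {F : Type} [Field F] [Fintype F] {L : Subgroup Γ}

local notation "PSL2" => Matrix.ProjectiveSpecialLinearGroup (Fin 2) F

theorem card_of_four {S : Subgroup Γ} {u t : Γ} (huS : u ∈ S) (htS : t ∈ S) (hu2 : u * u = 1) (hu1 : u ≠ 1)
    (ht1 : t ≠ 1) (htu : t ≠ u) (hall : ∀ x ∈ S, x = 1 ∨ x = u ∨ x = t ∨ x = u * t) : Nat.card S = 4 := by
  have hut : u * t ≠ 1 := fun h => htu (by rw [← inv_eq_of_mul_eq_one_right h, inv_eq_self hu2])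
  let f : Fin 4 → S := ![1, ⟨u, huS⟩, ⟨t, htS⟩, ⟨u * t, S.mul_mem huS htS⟩]
  have h2 : u ≠ u * t := fun h => ht1 (left_eq_mul.1 h)
  have h3 : t ≠ u * t := fun h => hu1 (right_eq_mul.1 h)
  have hf : Function.Bijective f := by
    refine ⟨fun i j h => ?_, fun ⟨x, hx⟩ => ?_⟩
    · have h' := congrArg Subtype.val h
      fin_cases i <;> fin_cases j <;> simp [f] at h' ⊢ <;>
        first
          | exact hu1 h' | exact hu1 h'.symm | exact ht1 h' | exact ht1 h'.symm | exact hut h'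
          | exact hut h'.symm | exact htu h' | exact htu h'.symm | exact h2 h' | exact h2 h'.symm
          | exact h3 h' | exact h3 h'.symm
    · rcases hall x hx with h | h | h | h
      · exact ⟨0, Subtype.ext (by simp [f, h])⟩
      · exact ⟨1, Subtype.ext (by simp [f, h])⟩
      · exact ⟨2, Subtype.ext (by simp [f, h])⟩
      · exact ⟨3, Subtype.ext (by simp [f, h])⟩
  rw [← Nat.card_eq_of_bijective f hf, Nat.card_fin]

/-- The centralizer in `L` corresponds to the centralizer in the model. -/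
noncomputable def centEquiv {G : Type*} [Group G] (e : ↥L ≃* G) (v : ↥L) :
    ↥(centralizer ({(v : Γ)} : Set Γ) ⊓ L) ≃ ↥(centralizer ({e v} : Set G)) where
  toFun g := ⟨e ⟨g, (mem_inf.1 g.2).2⟩, mem_centralizer_singleton_iff.2 (by
    rw [← map_mul, ← map_mul]
    exact congrArg e (Subtype.ext (mem_cent.1 (mem_inf.1 g.2).1)))⟩
  invFun g := ⟨(e.symm g : ↥L), mem_inf.2 ⟨mem_cent.2 (congrArg Subtype.val (by
    have h := congrArg e.symm (mem_centralizer_singleton_iff.1 g.2)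
    rw [map_mul, map_mul, e.symm_apply_apply] at h
    exact h : e.symm g * v = v * e.symm g)), (e.symm g).2⟩⟩
  left_inv g := by ext; simp
  right_inv g := by ext; simp

theorem card_cent {G : Type*} [Group G] (e : ↥L ≃* G) (v : ↥L) :
    Nat.card ↥(centralizer ({(v : Γ)} : Set Γ) ⊓ L) = Nat.card ↥(centralizer ({e v} : Set G)) :=
  Nat.card_congr (centEquiv e v)

theorem card_dvd_of_sylow_le {C : Subgroup Γ} {m r : ℕ} (hm : m ∣ Nat.card C) (hr : r.Prime) {y : Γ}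
    (hy : orderOf y = r) (h : ∀ s ∈ C, (orderOf s).Coprime 2 → s ∈ zpowers y) (hodd : Odd m) : m ∣ r := by
  rw [Nat.dvd_iff_prime_pow_dvd_dvd]
  intro p k hp hpk
  haveI : Fact p.Prime := ⟨hp⟩
  rcases Nat.eq_zero_or_pos k with rfl | hk
  · simp
  obtain ⟨P, hP⟩ := Sylow.exists_subgroup_card_pow_prime p (hpk.trans hm)
  have hp2 : p ≠ 2 := by
    rintro rfl
    exact Nat.not_odd_iff_even.2 (even_iff_two_dvd.2 ((dvd_pow_self 2 hk.ne').trans hpk)) hodd
  have hle : P.map C.subtype ≤ zpowers y := by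
    rintro _ ⟨s, hs, rfl⟩
    refine h _ s.2 ?_
    rw [coe_subtype, Subgroup.orderOf_coe]
    refine Nat.Coprime.coprime_dvd_left (Subgroup.orderOf_dvd_natCard P hs) ?_
    rw [hP]
    exact ((Nat.coprime_primes hp Nat.prime_two).2 hp2).pow_left k
  have h1 := card_dvd_of_le hle
  rwa [Nat.card_congr (Subgroup.equivMapOfInjective P C.subtype (subtype_injective C)).symm.toEquiv, hP,
    Nat.card_zpowers, hy] at h1

theorem prime_pair_cases {q r r' : ℕ} (hq : q.Prime) (hr : r.Prime) (hr2 : r ≠ 2) (hr' : r'.Prime)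
    (h : (q = 4 * r + 1 ∧ r' = 2 * r + 1) ∨ (q + 1 = 4 * r ∧ r' + 1 = 2 * r)) : q = 11 ∨ q = 13 := by
  have hr0 := hr.two_le
  have hq3 : 3 ∣ q → q = 3 := fun hd => ((Nat.prime_dvd_prime_iff_eq Nat.prime_three hq).1 hd).symm
  have hr3 : 3 ∣ r → r = 3 := fun hd => ((Nat.prime_dvd_prime_iff_eq Nat.prime_three hr).1 hd).symm
  have hr'3 : 3 ∣ r' → r' = 3 := fun hd => ((Nat.prime_dvd_prime_iff_eq Nat.prime_three hr').1 hd).symm
  obtain h3 | h3 | h3 : r % 3 = 0 ∨ r % 3 = 1 ∨ r % 3 = 2 := by omega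
  · have := hr3 (Nat.dvd_of_mod_eq_zero h3)
    omega
  · exfalso
    rcases h with ⟨h1, h2⟩ | ⟨h1, h2⟩
    · have := hr'3 (by omega); omega
    · have := hq3 (by omega); omega
  · exfalso
    rcases h with ⟨h1, h2⟩ | ⟨h1, h2⟩
    · have := hq3 (by omega); omega
    · have := hr'3 (by omega); omega

namespace Setting

variable (hL : Setting L)
include hL

/-- The socle is `PSL(2, q)` with `q ≡ 3, 5 mod 8` and its Sylow 2-subgroups have order four. -/
theorem exists_psl : ∃ (F : Type) (_ : Field F) (_ : Fintype F), Odd (Fintype.card F) ∧ 3 < Fintype.card F ∧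
    Nonempty (↥L ≃* Matrix.ProjectiveSpecialLinearGroup (Fin 2) F) := by
  haveI : Fact (Nat.Prime 2) := ⟨Nat.prime_two⟩
  haveI := hL.simple
  obtain ⟨u, y, r, hu, hu2, hu1, hr, hr2, hy, hyo, hc⟩ := hL.exists_cent
  obtain ⟨S, t, hS, huS, htS, ht2, ht1, htu, hcomm, hall⟩ := hL.exists_four hu hu2 hu1 hr hr2 hy hyo hc
  have h4 : Nat.card (hS.sylow : Subgroup ↥L) = 4 := by
    rw [show (hS.sylow : Subgroup ↥L) = S.subgroupOf L from rfl, Nat.card_congr (subgroupOfEquivOfLe hS.le).toEquiv]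
    exact card_of_four huS htS hu2 hu1 ht1 htu hall
  have hsq : ∀ x : (hS.sylow : Subgroup ↥L), x * x = 1 := by
    intro x
    refine Subtype.ext (Subtype.ext ?_)
    show ((x : ↥L) : Γ) * ((x : ↥L) : Γ) = 1
    rcases hall _ (hS.mem_sylow.1 x.2) with h | h | h | h <;> rw [h]
    exacts [one_mul 1, hu2, ht2, mul_self_mul hu2 ht2 hcomm]
  haveI : IsKleinFour (hS.sylow : Subgroup ↥L) := by
    refine ⟨h4, ?_⟩
    refine Nat.dvd_antisymm (Monoid.exponent_dvd_of_forall_pow_eq_one fun x => by rw [pow_two, hsq]) ?_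
    have h1 : orderOf (⟨⟨u, hu⟩, hS.mem_sylow.2 huS⟩ : (hS.sylow : Subgroup ↥L)) = 2 :=
      orderOf_eq_prime (by rw [pow_two, hsq]) fun h => hu1 (congrArg (fun x : ↥(hS.sylow : Subgroup ↥L) => ((x : ↥L) : Γ)) h)
    have h2 := Monoid.order_dvd_exponent (⟨⟨u, hu⟩, hS.mem_sylow.2 huS⟩ : (hS.sylow : Subgroup ↥L))
    rwa [h1] at h2
  haveI : Group.IsPerfect ↥L := ⟨by
    rcases (inferInstance : (commutator ↥L).Normal).eq_bot_or_eq_top with h | h
    · exact absurd (Group.isSolvable_of_comm fun a b => commutatorElement_eq_one_iff_mul_comm.1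
        (mem_bot.1 (h ▸ commutator_mem_commutator (mem_top a) (mem_top b)))) hL.notSolvable
    · exact h⟩
  have hO : Cfsg.oddCore ↥L = ⊥ := CentreIndexFour.oddCore_eq_bot_of_involution (z := ⟨u, hu⟩) (by
    rw [← Subgroup.orderOf_coe]; exact orderOf_invol hu2 hu1)
  let q₀ : ↥L ⧸ Cfsg.oddCore ↥L ≃* ↥L := (QuotientGroup.quotientMulEquivOfEq hO).trans QuotientGroup.quotientBot
  rcases Cfsg.Agent.S0483.result hS.sylow 2 le_rfl (IsKleinFour.nonempty_mulEquiv) with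
    ⟨F, i, j, hodd, h3, ⟨e⟩⟩ | e
  · exact ⟨F, i, j, hodd, h3, ⟨q₀.symm.trans e⟩⟩
  · exfalso
    obtain ⟨e⟩ := e
    have hcard : Nat.card ↥L = 2520 := by
      rw [Nat.card_congr (q₀.symm.trans e).toEquiv, nat_card_alternatingGroup]
      simp [Nat.factorial]
    have h := hS.sylow.pow_dvd_card_of_pow_dvd_card (n := 3) (by rw [hcard]; norm_num)
    rw [h4] at h
    norm_num at h

variable (e : ↥L ≃* Matrix.ProjectiveSpecialLinearGroup (Fin 2) F)

/-- An odd-order element centralizing `y` lies in `⟨y⟩`. -/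
theorem odd_cent_le {u y x : Γ} {r : ℕ} (hu : u ∈ L) (hu2 : u * u = 1) (hu1 : u ≠ 1) (hr : r.Prime) (hr2 : r ≠ 2)
    (hy : y ∈ L) (hyo : orderOf y = r) (hc : u * y = y * u) (hx : x ∈ L) (hx2 : x * x = 1) (hx1 : x ≠ 1)
    (hxy : x * y * x⁻¹ = y⁻¹) {s : Γ} (hsL : s ∈ L) (hsy : s * y = y * s) (hso : (orderOf s).Coprime 2) :
    s ∈ zpowers y := by
  haveI : Fact (Nat.Prime 2) := ⟨Nat.prime_two⟩
  haveI : Fact r.Prime := ⟨hr⟩
  have hC := hL.centralizer_eq hu hu2 hu1 hr hr2 hy hyo hc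
  have hxN : x ∈ normalizer (zpowers y : Set Γ) := by
    rw [mem_normalizer_iff_map_conj_eq, MonoidHom.map_zpowers]
    show zpowers (x * y * x⁻¹) = zpowers y
    rw [hxy, zpowers_inv]
  have hxu : x ∈ centralizer ({u} : Set Γ) := hC ▸ hxN
  have hV : IsPGroup 2 (zpowers x) := isPGroup_zpowers_invol hx2 hx1
  have hcy : s ∈ normalizer (zpowers y : Set Γ) := by
    rw [mem_normalizer_iff_map_conj_eq, MonoidHom.map_zpowers]
    show zpowers (s * y * s⁻¹) = zpowers y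
    rw [hsy, mul_inv_cancel_right]
  have h1 := (mem_normalizer_iff.1 (hL.cent_le_normalizer_sup hu hu2 hu1 hr hr2 hy hyo hc hV (zpowers_le.2 hx)
    (zpowers_le.2 hxu) (hC ▸ hcy)) x).1 (mem_sup_right (mem_zpowers x))
  have hxY : zpowers x ≤ normalizer (zpowers y : Set Γ) := zpowers_le.2 hxN
  have h2 : s * x * s⁻¹ ∈ ((zpowers y ⊔ zpowers x : Subgroup Γ) : Set Γ) := h1
  rw [coe_mul_of_right_le_normalizer_left _ _ hxY] at h2
  obtain ⟨p, hp, w, hw, hpw⟩ := Set.mem_mul.1 h2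
  rcases mem_zpowers_invol hx2 hw with h | h
  · exfalso
    rw [h, mul_one] at hpw
    have h3 : orderOf p ∣ r := hyo ▸ orderOf_dvd_of_mem_zpowers hp
    rw [hpw, orderOf_conj, orderOf_invol hx2 hx1, Nat.prime_dvd_prime_iff_eq Nat.prime_two hr] at h3
    exact hr2 h3.symm
  rw [h] at hpw
  -- halve the translation
  obtain ⟨i, rfl⟩ := mem_zpowers_iff.1 hp
  obtain ⟨j, hj⟩ : ∃ j : ℤ, (r : ℤ) ∣ i + 2 * j := by
    obtain ⟨m, hm⟩ := hr.odd_of_ne_two hr2
    exact ⟨i * m, i, by rw [hm]; push_cast; ring⟩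
  obtain ⟨d, hd⟩ : ∃ d, d = y ^ j * s := ⟨_, rfl⟩
  have hdy : Commute d y := hd ▸ (Commute.zpow_self y j).mul_left hsy
  have hdx : d * x = x * d := by
    rw [← mul_inv_eq_iff_eq_mul, hd, show y ^ j * s * x * (y ^ j * s)⁻¹ = y ^ j * (s * x * s⁻¹) * (y ^ j)⁻¹ by group,
      ← hpw]
    have h4 : x * (y ^ j)⁻¹ = y ^ j * x := by
      rw [← zpow_neg]
      refine mul_inv_eq_iff_eq_mul.1 ?_
      rw [← conj_zpow, hxy, inv_zpow', neg_neg]
    rw [mul_assoc, mul_assoc, h4, ← mul_assoc, ← mul_assoc, ← zpow_add, ← zpow_add,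
      show j + i + j = i + 2 * j by ring, ← hyo] at *
    rw [orderOf_dvd_iff_zpow_eq_one.1 hj, one_mul]
  have hd1 : d = 1 := by
    by_contra hne
    obtain ⟨p, hp, hpd⟩ := Nat.exists_prime_and_dvd (fun h => hne (orderOf_eq_one_iff.1 h))
    have hdodd : ¬ 2 ∣ orderOf d := by
      intro h2'
      have h5 : orderOf d ∣ Nat.lcm (orderOf (y ^ j)) (orderOf s) :=
        hd ▸ ((show Commute s y from hsy).symm.zpow_left j).orderOf_mul_dvd_lcm
      have h6 := (Nat.prime_two.dvd_mul).1 ((h2'.trans h5).trans (Nat.lcm_dvd_mul _ _))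
      rcases h6 with h6 | h6
      · have := h6.trans (hyo ▸ orderOf_dvd_of_mem_zpowers (zpow_mem (mem_zpowers y) j))
        exact hr2 ((Nat.prime_dvd_prime_iff_eq Nat.prime_two hr).1 this).symm
      · exact (Nat.prime_two.coprime_iff_not_dvd.1 hso.symm) h6
    have hp2 : p ≠ 2 := fun h => hdodd (h ▸ hpd)
    obtain ⟨z, hz, hzo⟩ : ∃ z ∈ zpowers d, orderOf z = p :=
      ⟨d ^ (orderOf d / p), pow_mem (mem_zpowers d) _, orderOf_pow_orderOf_div (orderOf_pos d).ne' hpd⟩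
    have hdL : d ∈ L := hd ▸ L.mul_mem (L.zpow_mem hy j) hsL
    have hdN : d ∈ normalizer (zpowers y : Set Γ) := hd ▸ mul_mem (zpow_mem (le_normalizer (mem_zpowers y)) j) hcy
    obtain ⟨k, rfl⟩ := mem_zpowers_iff.1 hz
    have hzu : u * d ^ k = d ^ k * u :=
      (mem_cent.1 (zpow_mem (hC.symm ▸ hdN : d ∈ centralizer ({u} : Set Γ)) k)).symm
    have hzx : x * d ^ k = d ^ k * x := ((show Commute x d from hdx.symm).zpow_right k).eq
    have e1 := hL.centralizer_eq hu hu2 hu1 hp hp2 (L.zpow_mem hdL k) hzo hzu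
    have e2 := hL.centralizer_eq hx hx2 hx1 hp hp2 (L.zpow_mem hdL k) hzo hzx
    have h7 : y ∈ centralizer ({x} : Set Γ) := (e1.trans e2.symm) ▸ mem_cent.2 hc.symm
    have h8 : y ^ 2 = 1 := by
      rw [pow_two, mul_eq_one_iff_eq_inv]
      exact (mul_inv_eq_iff_eq_mul.2 (mem_cent.1 h7).symm).symm.trans hxy
    have h9 := orderOf_dvd_of_pow_eq_one h8
    rw [hyo, Nat.prime_dvd_prime_iff_eq hr Nat.prime_two] at h9
    exact hr2 h9
  have hs : s = y ^ (-j) := by
    rw [zpow_neg]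
    exact (inv_eq_of_mul_eq_one_right (hd.symm.trans hd1)).symm
  exact hs ▸ zpow_mem (mem_zpowers y) _

include e in
/-- The field is prime of order eleven or thirteen. -/
theorem card_field (hodd : Odd (Fintype.card F)) (h3 : 3 < Fintype.card F) :
    Fintype.card F = 11 ∨ Fintype.card F = 13 := by
  classical
  haveI : Fact (Nat.Prime 2) := ⟨Nat.prime_two⟩
  haveI := hL.simple
  haveI := hL.normal
  obtain ⟨p, hpp, hp, n, hn0, hn⟩ := Cfsg.Lib.Dickson.exists_char (F := F)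
  haveI := Fact.mk hpp
  have hp2 : p ≠ 2 := fun h => by
    rw [hn, h] at hodd
    exact Nat.not_odd_iff_even.2 (even_two.pow_of_ne_zero (by omega)) hodd
  have hq2 : Fintype.card F % 2 = 1 := Nat.odd_iff.1 hodd
  have hcardP := Cfsg.Lib.Dickson.two_mul_card_psl (F := F) hq2
  have hgcd : Nat.gcd 2 (Fintype.card F - 1) = 2 := Nat.gcd_eq_left (by omega)
  have hLcard : Nat.card ↥L = Nat.card PSL2 := Nat.card_congr e.toEquiv
  -- the field is prime
  have hprime : Fintype.card F = p := by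
    obtain ⟨P⟩ : Nonempty (Sylow p PSL2) := inferInstance
    have hPc := Cfsg.Lib.Dickson.card_sylow_psl p P
    obtain ⟨x, hx⟩ := exists_prime_orderOf_dvd_card' (G := ↥(P : Subgroup PSL2)) p
      (by rw [hPc, hn]; exact dvd_pow_self p (by omega))
    rw [← Subgroup.orderOf_coe] at hx
    have hx1 : (x : PSL2) ≠ 1 := ne_one_of_orderOf_prime hx hpp
    have hCP := Cfsg.Lib.Dickson.centralizer_eq_sylow p P x.2 hx1
    obtain ⟨v, hv⟩ : ∃ v : ↥L, v = e.symm x := ⟨_, rfl⟩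
    have hev : e v = x := by rw [hv, e.apply_symm_apply]
    have hvo : orderOf (v : Γ) = p := by rw [Subgroup.orderOf_coe, ← hx, ← hev, MulEquiv.orderOf_eq]
    obtain ⟨U, hU⟩ : ∃ U, U = centralizer ({(v : Γ)} : Set Γ) ⊓ L := ⟨_, rfl⟩
    have hUc : Nat.card U = p ^ n := by rw [hU, card_cent e v, hev, hCP, hPc, hn]
    have hUp : IsPGroup p U := IsPGroup.of_card hUc
    have hV : IsPGroup p (zpowers (v : Γ)) := isPGroup_zpowers (k := 1) (by rw [hvo, pow_one])
    have hV1 : zpowers (v : Γ) ≠ ⊥ := zpowers_ne_bot' (ne_one_of_orderOf_prime hvo hpp)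
    have hle : normalizer (zpowers (v : Γ) : Set Γ) ≤ normalizer (U : Set Γ) := by
      have key : ∀ g ∈ normalizer (zpowers (v : Γ) : Set Γ), ∀ h ∈ U, g * h * g⁻¹ ∈ U := by
        intro g hg h hh
        rw [hU, mem_inf, mem_cent] at hh ⊢
        refine ⟨?_, hL.normal.conj_mem h hh.2 g⟩
        obtain ⟨i, hi⟩ := mem_zpowers_iff.1 ((mem_normalizer_iff.1 (inv_mem hg) v).1 (mem_zpowers _))
        rw [inv_inv] at hi
        have hcm : Commute h (g⁻¹ * v * g) := hi ▸ (show Commute h (v : Γ) from hh.1).zpow_right i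
        calc g * h * g⁻¹ * v = g * (h * (g⁻¹ * v * g)) * g⁻¹ := by group
          _ = g * (g⁻¹ * v * g * h) * g⁻¹ := by rw [hcm.eq]
          _ = v * (g * h * g⁻¹) := by group
      intro g hg
      rw [mem_normalizer_iff]
      refine fun h => ⟨key g hg h, fun hh => ?_⟩
      simpa [mul_assoc] using key g⁻¹ (inv_mem hg) _ hh
    have hU1 : U ≠ ⊥ := fun h => ne_one_of_orderOf_prime hvo hpp
      (mem_bot.1 (h ▸ (hU ▸ mem_inf.2 ⟨mem_cent.2 rfl, v.2⟩ : (v : Γ) ∈ U)))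
    have hN := hL.eq_of_le (zpowers_le.2 v.2) hV1 (twoPrimes_of_pGroup hV) (hU ▸ inf_le_right) hU1
      (twoPrimes_of_pGroup hUp) hle
    -- conjugates of `x` in its Sylow normalizer
    obtain ⟨W, hW⟩ : ∃ W, W = normalizer ((P : Subgroup PSL2) : Set PSL2) := ⟨_, rfl⟩
    have hWmem : ∀ g ∈ W, g * (x : PSL2) * g⁻¹ ∈ zpowers (x : PSL2) := by
      intro g hg
      have hgU : ((e.symm g : ↥L) : Γ) ∈ normalizer (U : Set Γ) := by
        have key : ∀ g ∈ W, ∀ h ∈ U, ((e.symm g : ↥L) : Γ) * h * ((e.symm g : ↥L) : Γ)⁻¹ ∈ U := by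
          intro g hg h hh
          rw [hU, mem_inf] at hh ⊢
          refine ⟨?_, hL.normal.conj_mem h hh.2 _⟩
          have h1 : e ⟨h, hh.2⟩ ∈ (P : Subgroup PSL2) := by
            rw [← hCP, mem_centralizer_singleton_iff, ← hev, ← map_mul, ← map_mul]
            exact congrArg e (Subtype.ext (mem_cent.1 hh.1))
          have h2 : g * e ⟨h, hh.2⟩ * g⁻¹ ∈ (P : Subgroup PSL2) := (mem_normalizer_iff.1 (hW ▸ hg) _).1 h1
          rw [← hCP, mem_centralizer_singleton_iff] at h2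
          have h3 := congrArg e.symm h2
          simp only [map_mul, map_inv, e.symm_apply_apply] at h3
          rw [← hv] at h3
          exact mem_cent.2 (congrArg Subtype.val h3)
        rw [mem_normalizer_iff]
        refine fun h => ⟨key g hg h, fun hh => ?_⟩
        simpa [mul_assoc] using key g⁻¹ (inv_mem hg) _ hh
      rw [← hN, mem_normalizer_iff] at hgU
      obtain ⟨i, hi⟩ := mem_zpowers_iff.1 ((hgU v).1 (mem_zpowers _))
      refine mem_zpowers_iff.2 ⟨i, ?_⟩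
      have h4 := congrArg e (show v ^ i = e.symm g * v * (e.symm g)⁻¹ from Subtype.ext (by
        simpa using hi))
      rwa [map_zpow, map_mul, map_mul, map_inv, hev, e.apply_symm_apply] at h4
    -- count
    let f : W → {w : zpowers (x : PSL2) // w ≠ 1} := fun g => ⟨⟨_, hWmem g g.2⟩, fun h =>
      hx1 (conj_eq_one_iff.1 (congrArg Subtype.val h))⟩
    have hex : ∀ g : W, ∃ g₀ : W, f g₀ = f g := fun g => ⟨g, rfl⟩
    let F' : W → {w : zpowers (x : PSL2) // w ≠ 1} × ↥(centralizer ({(x : PSL2)} : Set PSL2)) := fun g =>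
      (f g, ⟨((Function.invFun f (f g) : W) : PSL2)⁻¹ * g, mem_centralizer_singleton_iff.2 (by
        have h1 := Function.invFun_eq (f := f) (hex g)
        have h2 : ((Function.invFun f (f g) : W) : PSL2) * x * ((Function.invFun f (f g) : W) : PSL2)⁻¹ =
            (g : PSL2) * x * (g : PSL2)⁻¹ := congrArg (fun w => ((w.1 : zpowers (x : PSL2)) : PSL2)) h1
        have h3 : ∀ a b c : PSL2, a * c * a⁻¹ = b * c * b⁻¹ → a⁻¹ * b * c = c * (a⁻¹ * b) := by
          intro a b c h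
          calc a⁻¹ * b * c = a⁻¹ * (b * c * b⁻¹) * b := by group
            _ = c * (a⁻¹ * b) := by rw [← h]; group
        exact h3 _ _ _ h2)⟩)
    have hF : Function.Injective F' := by
      intro a b hab
      have h1 := (Prod.ext_iff.1 hab).1
      have h2 := congrArg Subtype.val (Prod.ext_iff.1 hab).2
      change ((Function.invFun f (f a) : W) : PSL2)⁻¹ * a = ((Function.invFun f (f b) : W) : PSL2)⁻¹ * b at h2
      rw [show f a = f b from h1, mul_right_inj] at h2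
      exact Subtype.ext h2
    have hWc := Nat.card_le_card_of_injective F' hF
    have hsub : Nat.card {w : zpowers (x : PSL2) // w ≠ 1} = p - 1 := by
      haveI := Fintype.ofFinite (zpowers (x : PSL2))
      rw [Nat.card_eq_fintype_card, Fintype.card_subtype_compl, Fintype.card_subtype_eq,
        ← Nat.card_eq_fintype_card, Nat.card_zpowers, hx]
    rw [Nat.card_prod, hsub, hCP, hPc] at hWc
    have hW2 := Cfsg.Lib.Dickson.card_normalizer_sylow_psl p P
    rw [hgcd, ← hW] at hW2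
    have h5 : Fintype.card F * (Fintype.card F - 1) ≤ 2 * ((p - 1) * Fintype.card F) := hW2 ▸ Nat.mul_le_mul_left 2 hWc
    rw [mul_comm (p - 1), ← mul_assoc, mul_comm 2, mul_assoc] at h5
    have h6 := Nat.le_of_mul_le_mul_left h5 (by omega)
    by_contra hne
    have h7 : 2 ≤ n := by
      by_contra h'
      exact hne (by rw [hn, show n = 1 by omega, pow_one])
    have h8 : p * p ≤ Fintype.card F := by
      rw [hn, ← pow_two]; exact Nat.pow_le_pow_right hpp.pos h7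
    have h9 : 3 * p ≤ p * p := Nat.mul_le_mul_right p (by have := hpp.two_le; omega)
    omega
  have hqp : (Fintype.card F).Prime := hprime ▸ hpp
  -- an involution with a non-2-group centralizer
  obtain ⟨u, y, r, hu, hu2, hu1, hr, hr2, hy, hyo, hc⟩ := hL.exists_cent
  obtain ⟨S, t, hS, huS, htS, ht2, ht1, htu, -, hall⟩ := hL.exists_four hu hu2 hu1 hr hr2 hy hyo hc
  have h4 : Nat.card (hS.sylow : Subgroup ↥L) = 4 := by
    rw [show (hS.sylow : Subgroup ↥L) = S.subgroupOf L from rfl, Nat.card_congr (subgroupOfEquivOfLe hS.le).toEquiv]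
    exact card_of_four huS htS hu2 hu1 ht1 htu hall
  have h8 : ¬ 8 ∣ Nat.card ↥L := fun h8 => by
    have h := hS.sylow.pow_dvd_card_of_pow_dvd_card (n := 3) h8
    rw [h4] at h
    norm_num at h
  obtain ⟨q, hq⟩ : ∃ q, q = Fintype.card F := ⟨_, rfl⟩
  rw [← hq] at hqp hcardP hgcd hprime hq2 h3 hn
  have hq5 : 5 ≤ q := by omega
  -- centralizers of elements of odd prime order
  have hcent : ∀ v : ↥L, ∀ s : ℕ, s.Prime → s ≠ 2 → s ≠ p → orderOf (v : Γ) = s →
      (Nat.card ↥(centralizer ({(v : Γ)} : Set Γ) ⊓ L) = (q + 1) / 2 ∧ s ∣ (q + 1) / 2) ∨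
      (Nat.card ↥(centralizer ({(v : Γ)} : Set Γ) ⊓ L) = (q - 1) / 2 ∧ s ∣ (q - 1) / 2) := by
    intro v s hs hs2 hsp hvs
    have ho : orderOf (e v) = s := by rw [MulEquiv.orderOf_eq, ← Subgroup.orderOf_coe, hvs]
    have hsq : e v ^ 2 ≠ 1 := fun h => by
      have h' := orderOf_dvd_of_pow_eq_one h
      rw [ho, Nat.prime_dvd_prime_iff_eq hs Nat.prime_two] at h'
      exact hs2 h'
    have hnp : ¬ p ∣ orderOf (e v) := by
      rw [ho, Nat.prime_dvd_prime_iff_eq hpp hs]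
      exact fun h => hsp h.symm
    have := Cfsg.Lib.Dickson.card_centralizer_semisimple (by rw [← hq]; omega) p hsq hnp
    rwa [← hq, hgcd, ← card_cent e v, ho] at this
  -- inverting involutions
  have hinv : ∀ v : ↥L, ∀ s : ℕ, s.Prime → s ≠ 2 → s ≠ p → orderOf (v : Γ) = s →
      ∃ x : Γ, x ∈ L ∧ x * x = 1 ∧ x ≠ 1 ∧ x * v * x⁻¹ = (v : Γ)⁻¹ := by
    intro v s hs hs2 hsp hvs
    obtain ⟨g, hg⟩ := QuotientGroup.mk_surjective (e v)
    have ho : orderOf (e v) = s := by rw [MulEquiv.orderOf_eq, ← Subgroup.orderOf_coe, hvs]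
    have hgp : (QuotientGroup.mk g : PSL2) ^ p ≠ 1 := fun h => by
      rw [hg] at h
      have h' := orderOf_dvd_of_pow_eq_one h
      rw [ho, Nat.prime_dvd_prime_iff_eq hs hpp] at h'
      exact hsp h'
    obtain ⟨w, hw2, hw⟩ := Cfsg.Lib.Dickson.exists_inverting p g hgp
    rw [hg] at hw
    refine ⟨(e.symm w : ↥L), (e.symm w).2, ?_, fun h => ?_, ?_⟩
    · exact congrArg Subtype.val (show e.symm w * e.symm w = 1 by rw [← map_mul, hw2, map_one])
    · have h1 : w = 1 := e.symm.injective (by rw [map_one]; exact Subtype.ext h)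
      rw [h1, one_mul, inv_one, mul_one] at hw
      have h2 := orderOf_dvd_of_pow_eq_one (show e v ^ 2 = 1 by rw [pow_two]; exact mul_eq_one_iff_eq_inv.2 hw)
      rw [ho, Nat.prime_dvd_prime_iff_eq hs Nat.prime_two] at h2
      exact hs2 h2
    · exact congrArg Subtype.val (show e.symm w * v * (e.symm w)⁻¹ = v⁻¹ from
        e.injective (by simp only [map_mul, map_inv, e.apply_symm_apply, hw]))
  -- the order of `y`
  have hcy : u ∈ centralizer ({y} : Set Γ) ⊓ L := mem_inf.2 ⟨mem_cent.2 hc, hu⟩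
  have hrp : r ≠ p := by
    intro hrp
    have hc' : Nat.card ↥(centralizer ({y} : Set Γ) ⊓ L) = q := by
      rw [card_cent e (⟨y, hy⟩ : ↥L), Cfsg.Lib.Dickson.card_centralizer_unipotent p (by
        rw [MulEquiv.orderOf_eq, ← Subgroup.orderOf_coe, hyo, hrp]), hq]
    have h2 := Subgroup.orderOf_dvd_natCard _ hcy
    rw [orderOf_invol hu2 hu1, hc'] at h2
    omega
  obtain ⟨x, hxL, hx2, hx1, hxy⟩ := hinv ⟨y, hy⟩ r hr hr2 hrp hyo
  have hk2 : 2 ∣ Nat.card ↥(centralizer ({y} : Set Γ) ⊓ L) :=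
    orderOf_invol hu2 hu1 ▸ Subgroup.orderOf_dvd_natCard _ hcy
  have hmr : ∀ m, Odd m → m ∣ Nat.card ↥(centralizer ({y} : Set Γ) ⊓ L) → m ∣ r := fun m hm hd =>
    card_dvd_of_sylow_le hd hr hyo (fun s hs hso =>
      hL.odd_cent_le hu hu2 hu1 hr hr2 hy hyo hc hxL hx2 hx1 hxy (mem_inf.1 hs).2 (mem_cent.1 (mem_inf.1 hs).1) hso)
      hm
  have h8' : ¬ 16 ∣ q * (q ^ 2 - 1) := fun h => h8 (by
    rw [hLcard]
    rw [← hcardP] at h
    exact Nat.dvd_of_mul_dvd_mul_left two_pos h)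
  have hmod : q % 8 = 3 ∨ q % 8 = 5 := by
    by_contra hne
    refine h8' (Dvd.dvd.mul_left ?_ q)
    have hsq' : q ^ 2 - 1 = (q + 1) * (q - 1) := by
      rw [show q ^ 2 - 1 = q ^ 2 - 1 ^ 2 by norm_num]; exact Nat.sq_sub_sq q 1
    rw [hsq']
    rcases (show q % 8 = 1 ∨ q % 8 = 7 by omega) with h | h
    · exact (show 2 * 8 = 16 by norm_num) ▸ Nat.mul_dvd_mul (by omega) (by omega)
    · exact (show 8 * 2 = 16 by norm_num) ▸ Nat.mul_dvd_mul (by omega) (by omega)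
  -- both torus orders are small
  have hq7 : ∀ a : ℕ, Odd a → a ∣ r → r ∣ a → a = r := fun a _ h1 h2 => Nat.dvd_antisymm h1 h2
  have hcases : (q = 4 * r + 1) ∨ (q + 1 = 4 * r) := by
    rcases hcent ⟨y, hy⟩ r hr hr2 hrp hyo with ⟨hk, hrd⟩ | ⟨hk, hrd⟩
    · rw [hk] at hk2 hmr
      right
      obtain ⟨m, hm⟩ := hk2
      have hm2 : Odd m := by rw [Nat.odd_iff]; omega
      have h1 := hmr m hm2 ⟨2, by omega⟩
      have h2 : r ∣ m := (Nat.Coprime.dvd_mul_left ((Nat.coprime_primes hr Nat.prime_two).2 hr2)).1 (hm ▸ hrd)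
      have := hq7 m hm2 h1 h2
      omega
    · rw [hk] at hk2 hmr
      left
      obtain ⟨m, hm⟩ := hk2
      have hm2 : Odd m := by rw [Nat.odd_iff]; omega
      have h1 := hmr m hm2 ⟨2, by omega⟩
      have h2 : r ∣ m := (Nat.Coprime.dvd_mul_left ((Nat.coprime_primes hr Nat.prime_two).2 hr2)).1 (hm ▸ hrd)
      have := hq7 m hm2 h1 h2
      omega
  -- the other torus
  obtain ⟨o, ho⟩ : ∃ o, (q = 4 * r + 1 ∧ o = 2 * r + 1) ∨ (q + 1 = 4 * r ∧ o + 1 = 2 * r) := by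
    rcases hcases with h | h
    · exact ⟨2 * r + 1, Or.inl ⟨h, rfl⟩⟩
    · exact ⟨2 * r - 1, Or.inr ⟨h, by have := hr.two_le; omega⟩⟩
  have hro := hr.two_le
  obtain ⟨r', hr', hr'd⟩ := Nat.exists_prime_and_dvd (show o ≠ 1 by omega)
  have hr'2 : r' ≠ 2 := by rintro rfl; omega
  have hr'le : r' ≤ o := Nat.le_of_dvd (by omega) hr'd
  have hr'p : r' ≠ p := by omega
  have hoL : o ∣ Nat.card ↥L := by
    rw [hLcard]
    refine Nat.Coprime.dvd_of_dvd_mul_left (show Nat.Coprime o 2 from ?_) (hcardP ▸ Dvd.dvd.mul_left ?_ q)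
    · exact (Nat.coprime_two_right.2 (by rw [Nat.odd_iff]; omega))
    · have hsq' : q ^ 2 - 1 = (q + 1) * (q - 1) := by
        rw [show q ^ 2 - 1 = q ^ 2 - 1 ^ 2 by norm_num]; exact Nat.sq_sub_sq q 1
      rw [hsq']
      rcases ho with ⟨h, h'⟩ | ⟨h, h'⟩
      · exact Dvd.dvd.mul_right ⟨2, by omega⟩ _
      · exact Dvd.dvd.mul_left ⟨2, by omega⟩ _
  haveI := Fact.mk hr'
  obtain ⟨v, hv⟩ := exists_prime_orderOf_dvd_card' (G := ↥L) r' (hr'd.trans hoL)
  rw [← Subgroup.orderOf_coe] at hv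
  obtain ⟨x', hx'L, hx'2, hx'1, hx'v⟩ := hinv v r' hr' hr'2 hr'p hv
  have hko : Nat.card ↥(centralizer ({(v : Γ)} : Set Γ) ⊓ L) = o := by
    rcases hcent v r' hr' hr'2 hr'p hv with ⟨hk, hd⟩ | ⟨hk, hd⟩ <;> rcases ho with ⟨h, h'⟩ | ⟨h, h'⟩
    · omega
    · exfalso
      have h1 : r' ∣ o + 1 := by rw [show o + 1 = (q + 1) / 2 by omega]; exact hd
      exact hr'.not_dvd_one ((Nat.dvd_add_right hr'd).1 h1)
    · exfalso
      have h1 : r' ∣ (q - 1) / 2 + 1 := by rw [show (q - 1) / 2 + 1 = o by omega]; exact hr'd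
      exact hr'.not_dvd_one ((Nat.dvd_add_right hd).1 h1)
    · omega
  have hkx : Nat.card ↥(centralizer ({x'} : Set Γ) ⊓ L) = 4 * r := by
    have := card_cent e (⟨x', hx'L⟩ : ↥L)
    rw [this]
    have h1 : e ⟨x', hx'L⟩ ^ 2 = 1 := by rw [pow_two, ← map_mul]; exact e.map_eq_one_iff.2 (Subtype.ext hx'2)
    have h2 : e ⟨x', hx'L⟩ ≠ 1 := fun h => hx'1 (congrArg Subtype.val (e.map_eq_one_iff.1 h))
    obtain ⟨c1, c3⟩ := Cfsg.Lib.Dickson.card_centralizer_involution (by rw [← hq]; exact hq2) (by rw [← hq]; omega) h1 h2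
    rw [← hq] at c1 c3
    rcases ho with ⟨h, h'⟩ | ⟨h, h'⟩
    · rw [c1 (by omega)]; omega
    · rw [c3 (by omega)]; omega
  -- the centralizer of `v` is `⟨v⟩`
  have hcop : o.Coprime (4 * r) := by
    refine Nat.Coprime.mul_right ?_ ?_
    · rw [show 4 = 2 ^ 2 by norm_num]
      exact (Nat.coprime_two_right.2 (by rw [Nat.odd_iff]; omega)).pow_right 2
    · refine (hr.coprime_iff_not_dvd.2 fun hd => ?_).symm
      rcases ho with ⟨h, h'⟩ | ⟨h, h'⟩
      · rw [h'] at hd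
        exact hr.not_dvd_one ((Nat.dvd_add_right (dvd_mul_left r 2)).1 hd)
      · have h1 : r ∣ o + 1 := h' ▸ dvd_mul_left r 2
        exact hr.not_dvd_one ((Nat.dvd_add_right hd).1 h1)
  have hle : centralizer ({(v : Γ)} : Set Γ) ⊓ L ≤ zpowers (v : Γ) := by
    intro s hs
    haveI : Fact r'.Prime := ⟨hr'⟩
    have hY : IsPGroup r' (zpowers (v : Γ)) := isPGroup_zpowers (k := 1) (by rw [hv, pow_one])
    have hY1 : zpowers (v : Γ) ≠ ⊥ := zpowers_ne_bot' (ne_one_of_orderOf_prime hv hr')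
    have hxN : x' ∈ normalizer (zpowers (v : Γ) : Set Γ) := by
      rw [mem_normalizer_iff_map_conj_eq, MonoidHom.map_zpowers]
      show zpowers (x' * v * x'⁻¹) = zpowers (v : Γ)
      rw [hx'v, zpowers_inv]
    have hxY : zpowers x' ≤ normalizer (zpowers (v : Γ) : Set Γ) := zpowers_le.2 hxN
    have hX : IsPGroup 2 (zpowers x') := isPGroup_zpowers_invol hx'2 hx'1
    have hEq := hL.eq_of_le (X := zpowers (v : Γ) ⊔ zpowers x') (sup_le (zpowers_le.2 v.2) (zpowers_le.2 hx'L))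
      (fun h => hY1 (le_bot_iff.1 (h ▸ le_sup_left))) (twoPrimes_sup hY hX hxY) (zpowers_le.2 v.2) hY1
      (twoPrimes_of_pGroup hY) (normalizer_sup_le hr'2 hY hX hxY)
    have hsv := mem_cent.1 (mem_inf.1 hs).1
    have hsN : s ∈ normalizer (zpowers (v : Γ) : Set Γ) := by
      rw [mem_normalizer_iff_map_conj_eq, MonoidHom.map_zpowers]
      show zpowers (s * v * s⁻¹) = zpowers (v : Γ)
      rw [hsv, mul_inv_cancel_right]
    have h2 : s * x' * s⁻¹ ∈ ((zpowers (v : Γ) ⊔ zpowers x' : Subgroup Γ) : Set Γ) :=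
      (mem_normalizer_iff.1 (hEq.symm ▸ hsN) x').1 (mem_sup_right (mem_zpowers x'))
    rw [coe_mul_of_right_le_normalizer_left _ _ hxY] at h2
    obtain ⟨a, ha, w, hw, haw⟩ := Set.mem_mul.1 h2
    rcases mem_zpowers_invol hx'2 hw with h | h
    · exfalso
      rw [h, mul_one] at haw
      have h3 : orderOf a ∣ r' := hv ▸ orderOf_dvd_of_mem_zpowers ha
      rw [haw, orderOf_conj, orderOf_invol hx'2 hx'1, Nat.prime_dvd_prime_iff_eq Nat.prime_two hr'] at h3
      exact hr'2 h3.symm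
    rw [h] at haw
    obtain ⟨i, rfl⟩ := mem_zpowers_iff.1 ha
    obtain ⟨j, hj⟩ : ∃ j : ℤ, (r' : ℤ) ∣ i + 2 * j := by
      obtain ⟨m, hm⟩ := hr'.odd_of_ne_two hr'2
      exact ⟨i * m, i, by rw [hm]; push_cast; ring⟩
    have hj1 : (v : Γ) ^ (j + i + j) = 1 := by
      rw [show j + i + j = i + 2 * j by ring, ← orderOf_dvd_iff_zpow_eq_one, hv]; exact hj
    obtain ⟨d, hd⟩ : ∃ d, d = (v : Γ) ^ j * s := ⟨_, rfl⟩
    have hdx : d * x' = x' * d := by
      rw [← mul_inv_eq_iff_eq_mul, hd,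
        show (v : Γ) ^ j * s * x' * ((v : Γ) ^ j * s)⁻¹ = (v : Γ) ^ j * (s * x' * s⁻¹) * ((v : Γ) ^ j)⁻¹ by group, ← haw]
      have h4 : x' * ((v : Γ) ^ j)⁻¹ = (v : Γ) ^ j * x' := by
        rw [← zpow_neg]
        refine mul_inv_eq_iff_eq_mul.1 ?_
        rw [← conj_zpow, hx'v, inv_zpow', neg_neg]
      rw [mul_assoc, mul_assoc, h4, ← mul_assoc, ← mul_assoc, ← zpow_add, ← zpow_add, hj1, one_mul]
    have hdL : d ∈ L := hd ▸ L.mul_mem (L.zpow_mem v.2 j) (mem_inf.1 hs).2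
    have hdv : d * (v : Γ) = v * d := hd ▸ (((Commute.zpow_self (v : Γ) j).mul_left hsv) : Commute _ _).eq
    have hd1 : d = 1 := orderOf_eq_one_iff.1 (Nat.eq_one_of_dvd_one (hcop ▸ Nat.dvd_gcd
      (hko ▸ Subgroup.orderOf_dvd_natCard _ (mem_inf.2 ⟨mem_cent.2 hdv, hdL⟩))
      (hkx ▸ Subgroup.orderOf_dvd_natCard _ (mem_inf.2 ⟨mem_cent.2 hdx, hdL⟩))))
    have hs' : s = ((v : Γ) ^ j)⁻¹ := (inv_eq_of_mul_eq_one_right (hd.symm.trans hd1)).symm
    rw [hs']
    exact inv_mem (zpow_mem (mem_zpowers _) j)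
  have hor : o = r' := Nat.dvd_antisymm (hko ▸ hv ▸ Nat.card_zpowers (v : Γ) ▸ card_dvd_of_le hle) hr'd
  rw [← hq]
  exact prime_pair_cases hqp hr hr2 hr' (hor ▸ ho)

end Setting

end Cfsg.Lib.MaxNorm
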