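import Cfsg.Agent.Lib.MaxNorm.Thirteen
import Cfsg.Agent.S0144
import Cfsg.Agent.S0044
import Cfsg.Agent.S0009
import Cfsg.Agent.Lib.AlmostCyc.Structure
import Cfsg.Agent.Lib.Fusion.Parts

/-!
# Reduction to an almost simple group
-/

set_option autoImplicit false
set_option linter.style.haveILetI false
set_option linter.unusedSectionVars false

namespace Cfsg.Lib.MaxNorm

open Subgroup
open scoped commutatorElement

universe u

variable {G : Type u} [Group G] [Finite G]

theorem isSolvable_of_le {H K : Subgroup G} (hK : Group.IsSolvable ↥K) (h : H ≤ K) : Group.IsSolvable ↥H :=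
  Group.isSolvable_of_isSolvable_injective (f := inclusion h) (inclusion_injective h)

theorem isSolvable_twoPrimes {H : Subgroup G} (h : TwoPrimes H) : Group.IsSolvable ↥H := by
  obtain ⟨p, q, hp, hq, hall⟩ := h
  haveI := Fact.mk hp
  obtain ⟨a, m, hm, hcard⟩ := Nat.exists_eq_pow_mul_and_not_dvd (Nat.card_pos (α := ↥H)).ne' p hp.ne_one
  have hmq : m = q ^ m.primeFactorsList.length := by
    refine Nat.eq_prime_pow_of_unique_prime_dvd (fun e => hm (e ▸ dvd_zero p)) fun {d} hd hdm => ?_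
    exact ((hall d hd (hcard ▸ Dvd.dvd.mul_left hdm _)).resolve_left fun e => hm (e ▸ hdm))
  exact Cfsg.Agent.S0144.result p q a _ hp hq (by rw [hcard]; conv_lhs => rw [hmq])

/-- A solvable subnormal subgroup lies in the radical. -/
theorem subnormal_le_radical {H : Subgroup G} (hH : H.IsSubnormal) (hs : Group.IsSolvable ↥H) :
    H ≤ Cfsg.solvableRadical G := by
  suffices key : ∀ K : Subgroup G, K.IsSubnormal →
      (Cfsg.solvableRadical ↥K).map K.subtype ≤ Cfsg.solvableRadical G by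
    refine le_trans ?_ (key H hH)
    haveI := hs
    rw [eq_top_iff.2 (Cfsg.Lib.AlmostCyc.le_solvableRadical (G := ↥H) (N := ⊤) inferInstance inferInstance),
      ← MonoidHom.range_eq_map, range_subtype]
  intro K hK
  induction hK with
  | top =>
    haveI := Cfsg.Lib.AlmostCyc.solvableRadical_normal (G := ↥(⊤ : Subgroup G))
    haveI := Cfsg.Lib.AlmostCyc.solvableRadical_isSolvable (G := ↥(⊤ : Subgroup G))
    exact Cfsg.Lib.AlmostCyc.le_solvableRadical
      (Normal.map inferInstance _ fun x => ⟨⟨x, mem_top x⟩, rfl⟩)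
      (Group.isSolvable_of_surjective (f := (⊤ : Subgroup G).subtype.subgroupMap _)
        ((⊤ : Subgroup G).subtype.subgroupMap_surjective _))
  | step H K hle hsn hN ih =>
    haveI := Cfsg.Lib.AlmostCyc.solvableRadical_normal (G := ↥H)
    haveI := Cfsg.Lib.AlmostCyc.solvableRadical_isSolvable (G := ↥H)
    have hchar : (Cfsg.solvableRadical ↥H).Characteristic :=
      characteristic_iff_map_le.2 fun f => Cfsg.Lib.AlmostCyc.map_solvableRadical_le f
    obtain ⟨R, hR⟩ : ∃ R, R = (Cfsg.solvableRadical ↥H).map H.subtype := ⟨_, rfl⟩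
    have hRH : R ≤ H := hR ▸ map_subtype_le _
    have hRn : (R.subgroupOf K).Normal := by
      rw [normal_subgroupOf_iff_le_normalizer (hRH.trans hle)]
      intro k hk
      have hkH : k ∈ normalizer (H : Set G) := (normal_subgroupOf_iff_le_normalizer hle).1 hN hk
      rw [mem_normalizer_iff_map_conj_eq, hR]
      have h1 : ∀ g ∈ normalizer (H : Set G), ((Cfsg.solvableRadical ↥H).map H.subtype).map
          (MulAut.conj g).toMonoidHom ≤ (Cfsg.solvableRadical ↥H).map H.subtype := by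
        rintro g hg _ ⟨_, ⟨x, hx, rfl⟩, rfl⟩
        let c : ↥H ≃* ↥H := H.normalizerMonoidHom ⟨g, hg⟩
        exact ⟨c x, characteristic_iff_map_le.1 hchar c (mem_map_of_mem _ hx), rfl⟩
      refine eq_of_le_of_card_ge (h1 k hkH) ?_
      exact (Nat.card_congr (Subgroup.equivMapOfInjective _ _ (MulAut.conj k).injective).toEquiv).le
    have hRs : Group.IsSolvable ↥R := hR ▸ Group.isSolvable_of_surjective
      (f := H.subtype.subgroupMap _) (H.subtype.subgroupMap_surjective _)
    refine le_trans ?_ ih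
    rw [← hR, ← map_subgroupOf_eq_of_le (hRH.trans hle)]
    refine map_mono (Cfsg.Lib.AlmostCyc.le_solvableRadical hRn ?_)
    haveI := hRs
    exact Group.isSolvable_of_isSolvable_injective
      (f := (subgroupOfEquivOfLe (hRH.trans hle)).toMonoidHom) (MulEquiv.injective _)

/-- An element whose prime power parts lie in a subgroup lies in it. -/
theorem mem_of_primePow {K : Subgroup G} {w : G}
    (h : ∀ d k : ℕ, d.Prime → d ^ k ∣ orderOf w → w ^ (orderOf w / d ^ k) ∈ K) : w ∈ K := by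
  have hdvd : orderOf w ∣ Nat.card ↥(zpowers w ⊓ K) := by
    rw [Nat.dvd_iff_prime_pow_dvd_dvd]
    intro d k hd hdk
    have hmem : w ^ (orderOf w / d ^ k) ∈ zpowers w ⊓ K := mem_inf.2 ⟨pow_mem (mem_zpowers w) _, h d k hd hdk⟩
    have h1 := Subgroup.orderOf_dvd_natCard _ hmem
    rwa [orderOf_pow_orderOf_div (orderOf_pos w).ne' hdk] at h1
  have heq : zpowers w ⊓ K = zpowers w := eq_of_le_of_card_ge inf_le_left
    (by rw [Nat.card_zpowers]; exact Nat.le_of_dvd Nat.card_pos hdvd)
  exact (mem_inf.1 (heq.symm ▸ mem_zpowers w : w ∈ zpowers w ⊓ K)).2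

/-- The hypothesis of the theorem. -/
def MaxNormHyp (G : Type*) [Group G] : Prop :=
  ∀ H : Subgroup G, ¬ H.IsSubnormal → TwoPrimes H → IsCoatom (normalizer (H : Set G))

/-- A minimal nonsolvable normal subgroup with the properties needed below. -/
structure Layer (G : Type u) [Group G] (L : Subgroup G) : Prop where
  normal : L.Normal
  notSolvable : ¬ Group.IsSolvable ↥L
  minimal : ∀ N : Subgroup G, N.Normal → N ≤ L → N ≠ L → Group.IsSolvable ↥N
  perfect : ⁅L, L⁆ = L
  radical_central : ∀ z ∈ Cfsg.solvableRadical G ⊓ L, ∀ l ∈ L, z * l = l * z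
  cent_eq : centralizer (L : Set G) = Cfsg.solvableRadical G

theorem eq_of_le_normalizer_subgroups (hG : MaxNormHyp G) {X Y : Subgroup G} (hX : ¬ X.IsSubnormal)
    (hX2 : TwoPrimes X) (hY : ¬ Y.IsSubnormal) (hY2 : TwoPrimes Y)
    (h : normalizer (X : Set G) ≤ normalizer (Y : Set G)) : normalizer (X : Set G) = normalizer (Y : Set G) := by
  by_contra hne
  exact (hG Y hY hY2).ne_top ((hG X hX hX2).2 _ (lt_of_le_of_ne h hne))

theorem not_subnormal {X : Subgroup G} (hX2 : TwoPrimes X) {x : G} (hx : x ∈ X)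
    (hxR : x ∉ Cfsg.solvableRadical G) : ¬ X.IsSubnormal :=
  fun h => hxR (subnormal_le_radical h (isSolvable_twoPrimes hX2) hx)

/-- Every `G` as in the theorem has such a subgroup. -/
theorem exists_layer (hns : ¬ Group.IsSolvable G) (hG : MaxNormHyp G) : ∃ L, Layer G L := by
  classical
  obtain ⟨L, ⟨hLn, hLs⟩, hmin⟩ :=
    (Set.toFinite {N : Subgroup G | N.Normal ∧ ¬ Group.IsSolvable ↥N}).exists_minimal ⟨⊤, inferInstance,
      fun h => hns (Group.isSolvable_of_surjective (f := (⊤ : Subgroup G).subtype) fun x => ⟨⟨x, mem_top x⟩, rfl⟩)⟩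
  haveI := hLn
  have hminimal : ∀ N : Subgroup G, N.Normal → N ≤ L → N ≠ L → Group.IsSolvable ↥N := by
    intro N hN hle hne
    by_contra hs
    exact hne (le_antisymm hle (hmin ⟨hN, hs⟩ hle))
  have hperf : ⁅L, L⁆ = L := by
    by_contra hne
    have hs := hminimal ⁅L, L⁆ inferInstance (commutator_le_right L L) hne
    refine hLs ?_
    haveI : Group.IsSolvable ↥(commutator ↥L) :=
      Group.isSolvable_of_isSolvable_injective
        (f := (inclusion (le_of_eq (map_subtype_commutator L))).comp (L.subtype.subgroupMap (commutator ↥L)))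
        fun a b h => Subtype.ext (Subtype.ext (congrArg (fun x : ↥⁅L, L⁆ => (x : G)) h))
    exact (Group.isSolvable_iff_subgroup_quotient (commutator ↥L)).2
      ⟨inferInstance, Group.isSolvable_of_comm fun a b => mul_comm (G := Abelianization ↥L) a b⟩
  haveI hRn := Cfsg.Lib.AlmostCyc.solvableRadical_normal (G := G)
  have hRs := Cfsg.Lib.AlmostCyc.solvableRadical_isSolvable (G := G)
  -- `L` centralizes the `p`-cores
  have hcore : ∀ p : ℕ, p.Prime → L ≤ centralizer (Cfsg.pCore p G : Set G) := by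
    intro p hp
    haveI := Fact.mk hp
    haveI hPn : (Cfsg.pCore p G).Normal := sSup_normal _ fun _ h => h.1
    have hKn : (centralizer (Cfsg.pCore p G : Set G)).Normal := inferInstance
    by_contra hcon
    have hK : centralizer (Cfsg.pCore p G : Set G) ⊓ L ≤ Cfsg.solvableRadical G :=
      Cfsg.Lib.AlmostCyc.le_solvableRadical inferInstance
        (hminimal _ inferInstance inf_le_right fun e => hcon (inf_eq_right.1 e))
    have hq : ∀ q : ℕ, q.Prime → q ≠ p → ∀ y ∈ L, (∃ k, orderOf y = q ^ k) → y ∈ Cfsg.solvableRadical G := by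
      intro q hqp hne y hy hyo
      obtain ⟨k, hk⟩ := hyo
      haveI := Fact.mk hqp
      by_contra hyR
      refine hyR (hK (mem_inf.2 ⟨mem_centralizer_iff.2 fun x hx => ?_, hy⟩))
      have hY : IsPGroup q (zpowers y) := isPGroup_zpowers hk
      have hP := Cfsg.Lib.Fusion.pCore_isPGroup (G := G) p
      have hYP : zpowers y ≤ normalizer (Cfsg.pCore p G : Set G) := by
        rw [normalizer_eq_top]; exact le_top
      have h2 := twoPrimes_sup hP hY hYP
      have hns' := not_subnormal h2 (mem_sup_right (mem_zpowers y)) hyR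
      have hnsy := not_subnormal (twoPrimes_of_pGroup hY) (mem_zpowers y) hyR
      have hle : normalizer (zpowers y : Set G) ≤ normalizer ((Cfsg.pCore p G ⊔ zpowers y : Subgroup G) : Set G) := by
        intro g hg
        rw [mem_normalizer_iff_map_conj_eq] at hg ⊢
        rw [Subgroup.map_sup, hg, mem_normalizer_iff_map_conj_eq.1
          (show g ∈ normalizer (Cfsg.pCore p G : Set G) by rw [normalizer_eq_top]; trivial)]
      have heq := eq_of_le_normalizer_subgroups hG hnsy (twoPrimes_of_pGroup hY) hns' h2 hle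
      have hxN : x ∈ normalizer (zpowers y : Set G) := heq.symm ▸ le_normalizer (mem_sup_left hx)
      obtain ⟨a, ha⟩ := mem_zpowers_iff.1 ((mem_normalizer_iff.1 hxN y).1 (mem_zpowers y))
      have h1 : x * y * x⁻¹ * y⁻¹ ∈ Cfsg.pCore p G := by
        rw [show x * y * x⁻¹ * y⁻¹ = x * (y * x⁻¹ * y⁻¹) by group]
        exact mul_mem hx (hPn.conj_mem _ (inv_mem hx) y)
      have h3 : x * y * x⁻¹ * y⁻¹ ∈ zpowers y :=
        mul_mem ((mem_normalizer_iff.1 hxN y).1 (mem_zpowers y)) (inv_mem (mem_zpowers y))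
      have h4 : x * y * x⁻¹ * y⁻¹ = 1 := by
        obtain ⟨i, hi⟩ := IsPGroup.iff_card.1 hP
        obtain ⟨j, hj⟩ := IsPGroup.iff_card.1 hY
        refine orderOf_eq_one_iff.1 (Nat.eq_one_of_dvd_one ?_)
        rw [← Nat.coprime_iff_gcd_eq_one.1 (((Nat.coprime_primes hp hqp).2 hne.symm).pow i j), ← hi, ← hj]
        exact Nat.dvd_gcd (Subgroup.orderOf_dvd_natCard _ h1) (Subgroup.orderOf_dvd_natCard _ h3)
      rw [mul_inv_eq_one, mul_inv_eq_iff_eq_mul] at h4
      exact h4
    -- so `L` modulo the radical is a `p`-group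
    refine hLs ?_
    obtain ⟨Z, hZ⟩ : ∃ Z : Subgroup ↥L, Z = (Cfsg.solvableRadical G).subgroupOf L := ⟨_, rfl⟩
    haveI hZn : Z.Normal := hZ ▸ inferInstance
    haveI : Group.IsSolvable ↥Z := hZ ▸ Group.isSolvable_of_isSolvable_injective
      (f := (L.subtype.comp ((Cfsg.solvableRadical G).subgroupOf L).subtype).codRestrict (Cfsg.solvableRadical G)
        fun x => x.2) fun a b h => Subtype.ext (Subtype.ext (congrArg Subtype.val h :))
    have hQ : IsPGroup p (↥L ⧸ Z) := by
      intro g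
      obtain ⟨g, rfl⟩ := QuotientGroup.mk_surjective g
      obtain ⟨a, m, hm, hord⟩ := Nat.exists_eq_pow_mul_and_not_dvd (orderOf_pos (g : G)).ne' p hp.ne_one
      refine ⟨a, ?_⟩
      rw [← QuotientGroup.mk_pow, QuotientGroup.eq_one_iff, hZ, mem_subgroupOf, SubmonoidClass.coe_pow]
      refine mem_of_primePow fun d k hd hdk => ?_
      have hw : orderOf ((g : G) ^ p ^ a) = m := by
        rw [orderOf_pow' _ (pow_ne_zero a hp.ne_zero), hord, Nat.gcd_mul_right_left,
          Nat.mul_div_cancel_left _ (pow_pos hp.pos a)]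
      rcases Nat.eq_zero_or_pos k with rfl | hk
      · rw [pow_zero, Nat.div_one, pow_orderOf_eq_one]; exact one_mem _
      refine hq d hd (fun e => ?_) _ (pow_mem (pow_mem g.2 _) _)
        ⟨k, orderOf_pow_orderOf_div (orderOf_pos _).ne' hdk⟩
      rw [hw, e] at hdk
      exact hm ((dvd_pow_self p hk.ne').trans hdk)
    haveI := hQ.isNilpotent
    exact (Group.isSolvable_iff_subgroup_quotient Z).2 ⟨inferInstance, inferInstance⟩
  -- `L` centralizes its radical
  have hcentral : ∀ z ∈ Cfsg.solvableRadical G ⊓ L, ∀ l ∈ L, z * l = l * z := by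
    obtain ⟨A, hA⟩ : ∃ A, A = Cfsg.solvableRadical G ⊓ L := ⟨_, rfl⟩
    haveI hAn : A.Normal := hA ▸ inferInstance
    haveI : Group.IsSolvable ↥A := isSolvable_of_le hRs (hA ▸ inf_le_left)
    have hF : ∀ f ∈ Cfsg.fittingSubgroup ↥A, ∀ l ∈ L, (f : G) * l = l * f := by
      rw [Cfsg.Agent.S0009.result]
      intro f hf l hl
      have hle : (⨆ p : Nat.Primes, Cfsg.pCore (p : ℕ) ↥A) ≤ (centralizer ({l} : Set G)).comap A.subtype := by
        refine iSup_le fun p x hx => ?_
        haveI := Fact.mk p.2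
        have hP := Cfsg.Lib.Fusion.pCore_isPGroup (G := ↥A) (p : ℕ)
        haveI hPn : (Cfsg.pCore (p : ℕ) ↥A).Normal := sSup_normal _ fun _ h => h.1
        have hchar : (Cfsg.pCore (p : ℕ) ↥A).Characteristic := characteristic_iff_map_le.2 fun f =>
          Cfsg.Lib.Fusion.le_pCore (Normal.map inferInstance _ f.surjective) (hP.map _)
        have hxG : (x : G) ∈ Cfsg.pCore (p : ℕ) G :=
          Cfsg.Lib.Fusion.le_pCore (ConjAct.normal_of_characteristic_of_normal) (hP.map A.subtype)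
            (mem_map_of_mem _ hx)
        rw [mem_comap, mem_centralizer_singleton_iff]
        exact mem_centralizer_iff.1 (hcore p p.2 hl) _ hxG
      exact mem_centralizer_singleton_iff.1 (mem_comap.1 (hle hf))
    intro z hz l hl
    rw [← hA] at hz
    refine hF ⟨z, hz⟩ (Cfsg.Agent.S0044.result (mem_centralizer_iff.2 fun f hf => Subtype.ext ?_)) l hl
    exact hF f hf z ((hA ▸ inf_le_right : A ≤ L) hz)
  -- three subgroups
  have hthree : ∀ g : G, (∀ l ∈ L, g * l * g⁻¹ * l⁻¹ ∈ Cfsg.solvableRadical G) →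
      g ∈ centralizer (L : Set G) := by
    intro g hg
    have hgZ : ∀ l ∈ L, g * l * g⁻¹ * l⁻¹ ∈ Cfsg.solvableRadical G ⊓ L := fun l hl =>
      mem_inf.2 ⟨hg l hl, mul_mem (hLn.conj_mem l hl g) (inv_mem hl)⟩
    obtain ⟨K, hK⟩ : ∃ K, K = L ⊓ centralizer ({g} : Set G) := ⟨_, rfl⟩
    have hcomm : ⁅L, L⁆ ≤ centralizer ({g} : Set G) := by
      rw [commutator_le]
      intro a ha b hb
      rw [mem_centralizer_singleton_iff, eq_comm, ← mul_inv_eq_iff_eq_mul]
      obtain ⟨za, hza⟩ : ∃ za, za = g * a * g⁻¹ * a⁻¹ := ⟨_, rfl⟩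
      obtain ⟨zb, hzb⟩ : ∃ zb, zb = g * b * g⁻¹ * b⁻¹ := ⟨_, rfl⟩
      have hca : ∀ l ∈ L, za * l = l * za := hcentral za (hza ▸ hgZ a ha)
      have hcb : ∀ l ∈ L, zb * l = l * zb := hcentral zb (hzb ▸ hgZ b hb)
      have hzaL : za ∈ L := (mem_inf.1 (hza ▸ hgZ a ha)).2
      have hzbL : zb ∈ L := (mem_inf.1 (hzb ▸ hgZ b hb)).2
      have ea : g * a * g⁻¹ = za * a := by rw [hza]; group
      have eb : g * b * g⁻¹ = zb * b := by rw [hzb]; group
      calc g * ⁅a, b⁆ * g⁻¹ = ⁅g * a * g⁻¹, g * b * g⁻¹⁆ := by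
            simp only [commutatorElement_def]; group
        _ = ⁅za * a, zb * b⁆ := by rw [ea, eb]
        _ = za * (a * (zb * (b * a⁻¹))) * (za⁻¹ * (b⁻¹ * zb⁻¹)) := by
            simp only [commutatorElement_def, mul_inv_rev, mul_assoc]
        _ = za * (zb * (a * (b * a⁻¹))) * (za⁻¹ * (b⁻¹ * zb⁻¹)) := by
            rw [← mul_assoc a zb, ← hcb a ha, mul_assoc zb a]
        _ = za * za⁻¹ * zb * (a * (b * a⁻¹) * b⁻¹) * zb⁻¹ := by
            have h1 : Commute (zb * (a * (b * a⁻¹))) za⁻¹ :=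
              Commute.inv_right (hca _ (mul_mem hzbL (mul_mem ha (mul_mem hb (inv_mem ha))))).symm
            rw [mul_assoc za, ← mul_assoc (zb * (a * (b * a⁻¹))) za⁻¹, h1.eq]
            group
        _ = ⁅a, b⁆ := by
            rw [mul_inv_cancel, one_mul, commutatorElement_def, show a * (b * a⁻¹) * b⁻¹ = a * b * a⁻¹ * b⁻¹ by group,
              hcb _ (mul_mem (mul_mem (mul_mem ha hb) (inv_mem ha)) (inv_mem hb)), mul_inv_cancel_right]
    rw [hperf] at hcomm
    exact mem_centralizer_iff.2 fun l hl => mem_centralizer_singleton_iff.1 (hcomm hl)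
  have hRC : Cfsg.solvableRadical G ≤ centralizer (L : Set G) := fun r hr => hthree r fun l hl => by
    rw [show r * l * r⁻¹ * l⁻¹ = r * (l * r⁻¹ * l⁻¹) by group]
    exact mul_mem hr (hRn.conj_mem _ (inv_mem hr) l)
  refine ⟨L, hLn, hLs, hminimal, hperf, hcentral, le_antisymm ?_ hRC⟩
  -- the centralizer is solvable
  intro c hc
  refine mem_of_primePow fun q k hq hqk => ?_
  haveI := Fact.mk hq
  obtain ⟨y, hy⟩ : ∃ y, y = c ^ (orderOf c / q ^ k) := ⟨_, rfl⟩
  have hyo : orderOf y = q ^ k := hy ▸ orderOf_pow_orderOf_div (orderOf_pos c).ne' hqk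
  have hyC : y ∈ centralizer (L : Set G) := hy ▸ pow_mem hc _
  rw [← hy]
  by_contra hyR
  -- an element of `L` of prime power order outside the radical, for another prime
  obtain ⟨p, i, x, hp, hpq, hxo, hxL, hxR⟩ : ∃ p i x, p.Prime ∧ p ≠ q ∧ orderOf x = p ^ i ∧ x ∈ L ∧
      x ∉ Cfsg.solvableRadical G := by
    by_contra hno
    push Not at hno
    refine hLs ?_
    obtain ⟨Z, hZ⟩ : ∃ Z : Subgroup ↥L, Z = (Cfsg.solvableRadical G).subgroupOf L := ⟨_, rfl⟩
    haveI hZn : Z.Normal := hZ ▸ inferInstance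
    haveI : Group.IsSolvable ↥Z := hZ ▸ Group.isSolvable_of_isSolvable_injective
      (f := (L.subtype.comp ((Cfsg.solvableRadical G).subgroupOf L).subtype).codRestrict (Cfsg.solvableRadical G)
        fun x => x.2) fun a b h => Subtype.ext (Subtype.ext (congrArg Subtype.val h :))
    have hQ : IsPGroup q (↥L ⧸ Z) := by
      intro g
      obtain ⟨g, rfl⟩ := QuotientGroup.mk_surjective g
      obtain ⟨a, m, hm, hord⟩ := Nat.exists_eq_pow_mul_and_not_dvd (orderOf_pos (g : G)).ne' q hq.ne_one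
      refine ⟨a, ?_⟩
      rw [← QuotientGroup.mk_pow, QuotientGroup.eq_one_iff, hZ, mem_subgroupOf, SubmonoidClass.coe_pow]
      refine mem_of_primePow fun d j hd hdk => ?_
      have hw : orderOf ((g : G) ^ q ^ a) = m := by
        rw [orderOf_pow' _ (pow_ne_zero a hq.ne_zero), hord, Nat.gcd_mul_right_left,
          Nat.mul_div_cancel_left _ (pow_pos hq.pos a)]
      rcases Nat.eq_zero_or_pos j with rfl | hj
      · rw [pow_zero, Nat.div_one, pow_orderOf_eq_one]; exact one_mem _
      refine hno d j _ hd (fun e => ?_) (orderOf_pow_orderOf_div (orderOf_pos _).ne' hdk) (pow_mem (pow_mem g.2 _) _)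
      rw [hw, e] at hdk
      exact hm ((dvd_pow_self q hj.ne').trans hdk)
    haveI := hQ.isNilpotent
    exact (Group.isSolvable_iff_subgroup_quotient Z).2 ⟨inferInstance, inferInstance⟩
  haveI := Fact.mk hp
  have hX : IsPGroup p (zpowers x) := isPGroup_zpowers hxo
  have hY : IsPGroup q (zpowers y) := isPGroup_zpowers hyo
  have hxy : ∀ a ∈ zpowers x, ∀ b ∈ zpowers y, a * b = b * a := fun a ha b hb =>
    mem_centralizer_iff.1 (zpowers_le.2 hyC hb) a (zpowers_le.2 hxL ha)
  have hYX : zpowers y ≤ normalizer (zpowers x : Set G) := centralizer_le_normalizer _ hxy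
  have hXY : zpowers x ≤ normalizer (zpowers y : Set G) :=
    centralizer_le_normalizer _ fun b hb a ha => (hxy a ha b hb).symm
  have h2 := twoPrimes_sup hX hY hYX
  have hns' := not_subnormal h2 (mem_sup_left (mem_zpowers x)) hxR
  have hnx := not_subnormal (twoPrimes_of_pGroup hX) (mem_zpowers x) hxR
  have e1 := eq_of_le_normalizer_subgroups hG hns' h2 hnx (twoPrimes_of_pGroup hX)
    (normalizer_sup_le hpq hX hY hYX)
  have e2 := eq_of_le_normalizer_subgroups hG hns' h2 (not_subnormal (twoPrimes_of_pGroup hY) (mem_zpowers y) hyR)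
    (twoPrimes_of_pGroup hY) (by rw [sup_comm]; exact normalizer_sup_le hpq.symm hY hX hXY)
  have hLx : L ≤ normalizer (zpowers x : Set G) := by
    rw [← e1, e2]
    exact centralizer_le_normalizer _ fun b hb l hl =>
      (mem_centralizer_iff.1 (zpowers_le.2 hyC hb) l hl).symm
  exact hnx (IsSubnormal.step _ L (zpowers_le.2 hxL) hLn.isSubnormal
    ((normal_subgroupOf_iff_le_normalizer (zpowers_le.2 hxL)).2 hLx))

/-- Each two-prime subgroup of the image of `L` is the image of a two-prime subgroup of `L`. -/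
theorem exists_lift {H : Type*} [Group H] [Finite H] (π : G →* H) {L : Subgroup G}
    (hker : ∀ z ∈ L, π z = 1 → ∀ l ∈ L, z * l = l * z) {X : Subgroup H} (hX : X ≤ L.map π) (h2 : TwoPrimes X) :
    ∃ Y : Subgroup G, Y ≤ L ∧ Y.map π = X ∧ TwoPrimes Y := by
  classical
  obtain ⟨Y, ⟨hYL, hYX⟩, hmin⟩ := (Set.toFinite {Y : Subgroup G | Y ≤ L ∧ Y.map π = X}).exists_minimal
    ⟨X.comap π ⊓ L, inf_le_right, le_antisymm ((map_mono inf_le_left).trans (map_comap_le _ _)) fun x hx => by
      obtain ⟨l, hl, rfl⟩ := hX hx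
      exact mem_map_of_mem _ (mem_inf.2 ⟨hx, hl⟩)⟩
  obtain ⟨p, q, hp, hq, hall⟩ := h2
  refine ⟨Y, hYL, hYX, p, q, hp, hq, fun r hr hrY => ?_⟩
  by_contra hne
  haveI := Fact.mk hr
  have hrX : ¬ r ∣ Nat.card X := fun h => hne (hall r hr h)
  obtain ⟨P⟩ : Nonempty (Sylow r ↥Y) := inferInstance
  have hPker : ∀ x ∈ (P : Subgroup ↥Y), π (x : G) = 1 := by
    intro x hx
    obtain ⟨k, hk⟩ := IsPGroup.iff_orderOf.1 P.2 ⟨x, hx⟩
    rw [← Subgroup.orderOf_coe, ← Subgroup.orderOf_coe] at hk
    change orderOf (x : G) = r ^ k at hk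
    have h1 : orderOf (π (x : G)) ∣ r ^ k := hk ▸ orderOf_map_dvd π (x : G)
    have h3 : orderOf (π (x : G)) ∣ Nat.card X :=
      Subgroup.orderOf_dvd_natCard _ (hYX.le (mem_map_of_mem π x.2))
    refine orderOf_eq_one_iff.1 (Nat.eq_one_of_dvd_one ?_)
    rw [← ((hr.coprime_iff_not_dvd.2 hrX).pow_left k).gcd_eq_one]
    exact Nat.dvd_gcd h1 h3
  haveI hPn : (P : Subgroup ↥Y).Normal := ⟨fun x hx g => by
    have h := hker x (hYL x.2) (hPker x hx) g (hYL g.2)
    have : g * x * g⁻¹ = x := Subtype.ext (by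
      simp only [Subgroup.coe_mul, Subgroup.coe_inv]
      rw [← h, mul_inv_cancel_right])
    rwa [this]⟩
  obtain ⟨K, hK⟩ := exists_right_complement'_of_coprime P.card_coprime_index
  have hKY : (K.map Y.subtype).map π = X := by
    refine le_antisymm ((map_mono (map_subtype_le _)).trans hYX.le) fun x hx => ?_
    obtain ⟨g, hg, rfl⟩ := hYX.symm ▸ hx
    obtain ⟨⟨⟨a, ha⟩, ⟨b, hb⟩⟩, hab, -⟩ := hK.existsUnique ⟨g, hg⟩
    refine ⟨b, mem_map_of_mem _ hb, ?_⟩
    have : (g : G) = (a : G) * (b : G) := congrArg Subtype.val hab.symm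
    rw [this, map_mul, hPker a ha, one_mul]
  have hle : Y ≤ K.map Y.subtype := hmin ⟨(map_subtype_le K).trans hYL, hKY⟩ (map_subtype_le K)
  have hKt : K = ⊤ := eq_top_iff.2 fun g _ => by
    obtain ⟨k, hk, hkg⟩ := hle g.2
    exact (Subtype.ext hkg : k = g) ▸ hk
  have hc : Nat.card (P : Subgroup ↥Y) * Nat.card K = Nat.card ↥Y := hK.card_mul_card
  rw [hKt, card_top] at hc
  have hP1 : Nat.card (P : Subgroup ↥Y) = 1 :=
    Nat.eq_of_mul_eq_mul_right Nat.card_pos (hc.trans (one_mul _).symm)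
  have := P.dvd_card_of_dvd_card hrY
  rw [hP1] at this
  exact hr.not_dvd_one this

/-- The almost simple quotient. -/
theorem Layer.setting (hG : MaxNormHyp G) {L : Subgroup G} (hL : Layer G L) [(Cfsg.solvableRadical G).Normal] :
    Setting (Γ := G ⧸ Cfsg.solvableRadical G) (L.map (QuotientGroup.mk' (Cfsg.solvableRadical G))) := by
  classical
  haveI := hL.normal
  have hRs := Cfsg.Lib.AlmostCyc.solvableRadical_isSolvable (G := G)
  obtain ⟨π, hπ⟩ : ∃ π, π = QuotientGroup.mk' (Cfsg.solvableRadical G) := ⟨_, rfl⟩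
  have hsurj : Function.Surjective π := hπ ▸ QuotientGroup.mk'_surjective _
  have hker : π.ker = Cfsg.solvableRadical G := by rw [hπ, QuotientGroup.ker_mk']
  rw [← hπ]
  haveI hLb : (L.map π).Normal := hL.normal.map π hsurj
  have hLns : ¬ Group.IsSolvable ↥(L.map π) := by
    intro hs
    haveI := hs
    haveI : Group.IsSolvable ↥(Cfsg.solvableRadical G ⊓ L) := isSolvable_of_le hRs inf_le_left
    refine hL.notSolvable (Group.isSolvable_of_ker_le_range
      (inclusion (show Cfsg.solvableRadical G ⊓ L ≤ L from inf_le_right)) (π.subgroupMap L) fun x hx => ?_)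
    refine ⟨⟨x, mem_inf.2 ⟨?_, x.2⟩⟩, rfl⟩
    rw [← hker, MonoidHom.mem_ker]
    exact congrArg Subtype.val hx
  -- solvable normal subgroups of the quotient
  have hrad : ∀ N : Subgroup (G ⧸ Cfsg.solvableRadical G), N.Normal → Group.IsSolvable ↥N → N = ⊥ := by
    intro N hN hNs
    rw [eq_bot_iff]
    intro x hx
    obtain ⟨g, rfl⟩ := hsurj x
    haveI : (N.comap π).Normal := hN.comap π
    haveI := hNs
    haveI : Group.IsSolvable ↥π.ker := isSolvable_of_le hRs hker.le
    have hs : Group.IsSolvable ↥(N.comap π) :=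
      Group.isSolvable_of_ker_le_range (inclusion (show π.ker ≤ N.comap π from fun y hy => by
        rw [mem_comap, MonoidHom.mem_ker.1 hy]; exact one_mem N)) (π.subgroupComap N) (fun y hy =>
          ⟨⟨y, MonoidHom.mem_ker.2 (congrArg Subtype.val hy)⟩, rfl⟩)
    have hgR := Cfsg.Lib.AlmostCyc.le_solvableRadical inferInstance hs hx
    rw [mem_bot, ← MonoidHom.mem_ker, hker]
    exact hgR
  have hsubn : ∀ X : Subgroup (G ⧸ Cfsg.solvableRadical G), X.IsSubnormal → Group.IsSolvable ↥X → X = ⊥ := by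
    intro X hX hXs
    exact le_bot_iff.1 ((subnormal_le_radical hX hXs).trans
      (hrad _ (Cfsg.Lib.AlmostCyc.solvableRadical_normal) (Cfsg.Lib.AlmostCyc.solvableRadical_isSolvable)).le)
  -- the coatom property
  have hco : ∀ X : Subgroup (G ⧸ Cfsg.solvableRadical G), X ≤ L.map π → X ≠ ⊥ → TwoPrimes X →
      IsCoatom (normalizer (X : Set (G ⧸ Cfsg.solvableRadical G))) := by
    intro X hX hX1 hX2
    obtain ⟨Y, hYL, hYX, hY2⟩ := exists_lift π (fun z hz hz1 => hL.radical_central z
      (mem_inf.2 ⟨hker ▸ MonoidHom.mem_ker.2 hz1, hz⟩)) hX hX2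
    have hYns : ¬ Y.IsSubnormal := by
      intro h
      refine hX1 ?_
      rw [← hYX, eq_bot_iff, map_le_iff_le_comap, MonoidHom.comap_bot, hker]
      exact subnormal_le_radical h (isSolvable_twoPrimes hY2)
    have hle : normalizer (Y : Set G) ≤ (normalizer (X : Set (G ⧸ Cfsg.solvableRadical G))).comap π := by
      intro g hg
      rw [mem_comap, mem_normalizer_iff_map_conj_eq, ← hYX, map_map,
        show (↑(MulAut.conj (π g)) : _ →* _).comp π = π.comp (MulAut.conj g : G →* G) from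
          MonoidHom.ext fun x => by simp, ← map_map, mem_normalizer_iff_map_conj_eq.1 hg]
    have htop : (normalizer (X : Set (G ⧸ Cfsg.solvableRadical G))).comap π ≠ ⊤ := by
      intro h
      have hN : normalizer (X : Set (G ⧸ Cfsg.solvableRadical G)) = ⊤ := by
        refine eq_top_iff.2 fun x _ => ?_
        obtain ⟨g, rfl⟩ := hsurj x
        exact mem_comap.1 (h ▸ mem_top g)
      exact hX1 (hrad X (normalizer_eq_top_iff.1 hN) (isSolvable_twoPrimes hX2))
    have hc := hG Y hYns hY2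
    have heq : normalizer (Y : Set G) = (normalizer (X : Set (G ⧸ Cfsg.solvableRadical G))).comap π := by
      by_contra hne
      exact htop (hc.2 _ (lt_of_le_of_ne hle hne))
    rw [heq] at hc
    refine ⟨fun h => hc.1 (by rw [h, comap_top]), fun K hK => ?_⟩
    have h1 := hc.2 _ (comap_lt_comap_of_surjective hsurj |>.2 hK)
    exact eq_top_iff.2 fun x _ => by
      obtain ⟨g, rfl⟩ := hsurj x
      exact mem_comap.1 (h1 ▸ mem_top g)
  -- minimal normal
  have hminb : ∀ N : Subgroup (G ⧸ Cfsg.solvableRadical G), N.Normal → N ≤ L.map π → N ≠ ⊥ → N = L.map π := by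
    intro N hN hle hne
    haveI : (N.comap π).Normal := hN.comap π
    by_contra hNL
    refine hne (hrad N hN ?_)
    have hne' : N.comap π ⊓ L ≠ L := fun h => hNL (le_antisymm hle (map_le_iff_le_comap.2 (inf_eq_right.1 h)))
    have hs := hL.minimal _ inferInstance inf_le_right hne'
    have hNeq : (N.comap π ⊓ L).map π = N := le_antisymm ((map_mono inf_le_left).trans (map_comap_le _ _)) fun x hx => by
      obtain ⟨l, hl, rfl⟩ := hle hx
      exact mem_map_of_mem _ (mem_inf.2 ⟨hx, hl⟩)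
    rw [← hNeq]
    haveI := hs
    exact Group.isSolvable_of_surjective (f := π.subgroupMap _) (π.subgroupMap_surjective _)
  -- simplicity
  have hsimp : IsSimpleGroup ↥(L.map π) := by
    haveI : Nontrivial ↥(L.map π) := by
      rw [← not_subsingleton_iff_nontrivial]
      intro h
      exact hLns (Group.isSolvable_of_comm fun a b => Subsingleton.elim _ _)
    refine ⟨fun M hM => ?_⟩
    by_contra hcon
    push Not at hcon
    obtain ⟨hM0, hM1⟩ := hcon
    obtain ⟨N, ⟨hNL, hNn, hN1, hNne⟩, hmin⟩ := (Set.toFinite {N : Subgroup (G ⧸ Cfsg.solvableRadical G) |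
        N ≤ L.map π ∧ L.map π ≤ normalizer (N : Set (G ⧸ Cfsg.solvableRadical G)) ∧ N ≠ ⊥ ∧ N ≠ L.map π}).exists_minimal
      ⟨M.map (L.map π).subtype, map_subtype_le M,
        (normal_subgroupOf_iff_le_normalizer (map_subtype_le M)).1 (by
          rw [subgroupOf, comap_map_eq_self_of_injective (subtype_injective _)]; exact hM),
        fun h => hM0 ((map_eq_bot_iff_of_injective _ (subtype_injective _)).1 h),
        fun h => hM1 (by
          rw [← comap_map_eq_self_of_injective (subtype_injective _) M, h]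
          exact subgroupOf_self _)⟩
    -- a different conjugate
    obtain ⟨γ, hγ⟩ : ∃ γ, γ ∉ normalizer (N : Set (G ⧸ Cfsg.solvableRadical G)) := by
      by_contra hall
      push Not at hall
      exact hNne (hminb N (normalizer_eq_top_iff.1 (eq_top_iff.2 fun x _ => hall x)) hNL hN1)
    obtain ⟨N', hN'⟩ : ∃ N', N' = N.map (MulAut.conj γ : (G ⧸ Cfsg.solvableRadical G) →* (G ⧸ Cfsg.solvableRadical G)) := ⟨_, rfl⟩
    have hN'L : N' ≤ L.map π := hN' ▸ (map_mono hNL).trans (by
      rintro _ ⟨x, hx, rfl⟩; exact hLb.conj_mem x hx γ)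
    have hN'n : L.map π ≤ normalizer (N' : Set (G ⧸ Cfsg.solvableRadical G)) := by
      intro l hl
      have hl' : γ⁻¹ * l * γ ∈ normalizer (N : Set (G ⧸ Cfsg.solvableRadical G)) := hNn (by
        have := hLb.conj_mem l hl γ⁻¹; rwa [inv_inv] at this)
      rw [mem_normalizer_iff_map_conj_eq] at hl' ⊢
      conv_rhs => rw [hN', ← hl']
      rw [hN', map_map, map_map]
      congr 1
      ext x; simp; group
    have hint : N ⊓ N' = ⊥ := by
      by_contra hne
      have hlt : N ⊓ N' ≠ L.map π := fun h => hNne (le_antisymm hNL (h ▸ inf_le_left))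
      have h1 : N ≤ N ⊓ N' := hmin ⟨inf_le_left.trans hNL, fun l hl => by
          rw [mem_normalizer_iff]
          intro x
          rw [mem_inf, mem_inf]
          exact and_congr (mem_normalizer_iff.1 (hNn hl) x) (mem_normalizer_iff.1 (hN'n hl) x),
        hne, hlt⟩ inf_le_left
      have heq : N = N' := eq_of_le_of_card_ge (h1.trans inf_le_right) (by
        rw [hN']; exact (Nat.card_congr (Subgroup.equivMapOfInjective _ _ (MulAut.conj γ).injective).toEquiv).ge)
      exact hγ (mem_normalizer_iff_map_conj_eq.2 (by rw [← hN', ← heq]))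
    have hcomm : ∀ a ∈ N, ∀ b ∈ N', a * b = b * a := by
      intro a ha b hb
      have h1 : a * b * a⁻¹ * b⁻¹ ∈ N ⊓ N' := mem_inf.2
        ⟨by
          rw [show a * b * a⁻¹ * b⁻¹ = a * (b * a⁻¹ * b⁻¹) by group]
          exact mul_mem ha ((mem_normalizer_iff.1 (hNn (hN'L hb)) _).1 (inv_mem ha)),
        mul_mem ((mem_normalizer_iff.1 (hN'n (hNL ha)) b).1 hb) (inv_mem hb)⟩
      rw [hint, mem_bot, mul_inv_eq_one, mul_inv_eq_iff_eq_mul] at h1
      exact h1
    -- commuting elements of different prime orders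
    obtain ⟨p, hp, hpd⟩ := Nat.exists_prime_and_dvd (fun h => hN1 (card_eq_one.1 h) : Nat.card N ≠ 1)
    haveI := Fact.mk hp
    obtain ⟨x, hx⟩ := exists_prime_orderOf_dvd_card' p hpd
    rw [← Subgroup.orderOf_coe] at hx
    have hN'1 : N' ≠ ⊥ := fun h => hN1 (by
      rw [hN', map_eq_bot_iff_of_injective _ (MulAut.conj γ).injective] at h; exact h)
    have hN'sub : N'.IsSubnormal :=
      IsSubnormal.step _ _ hN'L hLb.isSubnormal ((normal_subgroupOf_iff_le_normalizer hN'L).2 hN'n)
    obtain ⟨q, hq, hqp, hqd⟩ : ∃ q, q.Prime ∧ q ≠ p ∧ q ∣ Nat.card N' := by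
      by_contra hno
      push Not at hno
      refine hN'1 (hsubn _ hN'sub ?_)
      have := IsPGroup.of_card (Nat.eq_prime_pow_of_unique_prime_dvd Nat.card_pos.ne' fun {d} hd hdd =>
        by_contra fun h => hno d hd h hdd) (p := p)
      haveI := this.isNilpotent
      infer_instance
    haveI := Fact.mk hq
    obtain ⟨y, hy⟩ := exists_prime_orderOf_dvd_card' q hqd
    rw [← Subgroup.orderOf_coe] at hy
    have hX : IsPGroup p (zpowers (x : G ⧸ Cfsg.solvableRadical G)) := isPGroup_zpowers (k := 1) (by rw [hx, pow_one])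
    have hY : IsPGroup q (zpowers (y : G ⧸ Cfsg.solvableRadical G)) := isPGroup_zpowers (k := 1) (by rw [hy, pow_one])
    have hxy : ∀ a ∈ zpowers (x : G ⧸ Cfsg.solvableRadical G), ∀ b ∈ zpowers (y : G ⧸ Cfsg.solvableRadical G),
        a * b = b * a := fun a ha b hb => hcomm a (zpowers_le.2 x.2 ha) b (zpowers_le.2 y.2 hb)
    have hYX := centralizer_le_normalizer _ hxy
    have hXY := centralizer_le_normalizer _ fun b hb a ha => (hxy a ha b hb).symm
    have h2 := twoPrimes_sup hX hY hYX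
    have hH1 : zpowers (x : G ⧸ Cfsg.solvableRadical G) ⊔ zpowers (y : G ⧸ Cfsg.solvableRadical G) ≠ ⊥ := fun h =>
      ne_one_of_orderOf_prime hx hp (zpowers_eq_bot.1 (le_bot_iff.1 (h ▸ le_sup_left)))
    have hc0 := hco _ (sup_le (zpowers_le.2 (hNL x.2)) (zpowers_le.2 (hN'L y.2))) hH1 h2
    have hc1 := hco _ (zpowers_le.2 (hNL x.2)) (zpowers_ne_bot' (ne_one_of_orderOf_prime hx hp))
      (twoPrimes_of_pGroup hX)
    have hc2 := hco _ (zpowers_le.2 (hN'L y.2)) (zpowers_ne_bot' (ne_one_of_orderOf_prime hy hq))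
      (twoPrimes_of_pGroup hY)
    have heq : normalizer (zpowers (x : G ⧸ Cfsg.solvableRadical G) : Set (G ⧸ Cfsg.solvableRadical G)) =
        normalizer (zpowers (y : G ⧸ Cfsg.solvableRadical G) : Set (G ⧸ Cfsg.solvableRadical G)) := by
      have l1 := normalizer_sup_le hqp.symm hX hY hYX
      have l2 := normalizer_sup_le hqp hY hX hXY
      rw [sup_comm] at l2
      have a1 : normalizer ((zpowers (x : G ⧸ Cfsg.solvableRadical G) ⊔ zpowers (y : G ⧸ Cfsg.solvableRadical G) :
          Subgroup _) : Set (G ⧸ Cfsg.solvableRadical G)) =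
          normalizer (zpowers (x : G ⧸ Cfsg.solvableRadical G) : Set (G ⧸ Cfsg.solvableRadical G)) := by
        by_contra hne
        exact hc1.1 (hc0.2 _ (lt_of_le_of_ne l1 hne))
      have a2 : normalizer ((zpowers (x : G ⧸ Cfsg.solvableRadical G) ⊔ zpowers (y : G ⧸ Cfsg.solvableRadical G) :
          Subgroup _) : Set (G ⧸ Cfsg.solvableRadical G)) =
          normalizer (zpowers (y : G ⧸ Cfsg.solvableRadical G) : Set (G ⧸ Cfsg.solvableRadical G)) := by
        by_contra hne
        exact hc2.1 (hc0.2 _ (lt_of_le_of_ne l2 hne))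
      exact a1.symm.trans a2
    have hN'N : N' ≤ normalizer (zpowers (y : G ⧸ Cfsg.solvableRadical G) : Set (G ⧸ Cfsg.solvableRadical G)) :=
      heq ▸ centralizer_le_normalizer _ fun a ha b hb => hcomm a (zpowers_le.2 x.2 ha) b hb
    have hy1 := hsubn _ (IsSubnormal.step _ N' (zpowers_le.2 y.2) hN'sub
      ((normal_subgroupOf_iff_le_normalizer (zpowers_le.2 y.2)).2 hN'N)) (isSolvable_twoPrimes (twoPrimes_of_pGroup hY))
    exact zpowers_ne_bot' (ne_one_of_orderOf_prime hy hq) hy1
  refine ⟨hLb, hsimp, hLns, ?_, hco, fun X => isSolvable_twoPrimes⟩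
  rw [eq_bot_iff]
  intro x hx
  obtain ⟨g, rfl⟩ := hsurj x
  rw [mem_bot, ← MonoidHom.mem_ker, hker, ← hL.cent_eq]
  have hgZ : ∀ l ∈ L, g * l * g⁻¹ * l⁻¹ ∈ Cfsg.solvableRadical G := by
    intro l hl
    rw [← hker, MonoidHom.mem_ker, map_mul, map_mul, map_mul, map_inv, map_inv,
      ← mem_centralizer_iff.1 hx _ (mem_map_of_mem π hl), mul_inv_cancel_right, mul_inv_cancel]
  -- `⁅g, L⁆` is central, so trivial on the perfect group `L`
  have hcomm : ⁅L, L⁆ ≤ centralizer ({g} : Set G) := by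
    rw [commutator_le]
    intro a ha b hb
    have hca : ∀ l ∈ L, g * a * g⁻¹ * a⁻¹ * l = l * (g * a * g⁻¹ * a⁻¹) :=
      hL.radical_central _ (mem_inf.2 ⟨hgZ a ha, mul_mem (hL.normal.conj_mem a ha g) (inv_mem ha)⟩)
    have hcb : ∀ l ∈ L, g * b * g⁻¹ * b⁻¹ * l = l * (g * b * g⁻¹ * b⁻¹) :=
      hL.radical_central _ (mem_inf.2 ⟨hgZ b hb, mul_mem (hL.normal.conj_mem b hb g) (inv_mem hb)⟩)
    obtain ⟨za, hza⟩ : ∃ za, za = g * a * g⁻¹ * a⁻¹ := ⟨_, rfl⟩
    obtain ⟨zb, hzb⟩ : ∃ zb, zb = g * b * g⁻¹ * b⁻¹ := ⟨_, rfl⟩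
    rw [← hza] at hca
    rw [← hzb] at hcb
    have hzaL : za ∈ L := hza ▸ mul_mem (hL.normal.conj_mem a ha g) (inv_mem ha)
    have hzbL : zb ∈ L := hzb ▸ mul_mem (hL.normal.conj_mem b hb g) (inv_mem hb)
    have ea : g * a * g⁻¹ = za * a := by rw [hza]; group
    have eb : g * b * g⁻¹ = zb * b := by rw [hzb]; group
    rw [mem_centralizer_singleton_iff, eq_comm, ← mul_inv_eq_iff_eq_mul]
    calc g * ⁅a, b⁆ * g⁻¹ = ⁅g * a * g⁻¹, g * b * g⁻¹⁆ := by simp only [commutatorElement_def]; group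
      _ = ⁅za * a, zb * b⁆ := by rw [ea, eb]
      _ = za * (a * (zb * (b * a⁻¹))) * (za⁻¹ * (b⁻¹ * zb⁻¹)) := by
          simp only [commutatorElement_def, mul_inv_rev, mul_assoc]
      _ = za * (zb * (a * (b * a⁻¹))) * (za⁻¹ * (b⁻¹ * zb⁻¹)) := by
          rw [← mul_assoc a zb, ← hcb a ha, mul_assoc zb a]
      _ = za * za⁻¹ * zb * (a * (b * a⁻¹) * b⁻¹) * zb⁻¹ := by
          have h1 : Commute (zb * (a * (b * a⁻¹))) za⁻¹ :=
            Commute.inv_right (hca _ (mul_mem hzbL (mul_mem ha (mul_mem hb (inv_mem ha))))).symm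
          rw [mul_assoc za, ← mul_assoc (zb * (a * (b * a⁻¹))) za⁻¹, h1.eq]
          group
      _ = ⁅a, b⁆ := by
          rw [mul_inv_cancel, one_mul, commutatorElement_def, show a * (b * a⁻¹) * b⁻¹ = a * b * a⁻¹ * b⁻¹ by group,
            hcb _ (mul_mem (mul_mem (mul_mem ha hb) (inv_mem ha)) (inv_mem hb)), mul_inv_cancel_right]
  rw [hL.perfect] at hcomm
  exact mem_centralizer_iff.2 fun l hl => mem_centralizer_singleton_iff.1 (hcomm hl)

end Cfsg.Lib.MaxNorm
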