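import Cfsg.Agent.Lib.MaxNorm.PSL
import Cfsg.Agent.Lib.GW.CMax.Diag
import Cfsg.Agent.Lib.GW.OuterPair
import Cfsg.Agent.Lib.Linear.AutPO.Minus
import Cfsg.Agent.Lib.Dickson.Existence

/-!
# The group is `PSL(2, 13)`
-/

set_option autoImplicit false
set_option linter.style.haveILetI false
set_option linter.unusedSectionVars false

namespace Cfsg.Lib.MaxNorm

open Subgroup Matrix Cfsg.Lib.Linear.AutPSL Cfsg.Lib.Linear.Descent

universe u

variable {Γ : Type u} [Group Γ] [Finite Γ] {F : Type} [Field F] [Fintype F] {L : Subgroup Γ}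

/-- An element centralizing a four group of inner elements lies in the socle. -/
theorem mem_of_cent_four [L.Normal] (e : ↥L ≃* Matrix.ProjectiveSpecialLinearGroup (Fin 2) F)
    (hC : centralizer (L : Set Γ) = ⊥) (hodd : Odd (Fintype.card F)) (hprime : (Fintype.card F).Prime)
    {d u x : Γ} (hu : u ∈ L) (hu2 : u * u = 1) (hu1 : u ≠ 1) (hx : x ∈ L) (hx2 : x * x = 1) (hx1 : x ≠ 1)
    (hux : u ≠ x) (hc : u * x = x * u) (hdu : d * u = u * d) (hdx : d * x = x * d) : d ∈ L := by
  have h2 : (2 : F) ≠ 0 := GW.CMax.Diag.two_ne_zero' hodd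
  have lift : ∀ v : Γ, v ∈ L → v * v = 1 → v ≠ 1 → ∃ A : GL (Fin 2) F,
      innd A = GW.PGL.autHom e v ∧ A.val 1 1 = -A.val 0 0 := by
    intro v hv hv2 hv1
    obtain ⟨s, hs⟩ := QuotientGroup.mk_surjective (e ⟨v, hv⟩)
    refine ⟨SpecialLinearGroup.toGL s, by rw [GW.PGL.autHom_mem e hv, ← hs, conj_mk], ?_⟩
    have hA : innd (SpecialLinearGroup.toGL s) = GW.PGL.autHom e v := by rw [GW.PGL.autHom_mem e hv, ← hs, conj_mk]
    obtain ⟨r, hr⟩ := GW.CMax.Diag.sq_scalar e hC hv2 hA
    exact GW.CMax.Diag.trace_zero_of_sq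
      (GW.CMax.Diag.exists_entry fun r => GW.CMax.Diag.not_scalar e hC hv1 hA r) hr
  obtain ⟨A, hA, hAt⟩ := lift u hu hu2 hu1
  obtain ⟨B, hB, hBt⟩ := lift x hx hx2 hx1
  obtain ⟨M, σ, hM⟩ := GW.PGL.exists_decomp_two (GW.PGL.autHom e d)
  haveI : Fact (Fintype.card F).Prime := ⟨hprime⟩
  haveI : CharP F (Fintype.card F) := charP_of_card (f := 1) le_rfl (by rw [pow_one])
  haveI : Subsingleton (F ≃+* F) := (Nat.card_eq_one_iff_unique.1
    (Cfsg.Lib.Linear.AutPO.card_gal (p := Fintype.card F) le_rfl (by rw [pow_one]))).1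
  rw [Subsingleton.elim σ 1, map_one, mul_one] at hM
  have hne : (innd A : MulAut (ProjectiveSpecialLinearGroup (Fin 2) F)) ≠ innd B := fun h =>
    hux (GW.PGL.autHom_injective e hC (by rw [← hA, ← hB, h]))
  have hcAB : (innd A : MulAut (ProjectiveSpecialLinearGroup (Fin 2) F)) * innd B = innd B * innd A := by
    rw [hA, hB, ← map_mul, ← map_mul, hc]
  have hanti := GW.OuterPair.anticommute hodd hAt hBt hcAB hne
  -- a lift commuting or anticommuting
  have hsign : ∀ (C : GL (Fin 2) F) (v : Γ), innd C = GW.PGL.autHom e v → d * v = v * d →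
      M.val * C.val = C.val * M.val ∨ M.val * C.val = -(C.val * M.val) := by
    intro C v hC' hdv
    obtain ⟨l, hl⟩ := (innd_eq_one_iff le_rfl).1
      (show (innd ((C * M)⁻¹ * (M * C)) : MulAut (ProjectiveSpecialLinearGroup (Fin 2) F)) = 1 by
        rw [map_mul, map_inv, map_mul, map_mul, ← hM, hC', ← map_mul, ← map_mul, hdv, inv_mul_cancel])
    have h3 := congrArg Units.val (show M * C = C * M * sc l by rw [← hl, mul_inv_cancel_left])
    rw [Units.val_mul, Units.val_mul, Units.val_mul, sc_val, Matrix.mul_smul, Matrix.mul_one] at h3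
    have h4 := congrArg Matrix.det h3
    rw [Matrix.det_smul, Fintype.card_fin, Matrix.det_mul, Matrix.det_mul, mul_comm C.val.det] at h4
    have hne0 : M.val.det * C.val.det ≠ 0 :=
      mul_ne_zero (GeneralLinearGroup.det M).ne_zero (GeneralLinearGroup.det C).ne_zero
    have hl2 : (l : F) * l = 1 := mul_right_cancel₀ hne0 (by rw [one_mul, ← pow_two]; exact h4.symm)
    rcases mul_self_eq_one_iff.1 hl2 with h | h
    · exact Or.inl (by rw [h3, h, one_smul])
    · exact Or.inr (by rw [h3, h, neg_one_smul])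
  -- the elements of the four group
  obtain ⟨N, v, hv, hN, hNA, hNB⟩ : ∃ (N : GL (Fin 2) F) (v : Γ), v ∈ L ∧ innd N = GW.PGL.autHom e v ∧
      (M * N).val * A.val = A.val * (M * N).val ∧ (M * N).val * B.val = B.val * (M * N).val := by
    simp only [Units.val_mul]
    rcases hsign A u hA hdu with ha | ha <;> rcases hsign B x hB hdx with hb | hb
    · exact ⟨1, 1, L.one_mem, by rw [map_one, map_one], by simp [ha], by simp [hb]⟩
    · refine ⟨A, u, hu, hA, by rw [← mul_assoc, ← ha, mul_assoc], ?_⟩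
      rw [mul_assoc, show A.val * B.val = -(B.val * A.val) by rw [hanti, neg_neg], mul_neg, ← mul_assoc, hb,
        neg_mul, neg_neg, mul_assoc]
    · refine ⟨B, x, hx, hB, ?_, by rw [← mul_assoc, ← hb, mul_assoc]⟩
      rw [mul_assoc, hanti, mul_neg, ← mul_assoc, ha, neg_mul, neg_neg, mul_assoc]
    · refine ⟨A * B, u * x, L.mul_mem hu hx, by rw [map_mul, map_mul, hA, hB], ?_, ?_⟩
      · rw [Units.val_mul, show M.val * (A.val * B.val) * A.val = M.val * A.val * (B.val * A.val) by
          simp only [mul_assoc], hanti, ha, neg_mul_neg]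
        simp only [mul_assoc]
      · have hBM : B.val * M.val = -(M.val * B.val) := by rw [hb, neg_neg]
        rw [Units.val_mul]
        calc M.val * (A.val * B.val) * B.val = -(M.val * (B.val * A.val) * B.val) := by
              rw [hanti, mul_neg, neg_mul, neg_neg]
          _ = -(M.val * B.val) * A.val * B.val := by simp only [neg_mul, mul_assoc]
          _ = B.val * (M.val * (A.val * B.val)) := by rw [← hBM]; simp only [mul_assoc]
  obtain ⟨a, b, hab⟩ := GW.OuterPair.eq_comb hAt (GW.OuterPair.val_ne_zero A) h2 hNA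
  rw [hab, Matrix.add_mul, Matrix.mul_add, Matrix.smul_mul, Matrix.smul_mul, Matrix.mul_smul, Matrix.mul_smul,
    Matrix.one_mul, Matrix.mul_one, add_right_inj, hanti, smul_neg] at hNB
  have hAB0 : A.val * B.val ≠ 0 := by rw [← Units.val_mul]; exact GW.OuterPair.val_ne_zero _
  have hb0 : b = 0 := by
    have h5 : ((2 : F) * b) • (A.val * B.val) = 0 := by
      rw [two_mul, add_smul]; conv_lhs => arg 2; rw [hNB]
      rw [add_neg_cancel]
    exact (mul_eq_zero.1 ((smul_eq_zero.1 h5).resolve_right hAB0)).resolve_left h2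
  rw [hb0, zero_smul, add_zero] at hab
  have hdv : d * v = 1 := by
    refine GW.PGL.autHom_injective e hC ?_
    rw [map_mul, map_one, hM, ← hN, ← map_mul]
    exact innd_scalar ⟨a, by rw [hab, Matrix.scalar_apply, ← Matrix.smul_one_eq_diagonal]⟩
  rw [eq_inv_of_mul_eq_one_left hdv]
  exact L.inv_mem hv

/-- `(01)(23)` -/
def aFive : alternatingGroup (Fin 5) := ⟨Equiv.swap 0 1 * Equiv.swap 2 3, Equiv.Perm.mem_alternatingGroup.2 (by decide)⟩
/-- `(02)(13)` -/
def bFive : alternatingGroup (Fin 5) := ⟨Equiv.swap 0 2 * Equiv.swap 1 3, Equiv.Perm.mem_alternatingGroup.2 (by decide)⟩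
/-- `(012)` -/
def cFive : alternatingGroup (Fin 5) := ⟨Equiv.swap 0 1 * Equiv.swap 1 2, Equiv.Perm.mem_alternatingGroup.2 (by decide)⟩
/-- `(04)(12)` -/
def gFive : alternatingGroup (Fin 5) := ⟨Equiv.swap 0 4 * Equiv.swap 1 2, Equiv.Perm.mem_alternatingGroup.2 (by decide)⟩

theorem five_facts :
    aFive * aFive = 1 ∧ bFive * bFive = 1 ∧ aFive ≠ 1 ∧ bFive ≠ 1 ∧ aFive * bFive = bFive * aFive ∧
      bFive ≠ aFive ∧ cFive * cFive * aFive * (cFive * cFive)⁻¹ = bFive ∧
      cFive * aFive * cFive⁻¹ = aFive * bFive ∧ cFive * bFive * cFive⁻¹ = aFive ∧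
      gFive * aFive * gFive⁻¹ ≠ 1 ∧ gFive * aFive * gFive⁻¹ ≠ aFive ∧ gFive * aFive * gFive⁻¹ ≠ bFive ∧
      gFive * aFive * gFive⁻¹ ≠ aFive * bFive := by decide

namespace Setting

variable (hL : Setting L)
include hL

/-- The whole group is the socle `PSL(2, 13)`. -/
theorem main : L = ⊤ ∧ ∃ (F : Type) (_ : Field F) (_ : Fintype F), Fintype.card F = 13 ∧
    Nonempty (↥L ≃* Matrix.ProjectiveSpecialLinearGroup (Fin 2) F) := by
  classical
  haveI := hL.normal
  haveI := hL.simple
  haveI : Fact (Nat.Prime 2) := ⟨Nat.prime_two⟩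
  obtain ⟨F, i, j, hodd, h3, ⟨e⟩⟩ := hL.exists_psl
  have hq := hL.card_field e hodd h3
  have hprime : (Fintype.card F).Prime := by rcases hq with h | h <;> rw [h] <;> norm_num
  have hq2 : Fintype.card F % 2 = 1 := Nat.odd_iff.1 hodd
  -- centralizers of involutions have order twelve
  have h12 : ∀ v ∈ L, v * v = 1 → v ≠ 1 → Nat.card ↥(centralizer ({v} : Set Γ) ⊓ L) = 12 := by
    intro v hv hv2 hv1
    rw [card_cent e (⟨v, hv⟩ : ↥L)]
    obtain ⟨c1, c3⟩ := Cfsg.Lib.Dickson.card_centralizer_involution hq2 (by omega)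
      (x := e ⟨v, hv⟩) (by rw [pow_two, ← map_mul]; exact e.map_eq_one_iff.2 (Subtype.ext hv2))
      (fun h => hv1 (congrArg Subtype.val (e.map_eq_one_iff.1 h)))
    rcases hq with h | h
    · rw [c3 (by omega), h]
    · rw [c1 (by omega), h]
  have hy3 : ∀ v ∈ L, v * v = 1 → v ≠ 1 → ∃ y ∈ L, orderOf y = 3 ∧ v * y = y * v := by
    intro v hv hv2 hv1
    haveI : Fact (Nat.Prime 3) := ⟨Nat.prime_three⟩
    obtain ⟨y, hy⟩ := exists_prime_orderOf_dvd_card' (G := ↥(centralizer ({v} : Set Γ) ⊓ L)) 3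
      (by rw [h12 v hv hv2 hv1]; norm_num)
    rw [← Subgroup.orderOf_coe] at hy
    exact ⟨y, (mem_inf.1 y.2).2, hy, (mem_cent.1 (mem_inf.1 y.2).1).symm⟩
  have hinv : ∀ y ∈ L, orderOf y = 3 → ∃ x ∈ L, x * x = 1 ∧ x ≠ 1 ∧ x * y * x⁻¹ = y⁻¹ := by
    intro y hy hyo
    obtain ⟨p, hpp, hp, n, hn0, hn⟩ := Cfsg.Lib.Dickson.exists_char (F := F)
    haveI := Fact.mk hpp
    have hp3 : p ≠ 3 := fun h => by
      subst h
      have : 3 ∣ Fintype.card F := hn ▸ dvd_pow_self 3 (by omega)
      rcases hq with h | h <;> omega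
    obtain ⟨g, hg⟩ := QuotientGroup.mk_surjective (e ⟨y, hy⟩)
    have ho : orderOf (e ⟨y, hy⟩) = 3 := by rw [MulEquiv.orderOf_eq, ← Subgroup.orderOf_coe, hyo]
    obtain ⟨w, hw2, hw⟩ := Cfsg.Lib.Dickson.exists_inverting p g fun h => by
      rw [hg] at h
      have h' := orderOf_dvd_of_pow_eq_one h
      rw [ho, Nat.prime_dvd_prime_iff_eq Nat.prime_three hpp] at h'
      exact hp3 h'.symm
    rw [hg] at hw
    refine ⟨(e.symm w : ↥L), (e.symm w).2, ?_, fun h => ?_, ?_⟩
    · exact congrArg Subtype.val (show e.symm w * e.symm w = 1 by rw [← map_mul, hw2, map_one])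
    · have h1 : w = 1 := e.symm.injective (by rw [map_one]; exact Subtype.ext h)
      rw [h1, one_mul, inv_one, mul_one] at hw
      have h2 := orderOf_dvd_of_pow_eq_one (show e ⟨y, hy⟩ ^ 2 = 1 by
        rw [pow_two]; exact mul_eq_one_iff_eq_inv.2 hw)
      rw [ho] at h2
      norm_num at h2
    · exact congrArg Subtype.val (show e.symm w * ⟨y, hy⟩ * (e.symm w)⁻¹ = (⟨y, hy⟩ : ↥L)⁻¹ from
        e.injective (by simp only [map_mul, map_inv, e.apply_symm_apply, hw]))
  -- the group equals its socle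
  obtain ⟨u, hu, hu2, hu1⟩ : ∃ u ∈ L, u * u = 1 ∧ u ≠ 1 := by
    obtain ⟨u, y, r, hu, hu2, hu1, -⟩ := hL.exists_cent
    exact ⟨u, hu, hu2, hu1⟩
  have htop : L = ⊤ := by
    obtain ⟨y, hy, hyo, hc⟩ := hy3 u hu hu2 hu1
    obtain ⟨x, hx, hx2, hx1, hxy⟩ := hinv y hy hyo
    have hC := hL.centralizer_eq hu hu2 hu1 Nat.prime_three (by norm_num) hy hyo hc
    have hxN : x ∈ normalizer (zpowers y : Set Γ) := by
      rw [mem_normalizer_iff_map_conj_eq, MonoidHom.map_zpowers]
      show zpowers (x * y * x⁻¹) = zpowers y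
      rw [hxy, zpowers_inv]
    have hxu : x * u = u * x := mem_cent.1 (hC ▸ hxN)
    have hux : u ≠ x := fun h => by
      rw [← h, hc, mul_inv_cancel_right] at hxy
      have h2 := orderOf_dvd_of_pow_eq_one (show y ^ 2 = 1 by rw [pow_two]; exact mul_eq_one_iff_eq_inv.2 hxy)
      rw [hyo] at h2
      norm_num at h2
    have hle : centralizer ({u} : Set Γ) ≤ L := by
      intro c hcu
      have hX : IsPGroup 2 (zpowers x) := isPGroup_zpowers_invol hx2 hx1
      have h1 := (mem_normalizer_iff.1 (hL.cent_le_normalizer_sup hu hu2 hu1 Nat.prime_three (by norm_num) hy hyo hc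
        hX (zpowers_le.2 hx) (zpowers_le.2 (mem_cent.2 hxu)) hcu) x).1 (mem_sup_right (mem_zpowers x))
      have h2 : c * x * c⁻¹ ∈ ((zpowers y ⊔ zpowers x : Subgroup Γ) : Set Γ) := h1
      rw [coe_mul_of_right_le_normalizer_left _ _ (zpowers_le.2 hxN)] at h2
      obtain ⟨a, ha, w, hw, haw⟩ := Set.mem_mul.1 h2
      rcases mem_zpowers_invol hx2 hw with h | h
      · exfalso
        rw [h, mul_one] at haw
        have h3 : orderOf a ∣ 3 := hyo ▸ orderOf_dvd_of_mem_zpowers ha
        rw [haw, orderOf_conj, orderOf_invol hx2 hx1] at h3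
        norm_num at h3
      rw [h] at haw
      obtain ⟨i, rfl⟩ := mem_zpowers_iff.1 ha
      obtain ⟨d, hd⟩ : ∃ d, d = y ^ i * c := ⟨_, rfl⟩
      have hdx : d * x = x * d := by
        rw [← mul_inv_eq_iff_eq_mul, hd, show y ^ i * c * x * (y ^ i * c)⁻¹ = y ^ i * (c * x * c⁻¹) * (y ^ i)⁻¹ by group,
          ← haw]
        have h4 : x * (y ^ i)⁻¹ = y ^ i * x := by
          rw [← _root_.zpow_neg]
          refine mul_inv_eq_iff_eq_mul.1 ?_
          rw [← conj_zpow, hxy, _root_.inv_zpow', neg_neg]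
        have h5 : y ^ (i + i + i) = 1 := by
          rw [← orderOf_dvd_iff_zpow_eq_one, hyo]; exact ⟨i, by push_cast; ring⟩
        rw [mul_assoc, mul_assoc, h4, ← mul_assoc, ← mul_assoc, ← _root_.zpow_add, ← _root_.zpow_add, h5, one_mul]
      have hdu : d * u = u * d := hd ▸ (((show Commute y u from hc.symm).zpow_left i).mul_left
        (show Commute c u from mem_cent.1 hcu)).eq
      have hdL := mem_of_cent_four e hL.cent hodd hprime hu hu2 hu1 hx hx2 hx1 hux hxu.symm hdu hdx
      rw [show c = (y ^ i)⁻¹ * d by rw [hd]; group]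
      exact L.mul_mem (L.inv_mem (L.zpow_mem hy i)) hdL
    rw [← normalizer_zpowers_invol hu2 hu1] at hle
    have hU : IsPGroup 2 (zpowers u) := isPGroup_zpowers_invol hu2 hu1
    refine (hL.coatom _ (zpowers_le.2 hu) (zpowers_ne_bot' hu1) (twoPrimes_of_pGroup hU)).2 L
      (lt_of_le_of_ne hle fun h => hL.not_le_normalizer (zpowers_le.2 hu) (zpowers_ne_bot' hu1)
        (twoPrimes_of_pGroup hU) h.ge)
  refine ⟨htop, F, i, j, hq.resolve_left fun h11 => ?_, ⟨e⟩⟩
  -- eleven is excluded by the icosahedral subgroup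
  have h2F : (2 : F) ≠ 0 := GW.CMax.Diag.two_ne_zero' hodd
  have hsq : IsSquare (5 : F) := ⟨4, by
    have h0 : ((11 : ℕ) : F) = 0 := by rw [← h11]; exact Nat.cast_card_eq_zero F
    push_cast at h0
    linear_combination (-1 : F) * h0⟩
  obtain ⟨H, ⟨f⟩⟩ := Cfsg.Lib.Dickson.exists_alternating_five h2F hsq
  obtain ⟨K, hK⟩ : ∃ K, K = (H.map e.symm.toMonoidHom).map L.subtype := ⟨_, rfl⟩
  let k : alternatingGroup (Fin 5) →* Γ :=
    L.subtype.comp (e.symm.toMonoidHom.comp (H.subtype.comp f.symm.toMonoidHom))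
  have hkK : ∀ a, k a ∈ K := fun a => hK ▸ mem_map_of_mem _ (mem_map_of_mem _ (f.symm a).2)
  have hkinj : Function.Injective k := fun a b h =>
    f.symm.injective (Subtype.ext (e.symm.injective (Subtype.ext h)))
  have hkL : ∀ a, k a ∈ L := fun a => (e.symm ((f.symm a : H) : _)).2
  obtain ⟨f1, f2, f3, f4, f5, f6, f7, f8, f9, f10, f11, f12, f13⟩ := five_facts
  obtain ⟨a, ha⟩ : ∃ a, a = k aFive := ⟨_, rfl⟩
  obtain ⟨b, hb⟩ : ∃ b, b = k bFive := ⟨_, rfl⟩
  obtain ⟨c, hc⟩ : ∃ c, c = k cFive := ⟨_, rfl⟩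
  have ha2 : a * a = 1 := by rw [ha, ← map_mul, f1, map_one]
  have hb2 : b * b = 1 := by rw [hb, ← map_mul, f2, map_one]
  have ha1 : a ≠ 1 := fun h => f3 (hkinj ((ha.symm.trans h).trans (map_one k).symm))
  have hb1 : b ≠ 1 := fun h => f4 (hkinj ((hb.symm.trans h).trans (map_one k).symm))
  have hab : a * b = b * a := by rw [ha, hb, ← map_mul, ← map_mul, f5]
  obtain ⟨V, hV⟩ : ∃ V, V = zpowers a ⊔ zpowers b := ⟨_, rfl⟩
  have hVK : V ≤ K := hV ▸ sup_le (zpowers_le.2 (ha ▸ hkK aFive)) (zpowers_le.2 (hb ▸ hkK bFive))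
  have haV : a ∈ V := hV ▸ mem_sup_left (mem_zpowers a)
  have hbV : b ∈ V := hV ▸ mem_sup_right (mem_zpowers b)
  have hab' : zpowers b ≤ normalizer (zpowers a : Set Γ) := by
    rw [normalizer_zpowers_invol ha2 ha1, zpowers_le, mem_cent]; exact hab.symm
  have hVmem : ∀ v ∈ V, v = 1 ∨ v = a ∨ v = b ∨ v = a * b := by
    intro v hv
    have hv' : v ∈ ((zpowers a ⊔ zpowers b : Subgroup Γ) : Set Γ) := hV ▸ hv
    rw [coe_mul_of_right_le_normalizer_left _ _ hab'] at hv'
    obtain ⟨p, hp, q, hq', rfl⟩ := Set.mem_mul.1 hv'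
    rcases mem_zpowers_invol ha2 hp with h | h <;> rcases mem_zpowers_invol hb2 hq' with h' | h' <;> simp [h, h']
  have hV2 : IsPGroup 2 V := hV ▸ IsPGroup.to_sup_of_normal_left'
    (isPGroup_zpowers_invol ha2 ha1) (isPGroup_zpowers_invol hb2 hb1) hab'
  have hVL : V ≤ L := by rw [htop]; exact le_top
  have hcoV := hL.coatom V hVL (fun h => ha1 (mem_bot.1 (h ▸ haV))) (twoPrimes_of_pGroup hV2)
  -- the centralizer of `V`
  have hCV : ∀ g : Γ, g * a = a * g → g * b = b * g → g * g = 1 := by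
    intro g hga hgb
    have haL : a ∈ L := ha ▸ hkL aFive
    have hbL : b ∈ L := hb ▸ hkL bFive
    have hgL : g ∈ L := by rw [htop]; trivial
    obtain ⟨y, hy, hyo, hay⟩ := hy3 a haL ha2 ha1
    obtain ⟨x, hx, hx2, hx1, hxy⟩ := hinv y hy hyo
    obtain ⟨C, hC⟩ : ∃ C, C = centralizer ({a} : Set Γ) ⊓ centralizer ({b} : Set Γ) := ⟨_, rfl⟩
    have hC2 : IsPGroup 2 C := by
      refine IsPGroup.of_card (Nat.eq_prime_pow_of_unique_prime_dvd Nat.card_pos.ne' fun {d} hd hdd => ?_)
      by_contra hd2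
      haveI : Fact d.Prime := ⟨hd⟩
      obtain ⟨s, hs⟩ := exists_prime_orderOf_dvd_card' d hdd
      rw [← Subgroup.orderOf_coe] at hs
      obtain ⟨hsa, hsb⟩ := mem_inf.1 (show (s : Γ) ∈ centralizer ({a} : Set Γ) ⊓ centralizer ({b} : Set Γ) from hC.le s.2)
      have hsL : (s : Γ) ∈ L := by rw [htop]; trivial
      have e1 := hL.centralizer_eq haL ha2 ha1 hd hd2 hsL hs (mem_cent.1 hsa).symm
      have e2 := hL.centralizer_eq hbL hb2 hb1 hd hd2 hsL hs (mem_cent.1 hsb).symm
      -- `b` would commute with `y` and with its inverter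
      have hbx : y ∈ centralizer ({b} : Set Γ) := (e1.trans e2.symm) ▸ mem_cent.2 hay.symm
      have e3 := hL.centralizer_eq haL ha2 ha1 Nat.prime_three (by norm_num) hy hyo hay
      have hxa : x ∈ centralizer ({a} : Set Γ) := by
        rw [e3, mem_normalizer_iff_map_conj_eq, MonoidHom.map_zpowers]
        show zpowers (x * y * x⁻¹) = zpowers y
        rw [hxy, zpowers_inv]
      have hxb : x ∈ centralizer ({b} : Set Γ) := (e1.trans e2.symm) ▸ hxa
      -- the Sylow subgroup `⟨a, b⟩` is central and contains all involutions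
      have hfour : IsPGroup 2 ↥(zpowers x ⊔ V) := IsPGroup.to_sup_of_normal_right'
        (isPGroup_zpowers_invol hx2 hx1) hV2 (by
          rw [zpowers_le]
          refine centralizer_le_normalizer V (V := zpowers x) (fun w hw v hv => ?_) (mem_zpowers x)
          obtain ⟨i, rfl⟩ := mem_zpowers_iff.1 hv
          refine (Commute.zpow_right ?_ i).eq
          rcases hVmem w hw with rfl | rfl | rfl | rfl
          · exact Commute.one_left x
          · exact (mem_cent.1 hxa).symm
          · exact (mem_cent.1 hxb).symm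
          · exact (show Commute a x from (mem_cent.1 hxa).symm).mul_left (mem_cent.1 hxb).symm)
      have hxV : x ∈ V := by
        obtain ⟨S, t, hS, huS, htS, ht2, ht1, htu, -, hall⟩ := hL.exists_four haL ha2 ha1 Nat.prime_three
          (by norm_num) hy hyo hay
        obtain ⟨T, hT, hle⟩ := exists_isS (L := L) (T := zpowers x ⊔ V) (by rw [htop]; exact le_top) hfour
        have hcard : Nat.card T = 4 := by
          rw [← Nat.card_congr (subgroupOfEquivOfLe hT.le).toEquiv]
          show Nat.card (hT.sylow : Subgroup ↥L) = 4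
          rw [(hT.sylow.equiv hS.sylow).toEquiv |> Nat.card_congr,
            show (hS.sylow : Subgroup ↥L) = S.subgroupOf L from rfl,
            Nat.card_congr (subgroupOfEquivOfLe hS.le).toEquiv]
          exact card_of_four huS htS ha2 ha1 ht1 htu hall
        have hVc : Nat.card V = 4 := card_of_four haV hbV ha2 ha1 hb1
          (fun h => f6 (hkinj ((hb.symm.trans h).trans ha))) hVmem
        have hVT : V = T := eq_of_le_of_card_ge ((le_sup_right).trans hle) (by rw [hVc, hcard])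
        exact hVT ▸ hle (mem_sup_left (mem_zpowers x))
      have hyV : ∀ v ∈ V, v * y = y * v := by
        intro v hv
        rcases hVmem v hv with rfl | rfl | rfl | rfl
        · rw [mul_one, one_mul]
        · exact hay
        · exact (mem_cent.1 hbx).symm
        · exact ((show Commute a y from hay).mul_left (mem_cent.1 hbx).symm).eq
      rw [hyV x hxV, mul_inv_cancel_right] at hxy
      have h2 := orderOf_dvd_of_pow_eq_one (show y ^ 2 = 1 by rw [pow_two]; exact mul_eq_one_iff_eq_inv.2 hxy)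
      rw [hyo] at h2
      norm_num at h2
    have hgC : g ∈ C := hC ▸ mem_inf.2 ⟨mem_cent.2 hga, mem_cent.2 hgb⟩
    obtain ⟨S, t, hS, huS, htS, ht2, ht1, htu, hcomm, hall⟩ := hL.exists_four haL ha2 ha1 Nat.prime_three
      (by norm_num) hy hyo hay
    obtain ⟨T, hT, hle⟩ := exists_isS (L := L) (T := C) (by rw [htop]; exact le_top) hC2
    have hgT : (⟨g, hgL⟩ : ↥L) ∈ (hT.sylow : Subgroup ↥L) := hT.mem_sylow.2 (hle hgC)
    have hsqS : ∀ z : (hS.sylow : Subgroup ↥L), z * z = 1 := by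
      intro z
      refine Subtype.ext (Subtype.ext ?_)
      show ((z : ↥L) : Γ) * ((z : ↥L) : Γ) = 1
      rcases hall _ (hS.mem_sylow.1 z.2) with h | h | h | h <;> rw [h]
      exacts [one_mul 1, ha2, ht2, mul_self_mul ha2 ht2 hcomm]
    have h1 := hsqS (hT.sylow.equiv hS.sylow ⟨_, hgT⟩)
    rw [← map_mul, MulEquiv.map_eq_one_iff] at h1
    exact congrArg (fun z : (hT.sylow : Subgroup ↥L) => ((z : ↥L) : Γ)) h1
  -- every element of the normalizer of `V` is in `K`
  have hle : normalizer (V : Set Γ) ≤ K := by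
    intro g hg
    have hga := hVmem _ ((mem_normalizer_iff.1 hg a).1 haV)
    obtain ⟨z, hz, hza, hzb⟩ : ∃ z ∈ ({1, c, c * c} : Set Γ), z * a * z⁻¹ = g * a * g⁻¹ ∧ z ∈ K := by
      have hca : c * a * c⁻¹ = k (cFive * aFive * cFive⁻¹) := by rw [map_mul, map_mul, map_inv, ← ha, ← hc]
      have hca2 : c * c * a * (c * c)⁻¹ = k (cFive * cFive * aFive * (cFive * cFive)⁻¹) := by
        rw [map_mul, map_mul, map_inv, map_mul, ← ha, ← hc]
      rcases hga with h | h | h | h
      · exact absurd (conj_eq_one_iff.1 h) ha1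
      · exact ⟨1, by simp, by rw [h]; simp, K.one_mem⟩
      · refine ⟨c * c, by simp, ?_, K.mul_mem (hc ▸ hkK cFive) (hc ▸ hkK cFive)⟩
        rw [h, hca2, hb, f7]
      · refine ⟨c, by simp, ?_, hc ▸ hkK cFive⟩
        rw [h, hca, ha, hb, ← map_mul, f8]
    have hzV : z ∈ normalizer (V : Set Γ) := by
      have hcV : c ∈ normalizer (V : Set Γ) := by
        rw [mem_normalizer_iff_map_conj_eq]
        refine eq_of_le_of_card_ge ?_
          (Nat.card_congr (Subgroup.equivMapOfInjective V _ (MulAut.conj c).injective).toEquiv).le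
        rw [hV, Subgroup.map_sup, MonoidHom.map_zpowers, MonoidHom.map_zpowers, ← hV]
        refine sup_le (zpowers_le.2 ?_) (zpowers_le.2 ?_)
        · show c * a * c⁻¹ ∈ V
          rw [show c * a * c⁻¹ = a * b by
            rw [hc, ha, hb, ← map_mul, ← map_inv, ← map_mul, ← map_mul, f8]]
          exact V.mul_mem haV hbV
        · show c * b * c⁻¹ ∈ V
          rw [show c * b * c⁻¹ = a by
            rw [hc, ha, hb, ← map_mul, ← map_inv, ← map_mul, f9]]
          exact haV
      rcases hz with rfl | rfl | rfl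
      exacts [one_mem _, hcV, mul_mem hcV hcV]
    -- `z⁻¹ g` fixes `a`, hence is an involution centralizing `V` or swapping
    obtain ⟨w, hw⟩ : ∃ w, w = z⁻¹ * g := ⟨_, rfl⟩
    have hwV : w ∈ normalizer (V : Set Γ) := hw ▸ mul_mem (inv_mem hzV) hg
    have hwa : w * a * w⁻¹ = a := by
      rw [hw, show z⁻¹ * g * a * (z⁻¹ * g)⁻¹ = z⁻¹ * (g * a * g⁻¹) * z by group, ← hza]
      group
    suffices hwK : w ∈ V by
      rw [show g = z * w by rw [hw]; group]
      exact K.mul_mem hzb (hVK hwK)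
    have hwb := hVmem _ ((mem_normalizer_iff.1 hwV b).1 hbV)
    obtain ⟨y, hy, hyo, hay⟩ := hy3 a (ha ▸ hkL aFive) ha2 ha1
    obtain ⟨S, t, hS, huS, htS, ht2, ht1, htu, hcomm, hall⟩ := hL.exists_four (ha ▸ hkL aFive) ha2 ha1 Nat.prime_three
      (by norm_num) hy hyo hay
    have hS4 : Nat.card (hS.sylow : Subgroup ↥L) = 4 := by
      rw [show (hS.sylow : Subgroup ↥L) = S.subgroupOf L from rfl,
        Nat.card_congr (subgroupOfEquivOfLe hS.le).toEquiv]
      exact card_of_four huS htS ha2 ha1 ht1 htu hall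
    have hVc : Nat.card V = 4 := card_of_four haV hbV ha2 ha1 hb1
      (fun h => f6 (hkinj ((hb.symm.trans h).trans ha))) hVmem
    -- `w` is a 2-element
    have hw2 : (w * w) * (w * w) = 1 := by
      refine hCV _ ?_ ?_
      · exact ((show Commute w a from mul_inv_eq_iff_eq_mul.1 hwa).mul_left (mul_inv_eq_iff_eq_mul.1 hwa)).eq
      · rw [← mul_inv_eq_iff_eq_mul, show w * w * b * (w * w)⁻¹ = w * (w * b * w⁻¹) * w⁻¹ by group]
        rcases hwb with h | h | h | h
        · exact absurd (conj_eq_one_iff.1 h) hb1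
        · exfalso
          rw [← hwa] at h
          exact f6 (hkinj ((hb.symm.trans (mul_left_cancel (mul_right_cancel h))).trans ha))
        · rw [h, h]
        · rw [h, show w * (a * b) * w⁻¹ = w * a * w⁻¹ * (w * b * w⁻¹) by group, hwa, h, ← mul_assoc, ha2, one_mul]
    have hW : IsPGroup 2 ↥(zpowers w ⊔ V) := by
      obtain ⟨i, -, hi⟩ := (Nat.dvd_prime_pow Nat.prime_two).1
        (orderOf_dvd_of_pow_eq_one (show w ^ 2 ^ 2 = 1 by rw [← hw2, pow_two 2, pow_mul, pow_two, pow_two]))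
      exact IsPGroup.to_sup_of_normal_right' (isPGroup_zpowers hi) hV2 (zpowers_le.2 hwV)
    obtain ⟨T, hT, hle'⟩ := exists_isS (L := L) (T := zpowers w ⊔ V) (by rw [htop]; exact le_top) hW
    have hTc : Nat.card T = 4 := by
      rw [← Nat.card_congr (subgroupOfEquivOfLe hT.le).toEquiv]
      show Nat.card (hT.sylow : Subgroup ↥L) = 4
      rw [Nat.card_congr (hT.sylow.equiv hS.sylow).toEquiv, hS4]
    have hVT : V = T := eq_of_le_of_card_ge (le_sup_right.trans hle') (by rw [hVc, hTc])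
    exact hVT ▸ hle' (mem_sup_left (mem_zpowers w))
  have hKc : Nat.card K = 60 := by
    rw [hK, ← Nat.card_congr (Subgroup.equivMapOfInjective _ L.subtype (subtype_injective L)).toEquiv,
      ← Nat.card_congr (Subgroup.equivMapOfInjective H e.symm.toMonoidHom e.symm.injective).toEquiv,
      Nat.card_congr f.toEquiv, nat_card_alternatingGroup]
    simp [Nat.factorial]
  have hΓ : Nat.card Γ = 660 := by
    have h1 : Nat.card ↥L = Nat.card Γ := by rw [htop]; exact Nat.card_congr Subgroup.topEquiv.toEquiv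
    have h2 := Cfsg.Lib.Dickson.two_mul_card_psl (F := F) hq2
    rw [← Nat.card_congr e.toEquiv, h1, h11] at h2
    omega
  have hKtop : K ≠ ⊤ := fun h => by
    rw [h, card_top, hΓ] at hKc
    omega
  have heq : normalizer (V : Set Γ) = K := by
    by_contra hne
    exact hKtop (hcoV.2 K (lt_of_le_of_ne hle hne))
  -- `A₅` would normalize a four group
  have hg := (mem_normalizer_iff.1 (heq.symm ▸ hkK gFive) a).1 haV
  rw [ha, ← map_inv, ← map_mul, ← map_mul] at hg
  rcases hVmem _ hg with h | h | h | h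
  · exact f10 (hkinj (h.trans (map_one k).symm))
  · exact f11 (hkinj (h.trans ha))
  · exact f12 (hkinj (h.trans hb))
  · rw [ha, hb, ← map_mul] at h
    exact absurd (hkinj h) (by decide)

end Setting

end Cfsg.Lib.MaxNorm
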