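import Cfsg.Agent.Lib.MaxNorm.Basic
import Cfsg.Agent.S0205
import Cfsg.Agent.S0215

/-!
# Sylow 2-subgroups of the socle and involution centralizers
-/

set_option autoImplicit false
set_option linter.style.haveILetI false
set_option linter.unusedSectionVars false

namespace Cfsg.Lib.MaxNorm

open Subgroup

universe u

variable {Γ : Type u} [Group Γ] [Finite Γ]

omit [Finite Γ] in
theorem mem_cent {u g : Γ} : g ∈ centralizer ({u} : Set Γ) ↔ g * u = u * g :=
  mem_centralizer_singleton_iff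

omit [Finite Γ] in
theorem conj_eq_self_iff {u g : Γ} : g * u * g⁻¹ = u ↔ g ∈ centralizer ({u} : Set Γ) := by
  rw [mem_cent, mul_inv_eq_iff_eq_mul]

omit [Finite Γ] in
theorem orderOf_conj (g x : Γ) : orderOf (g * x * g⁻¹) = orderOf x := (MulAut.conj g).orderOf_eq x

omit [Finite Γ] in
theorem inv_eq_self {u : Γ} (h : u * u = 1) : u⁻¹ = u := inv_eq_of_mul_eq_one_right h

omit [Finite Γ] in
theorem orderOf_invol {u : Γ} (h : u * u = 1) (h1 : u ≠ 1) : orderOf u = 2 :=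
  orderOf_eq_prime (by rw [pow_two, h]) h1

omit [Finite Γ] in
theorem mem_zpowers_invol {u x : Γ} (h : u * u = 1) (hx : x ∈ zpowers u) : x = 1 ∨ x = u := by
  obtain ⟨k, rfl⟩ := hx
  rcases Int.even_or_odd k with ⟨j, rfl⟩ | ⟨j, rfl⟩
  · left
    show u ^ (j + j) = 1
    rw [zpow_add, ← (Commute.refl u).mul_zpow, h, one_zpow]
  · right
    show u ^ (2 * j + 1) = u
    rw [zpow_add, zpow_one, zpow_mul, show u ^ (2 : ℤ) = 1 by rw [zpow_two, h], one_zpow, one_mul]

omit [Finite Γ] in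
theorem normalizer_zpowers_invol {u : Γ} (h : u * u = 1) (h1 : u ≠ 1) :
    normalizer (zpowers u : Set Γ) = centralizer ({u} : Set Γ) := by
  ext g
  rw [mem_normalizer_iff, ← conj_eq_self_iff]
  constructor
  · intro hg
    rcases mem_zpowers_invol h ((hg u).1 (mem_zpowers u)) with e | e
    · exact absurd (conj_eq_one_iff.1 e) h1
    · exact e
  · intro hg x
    refine ⟨fun hx => ?_, fun hx => ?_⟩
    · rcases mem_zpowers_invol h hx with rfl | rfl
      · simp [one_mem]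
      · rw [hg]; exact mem_zpowers x
    · rcases mem_zpowers_invol h hx with e | e
      · rw [conj_eq_one_iff.1 e]; exact one_mem _
      · rw [← hg] at e
        rw [mul_left_cancel (mul_right_cancel e)]
        exact mem_zpowers u

omit [Finite Γ] in
theorem zpowers_ne_bot' {y : Γ} (h : y ≠ 1) : zpowers y ≠ ⊥ := fun e => h (zpowers_eq_bot.1 e)

omit [Finite Γ] in
theorem isPGroup_zpowers_invol {u : Γ} (h : u * u = 1) (h1 : u ≠ 1) : IsPGroup 2 (zpowers u) :=
  isPGroup_zpowers (k := 1) (by rw [orderOf_invol h h1, pow_one])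

omit [Finite Γ] in
theorem ne_one_of_orderOf_prime {y : Γ} {r : ℕ} (hy : orderOf y = r) (hr : r.Prime) : y ≠ 1 := fun h => by
  rw [h, orderOf_one] at hy
  exact hr.one_lt.ne hy

/-- A 2-element in an odd-order cyclic subgroup is trivial. -/
theorem eq_one_of_two_mem {Q : Subgroup Γ} (hQ : IsPGroup 2 Q) {x : Γ} (hx : x ∈ Q) (ho : Odd (orderOf x)) :
    x = 1 := by
  haveI : Fact (Nat.Prime 2) := ⟨Nat.prime_two⟩
  obtain ⟨k, hk⟩ := IsPGroup.iff_orderOf.1 hQ ⟨x, hx⟩
  rw [← Subgroup.orderOf_coe] at hk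
  change orderOf x = 2 ^ k at hk
  rw [hk] at ho
  rcases Nat.eq_zero_or_pos k with rfl | h0
  · exact orderOf_eq_one_iff.1 (by rw [hk, pow_zero])
  · exact absurd ho (Nat.not_odd_iff_even.2 (even_two.pow_of_ne_zero h0.ne'))

/-- `S` is a Sylow 2-subgroup of `L`. -/
structure IsS (L S : Subgroup Γ) : Prop where
  le : S ≤ L
  two : IsPGroup 2 S
  max : ∀ Q : Subgroup Γ, Q ≤ L → IsPGroup 2 Q → S ≤ Q → Q = S

theorem exists_isS {L T : Subgroup Γ} (hT : T ≤ L) (h2 : IsPGroup 2 T) : ∃ S, IsS L S ∧ T ≤ S := by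
  classical
  obtain ⟨S, hTS, hS⟩ := (Set.toFinite {Q : Subgroup Γ | Q ≤ L ∧ IsPGroup 2 Q}).exists_le_maximal
    (show T ∈ {Q : Subgroup Γ | Q ≤ L ∧ IsPGroup 2 Q} from ⟨hT, h2⟩)
  exact ⟨S, ⟨hS.prop.1, hS.prop.2, fun Q h1 h3 h4 => (hS.eq_of_le ⟨h1, h3⟩ h4).symm⟩, hTS⟩

/-- The Sylow subgroup of `↥L` corresponding to `S`. -/
def IsS.sylow {L S : Subgroup Γ} (hS : IsS L S) : Sylow 2 ↥L where
  toSubgroup := S.subgroupOf L
  isPGroup' := hS.two.of_equiv (subgroupOfEquivOfLe hS.le).symm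
  is_maximal' {Q} hQ h := by
    have h1 := hS.max (Q.map L.subtype) (map_subtype_le Q) (hQ.map _)
      (by simpa only [map_subgroupOf_eq_of_le hS.le] using map_mono (f := L.subtype) h)
    rw [← h1, subgroupOf, comap_map_eq_self_of_injective (subtype_injective L)]

omit [Finite Γ] in
theorem IsS.mem_sylow {L S : Subgroup Γ} (hS : IsS L S) {x : ↥L} : x ∈ (hS.sylow : Subgroup ↥L) ↔ (x : Γ) ∈ S :=
  Iff.rfl

theorem IsS.mem_of_normalizes {L S : Subgroup Γ} (hS : IsS L S) {g : Γ} (hgL : g ∈ L)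
    (hg : g ∈ normalizer (S : Set Γ)) {k : ℕ} (hk : orderOf g = 2 ^ k) : g ∈ S := by
  haveI : Fact (Nat.Prime 2) := ⟨Nat.prime_two⟩
  have h2 : IsPGroup 2 ↥(zpowers g ⊔ S) :=
    IsPGroup.to_sup_of_normal_right' (isPGroup_zpowers hk) hS.two (zpowers_le.2 hg)
  rw [← hS.max _ (sup_le (zpowers_le.2 hgL) hS.le) h2 le_sup_right]
  exact mem_sup_left (mem_zpowers g)

/-- A proper subgroup of a finite 2-group is normalized by an element outside it whose square is inside. -/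
theorem exists_normalizing {T S : Subgroup Γ} (hS : IsPGroup 2 S) (hTS : T ≤ S) (hne : T ≠ S) :
    ∃ g, g ∈ S ∧ g ∉ T ∧ g ∈ normalizer (T : Set Γ) ∧ g * g ∈ T := by
  classical
  haveI : Fact (Nat.Prime 2) := ⟨Nat.prime_two⟩
  haveI : Group.IsNilpotent ↥S := hS.isNilpotent
  have hlt : T.subgroupOf S < ⊤ :=
    lt_top_iff_ne_top.2 fun e => hne (le_antisymm hTS (subgroupOf_eq_top.1 e))
  have h := Group.normalizerCondition_of_isNilpotent _ hlt
  obtain ⟨a, ha, haT⟩ := SetLike.exists_of_lt h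
  have hn : ∀ i : ℕ, ((a : Γ) ^ i) ∈ normalizer (T : Set Γ) := by
    intro i
    rw [mem_normalizer_iff]
    intro x
    have ha' := pow_mem ha i
    constructor
    · intro hx
      exact ((mem_normalizer_iff.1 ha' ⟨x, hTS hx⟩).1 hx : _)
    · intro hx
      have hxS : x ∈ S := by
        have := mul_mem (mul_mem (inv_mem (S.pow_mem a.2 i)) (hTS hx)) (S.pow_mem a.2 i)
        simpa [mul_assoc] using this
      exact (mem_normalizer_iff.1 ha' ⟨x, hxS⟩).2 hx
  obtain ⟨k, hk⟩ := IsPGroup.iff_orderOf.1 hS a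
  have hex : ∃ j : ℕ, (a : Γ) ^ (2 ^ j) ∈ T := ⟨k, by
    rw [show (a : Γ) ^ 2 ^ k = 1 by
      rw [← hk, ← Subgroup.orderOf_coe]; exact pow_orderOf_eq_one _]
    exact T.one_mem⟩
  have hj := Nat.find_spec hex
  rcases Nat.eq_zero_or_pos (Nat.find hex) with h0 | h0
  · rw [h0, pow_zero, pow_one] at hj
    exact absurd hj haT
  · refine ⟨(a : Γ) ^ 2 ^ (Nat.find hex - 1), S.pow_mem a.2 _, Nat.find_min hex (Nat.sub_one_lt h0.ne'), hn _, ?_⟩
    rw [← pow_add, ← two_mul, ← pow_succ', Nat.sub_add_cancel h0]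
    exact hj

/-- An element normalizing an odd prime order cyclic group with involutory action centralizes or inverts. -/
theorem inverts_of_not_commute {t y : Γ} {r : ℕ} (hr : r.Prime) (hy : orderOf y = r) (ht : t * t = 1)
    (hn : t ∈ normalizer (zpowers y : Set Γ)) (hc : t * y ≠ y * t) : t * y * t = y⁻¹ := by
  obtain ⟨i, hi⟩ := mem_zpowers_iff.1 ((mem_normalizer_iff.1 hn y).1 (mem_zpowers y))
  rw [inv_eq_self ht] at hi
  have h2 : y ^ (i * i) = y := by
    rw [zpow_mul, hi]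
    calc (t * y * t) ^ i = (t * y * t⁻¹) ^ i := by rw [inv_eq_self ht]
      _ = t * y ^ i * t⁻¹ := conj_zpow
      _ = t * (t * y * t) * t := by rw [hi, inv_eq_self ht]
      _ = t * t * y * (t * t) := by group
      _ = y := by rw [ht, one_mul, mul_one]
  have h3 : (r : ℤ) ∣ (i - 1) * (i + 1) := by
    rw [← hy, orderOf_dvd_iff_zpow_eq_one, show (i - 1) * (i + 1) = i * i - 1 by ring, zpow_sub_one, h2, mul_inv_cancel]
  rcases (Nat.prime_iff_prime_int.1 hr).dvd_or_dvd h3 with h | h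
  · rw [← hy, orderOf_dvd_iff_zpow_eq_one, zpow_sub_one, mul_inv_eq_one, hi] at h
    refine absurd ?_ hc
    calc t * y = t * y * (t * t) := by rw [ht, mul_one]
      _ = t * y * t * t := by group
      _ = y * t := by rw [h]
  · rw [← hy, orderOf_dvd_iff_zpow_eq_one, zpow_add_one, hi] at h
    exact eq_inv_of_mul_eq_one_left h

namespace Setting

variable {L : Subgroup Γ} (hL : Setting L)
include hL

theorem isS_ne_bot {S : Subgroup Γ} (hS : IsS L S) : S ≠ ⊥ := by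
  haveI : Fact (Nat.Prime 2) := ⟨Nat.prime_two⟩
  intro e
  refine hL.notSolvable (Cfsg.Agent.S0205.result ?_)
  rw [Nat.odd_iff]
  by_contra h
  obtain ⟨x, hx⟩ := exists_prime_orderOf_dvd_card' (G := ↥L) 2 (Nat.dvd_of_mod_eq_zero (by omega))
  rw [← Subgroup.orderOf_coe] at hx
  have := hS.max (zpowers (x : Γ)) (zpowers_le.2 x.2) (isPGroup_zpowers (k := 1) (by rw [hx, pow_one]))
    (e ▸ bot_le)
  rw [e, zpowers_eq_bot] at this
  rw [this, orderOf_one] at hx
  omega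

/-- Glauberman: no involution of a Sylow 2-subgroup is isolated. -/
theorem not_isolated {S : Subgroup Γ} (hS : IsS L S) {u : Γ} (huS : u ∈ S) (h2 : u * u = 1) (h1 : u ≠ 1) :
    ∃ g ∈ L, g * u * g⁻¹ ∈ S ∧ g * u * g⁻¹ ≠ u := by
  haveI := hL.simple
  by_contra hc
  push Not at hc
  obtain ⟨N, hN, hodd, hcomm⟩ := Cfsg.Agent.S0215.result hS.sylow (⟨u, hS.le huS⟩ : ↥L)
    (by rw [← Subgroup.orderOf_coe]; exact orderOf_invol h2 h1) huS
    fun g hg => Subtype.ext (hc g g.2 hg)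
  rcases hN.eq_bot_or_eq_top with e | e
  · have hz : (⟨u, hS.le huS⟩ : ↥L) ∈ Subgroup.center ↥L := by
      rw [mem_center_iff]
      intro g
      have h3 := hcomm g
      rw [e, mem_bot, mul_inv_eq_one, mul_inv_eq_iff_eq_mul] at h3
      exact h3.symm
    rcases (inferInstance : (Subgroup.center ↥L).Normal).eq_bot_or_eq_top with e' | e'
    · rw [e', mem_bot] at hz
      exact h1 (congrArg Subtype.val hz)
    · exact hL.notSolvable (Group.isSolvable_of_comm fun a b => mem_center_iff.1 (e' ▸ mem_top b) a)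
  · rw [e, card_top] at hodd
    exact hL.notSolvable (Cfsg.Agent.S0205.result hodd)

/-- Burnside: conjugate central elements of a Sylow 2-subgroup are conjugate in its normalizer. -/
theorem exists_normalizer_conj {S : Subgroup Γ} (hS : IsS L S) {x g : Γ} (hgL : g ∈ L) (hxL : x ∈ L)
    (hxc : ∀ s ∈ S, s * x = x * s) (hc : ∀ s ∈ S, s * (g * x * g⁻¹) = g * x * g⁻¹ * s) :
    ∃ n ∈ L, n ∈ normalizer (S : Set Γ) ∧ n * x * n⁻¹ = g * x * g⁻¹ := by
  haveI : Fact (Nat.Prime 2) := ⟨Nat.prime_two⟩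
  obtain ⟨m, hm, he⟩ := hS.sylow.conj_eq_normalizer_conj_of_mem_centralizer (⟨x, hxL⟩ : ↥L) (⟨g, hgL⟩⁻¹ : ↥L)
    (mem_centralizer_iff.2 fun s hs => Subtype.ext (hxc s hs))
    (mem_centralizer_iff.2 fun s hs => Subtype.ext (by
      show (s : Γ) * ((g⁻¹)⁻¹ * x * g⁻¹) = (g⁻¹)⁻¹ * x * g⁻¹ * s
      rw [inv_inv]; exact hc s hs))
  refine ⟨(m : Γ)⁻¹, L.inv_mem m.2, ?_, ?_⟩
  · refine inv_mem ?_
    rw [mem_normalizer_iff]
    intro z
    constructor
    · intro hz
      exact (mem_normalizer_iff.1 hm ⟨z, hS.le hz⟩).1 hz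
    · intro hz
      have hzL : z ∈ L := by
        have := L.mul_mem (L.mul_mem (L.inv_mem m.2) (hS.le hz)) m.2
        simpa [mul_assoc] using this
      exact (mem_normalizer_iff.1 hm ⟨z, hzL⟩).2 hz
  · have h3 := congrArg Subtype.val he
    simp only [Subgroup.coe_mul, Subgroup.coe_inv, inv_inv] at h3
    rw [inv_inv]
    exact h3.symm

/-- An involution commuting with an element of odd prime order has the same normalizer. -/
theorem centralizer_eq {u y : Γ} (hu : u ∈ L) (hu2 : u * u = 1) (hu1 : u ≠ 1) {r : ℕ} (hr : r.Prime) (hr2 : r ≠ 2)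
    (hy : y ∈ L) (hyo : orderOf y = r) (hc : u * y = y * u) :
    centralizer ({u} : Set Γ) = normalizer (zpowers y : Set Γ) := by
  haveI : Fact (Nat.Prime 2) := ⟨Nat.prime_two⟩
  haveI : Fact r.Prime := ⟨hr⟩
  rw [← normalizer_zpowers_invol hu2 hu1]
  refine hL.normalizer_eq_of_commute hr2.symm (isPGroup_zpowers_invol hu2 hu1)
    (isPGroup_zpowers (k := 1) (by rw [hyo, pow_one])) (zpowers_le.2 hu) (zpowers_le.2 hy) (zpowers_ne_bot' hu1)
    (zpowers_ne_bot' (ne_one_of_orderOf_prime hyo hr)) fun a ha b hb => ?_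
  obtain ⟨i, rfl⟩ := mem_zpowers_iff.1 ha
  obtain ⟨j, rfl⟩ := mem_zpowers_iff.1 hb
  exact (Commute.zpow_zpow hc i j).eq

theorem mem_cent_of_normalizes {u : Γ} (hu : u ∈ L) (hu2 : u * u = 1) (hu1 : u ≠ 1) {g : Γ}
    (hg : ∀ h, h ∈ centralizer ({u} : Set Γ) ⊓ L ↔ g * h * g⁻¹ ∈ centralizer ({u} : Set Γ) ⊓ L) :
    g ∈ centralizer ({u} : Set Γ) := by
  haveI : Fact (Nat.Prime 2) := ⟨Nat.prime_two⟩
  rw [← normalizer_zpowers_invol hu2 hu1] at hg ⊢
  exact hL.mem_of_normalizes (zpowers_le.2 hu) (zpowers_ne_bot' hu1)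
    (twoPrimes_of_pGroup (isPGroup_zpowers_invol hu2 hu1)) hg

/-- An involution whose centralizer in `L` is a 2-group is central in a Sylow 2-subgroup. -/
theorem isS_cent {u : Γ} (hu : u ∈ L) (hu2 : u * u = 1) (hu1 : u ≠ 1)
    (h : IsPGroup 2 ↥(centralizer ({u} : Set Γ) ⊓ L)) : IsS L (centralizer ({u} : Set Γ) ⊓ L) := by
  refine ⟨inf_le_right, h, fun Q hQL hQ hle => ?_⟩
  by_contra hne
  obtain ⟨g, hgQ, hgn, hgN, -⟩ := exists_normalizing hQ hle (Ne.symm hne)
  exact hgn ⟨hL.mem_cent_of_normalizes hu hu2 hu1 (mem_normalizer_iff.1 hgN), hQL hgQ⟩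

end Setting

end Cfsg.Lib.MaxNorm
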